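/-
Matrix units of the factors of a tensor power, and groups above the unimodular wreath elements.
-/
import Cfsg.Agent.Lib.Aschbacher.Proper
import Cfsg.Agent.Lib.ClassicalMax.SpinTensor
import Cfsg.Agent.Lib.ClassicalMax.Tv
import Cfsg.Agent.Lib.ClassicalMax.SympTools
import Cfsg.Agent.Lib.ClassicalMax.KronTools

set_option autoImplicit false
set_option linter.unusedSectionVars false

namespace CfsgLib.ClassicalMax.TensorWreath

open Matrix Cfsg.Geo CfsgLib.Asch
open CfsgLib.SpinTensor (pv pw_mulVec_pv pw_update_add pw_update_smul pw_eq_zero pv_single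
  pwUnit_mul pwUnit_one permUnit_mul permUnit_one permUnit_inv permUnit_conj exists_normal_form)

variable {F : Type*} [Field F] {m t : ℕ}

/-- A matrix acting on a single factor. -/
def slot (s : Fin t) (A : Matrix (Fin m) (Fin m) F) : Matrix (Fin t → Fin m) (Fin t → Fin m) F :=
  pw (Function.update 1 s A)

/-- A matrix unit of a single factor. -/
def e (s : Fin t) (a b : Fin m) : Matrix (Fin t → Fin m) (Fin t → Fin m) F :=
  slot s (Matrix.single a b 1)

lemma slot_mul (s : Fin t) (A B : Matrix (Fin m) (Fin m) F) :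
    slot s A * slot s B = slot s (A * B) := by
  rw [slot, slot, pw_mul, slot]
  congr 1
  funext i
  rcases eq_or_ne i s with rfl | h <;> simp [*]

lemma slot_add (s : Fin t) (A B : Matrix (Fin m) (Fin m) F) :
    slot s (A + B) = slot s A + slot s B := pw_update_add _ _ _ _

lemma slot_smul (s : Fin t) (c : F) (A : Matrix (Fin m) (Fin m) F) :
    slot s (c • A) = c • slot s A := pw_update_smul _ _ _ _

@[simp] lemma slot_zero (s : Fin t) : slot s (0 : Matrix (Fin m) (Fin m) F) = 0 :=
  pw_eq_zero s (by simp)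

@[simp] lemma slot_one (s : Fin t) : slot s (1 : Matrix (Fin m) (Fin m) F) = 1 := by
  rw [slot, show Function.update (1 : Fin t → Matrix (Fin m) (Fin m) F) s 1 = 1 from
    Function.update_eq_self s 1, pw_one]

lemma slot_sub (s : Fin t) (A B : Matrix (Fin m) (Fin m) F) :
    slot s (A - B) = slot s A - slot s B := by
  rw [eq_sub_iff_add_eq, ← slot_add, sub_add_cancel]

/-- The factor as an algebra map. -/
def slotHom (s : Fin t) :
    Matrix (Fin m) (Fin m) F →+* Matrix (Fin t → Fin m) (Fin t → Fin m) F where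
  toFun := slot s
  map_one' := slot_one s
  map_mul' A B := (slot_mul s A B).symm
  map_zero' := slot_zero s
  map_add' := slot_add s

@[simp] lemma slotHom_apply (s : Fin t) (A : Matrix (Fin m) (Fin m) F) : slotHom s A = slot s A := rfl

lemma slot_sum {κ : Type*} (f : κ → Matrix (Fin m) (Fin m) F) (S : Finset κ) (s : Fin t) :
    slot s (∑ k ∈ S, f k) = ∑ k ∈ S, slot s (f k) := map_sum (slotHom s) f S

lemma slot_pow (s : Fin t) (A : Matrix (Fin m) (Fin m) F) (k : ℕ) :
    slot s A ^ k = slot s (A ^ k) := (map_pow (slotHom s) A k).symm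

lemma slot_commute {s s' : Fin t} (h : s ≠ s') (A B : Matrix (Fin m) (Fin m) F) :
    Commute (slot s A) (slot s' B) := by
  show slot s A * slot s' B = slot s' B * slot s A
  rw [slot, slot, pw_mul, pw_mul]
  congr 1
  funext i
  rcases eq_or_ne i s with rfl | hi
  · simp [h]
  · simp [hi]

lemma e_mul (s : Fin t) (a b c : Fin m) : e (F := F) s a b * e s b c = e s a c := by
  rw [e, e, slot_mul, single_mul_single_same, one_mul, e]

lemma e_mul_of_ne (s : Fin t) (a d : Fin m) {b c : Fin m} (h : b ≠ c) :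
    e (F := F) s a b * e s c d = 0 := by
  rw [e, e, slot_mul, single_mul_single_of_ne _ _ _ _ h, slot_zero]

lemma sum_e (s : Fin t) : ∑ a, e (F := F) (m := m) s a a = 1 := by
  simp only [e, ← slot_sum]
  rw [show (∑ a : Fin m, Matrix.single a a (1 : F)) = 1 from by
    ext i j
    simp [Matrix.sum_apply, Matrix.single_apply, Matrix.one_apply, ite_and], slot_one]

lemma slot_eq_sum (s : Fin t) (A : Matrix (Fin m) (Fin m) F) :
    slot s A = ∑ a, ∑ b, A a b • e s a b := by
  conv_lhs => rw [matrix_eq_sum_single A]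
  simp [slot_sum, e, ← slot_smul, Matrix.smul_single]

/-- The pure product of matrix units over a set of factors. -/
def PE (P : Finset (Fin t)) (x y : Fin t → Fin m) : Matrix (Fin t → Fin m) (Fin t → Fin m) F :=
  pw fun s => if s ∈ P then Matrix.single (x s) (y s) 1 else 1

lemma PE_singleton (s : Fin t) (x y : Fin t → Fin m) :
    PE {s} x y = e (F := F) s (x s) (y s) := by
  rw [PE, e, slot]
  congr 1
  funext i
  rcases eq_or_ne i s with rfl | h <;> simp [*]

lemma PE_congr {P : Finset (Fin t)} {x y x' y' : Fin t → Fin m}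
    (h : ∀ s ∈ P, x s = x' s ∧ y s = y' s) : PE (F := F) P x y = PE P x' y' := by
  rw [PE, PE]
  congr 1
  funext s
  split_ifs with hs
  · rw [(h s hs).1, (h s hs).2]
  · rfl

lemma PE_sq {P : Finset (Fin t)} {x y : Fin t → Fin m} {s : Fin t} (hs : s ∈ P) (h : x s ≠ y s) :
    PE (F := F) P x y * PE P x y = 0 := by
  rw [PE, pw_mul]
  refine pw_eq_zero s ?_
  simp [hs, single_mul_single_of_ne _ _ _ _ h.symm]

/-- The matrix commutes with all products supported on the given factors. -/
def Comm (P : Finset (Fin t)) (T : Matrix (Fin t → Fin m) (Fin t → Fin m) F) : Prop :=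
  ∀ Z : Fin t → Matrix (Fin m) (Fin m) F, (∀ s, s ∉ P → Z s = 1) → Commute T (pw Z)

lemma Comm.pe {P : Finset (Fin t)} {T : Matrix (Fin t → Fin m) (Fin t → Fin m) F} (h : Comm P T)
    (x y : Fin t → Fin m) : Commute T (PE P x y) := h _ fun s hs => by simp [hs]

lemma Comm.slot {P : Finset (Fin t)} {T : Matrix (Fin t → Fin m) (Fin t → Fin m) F} (h : Comm P T)
    {s : Fin t} (hs : s ∈ P) (A : Matrix (Fin m) (Fin m) F) : Commute T (slot s A) :=
  h _ fun i hi => by
    rw [Function.update_of_ne (fun hh => hi (by rw [hh]; exact hs))]; rfl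

lemma Comm.add {P : Finset (Fin t)} {T T' : Matrix (Fin t → Fin m) (Fin t → Fin m) F} (h : Comm P T)
    (h' : Comm P T') : Comm P (T + T') := fun Z hZ => (h Z hZ).add_left (h' Z hZ)

lemma Comm.sub {P : Finset (Fin t)} {T T' : Matrix (Fin t → Fin m) (Fin t → Fin m) F} (h : Comm P T)
    (h' : Comm P T') : Comm P (T - T') := fun Z hZ => (h Z hZ).sub_left (h' Z hZ)

lemma Comm.mul {P : Finset (Fin t)} {T T' : Matrix (Fin t → Fin m) (Fin t → Fin m) F} (h : Comm P T)
    (h' : Comm P T') : Comm P (T * T') := fun Z hZ => (h Z hZ).mul_left (h' Z hZ)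

lemma comm_slot {P : Finset (Fin t)} {s : Fin t} (hs : s ∉ P) (A : Matrix (Fin m) (Fin m) F) :
    Comm P (slot s A) := by
  intro Z hZ
  show slot s A * pw Z = pw Z * slot s A
  rw [slot, pw_mul, pw_mul]
  congr 1
  funext i
  rcases eq_or_ne i s with rfl | hi
  · simp [hZ i hs]
  · simp [hi]

lemma pw_split (Z : Fin t → Matrix (Fin m) (Fin m) F) (s : Fin t) :
    pw Z = pw (Function.update Z s 1) * slot s (Z s) := by
  rw [slot, pw_mul]
  congr 1
  funext i
  rcases eq_or_ne i s with rfl | hi <;> simp [*]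

lemma Comm.insert {P : Finset (Fin t)} {T : Matrix (Fin t → Fin m) (Fin t → Fin m) F} (h : Comm P T)
    {s : Fin t} (hs : ∀ A, Commute T (TensorWreath.slot s A)) : Comm (Insert.insert s P) T := by
  intro Z hZ
  rw [pw_split Z s]
  refine (h _ fun i hi => ?_).mul_right (hs _)
  rcases eq_or_ne i s with rfl | his
  · simp
  · rw [Function.update_of_ne his, hZ i (by simp [hi, his])]

lemma pw_single (x y : Fin t → Fin m) :
    pw (fun s => Matrix.single (x s) (y s) (1 : F)) = Matrix.single x y 1 := by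
  ext z w
  simp only [pw, Matrix.of_apply, Matrix.single_apply]
  by_cases h : x = z ∧ y = w
  · rw [if_pos h]
    refine Finset.prod_eq_one fun i _ => ?_
    rw [if_pos ⟨congrFun h.1 i, congrFun h.2 i⟩]
  · rw [if_neg h]
    obtain ⟨i, hi⟩ : ∃ i, ¬ (x i = z i ∧ y i = w i) := by
      by_contra hc
      push Not at hc
      exact h ⟨funext fun i => (hc i).1, funext fun i => (hc i).2⟩
    exact Finset.prod_eq_zero (Finset.mem_univ i) (if_neg hi)

lemma PE_univ (x y : Fin t → Fin m) : PE (Finset.univ) x y = Matrix.single x y (1 : F) := by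
  rw [PE, ← pw_single]
  congr 1
  funext s
  simp

/-- A matrix commuting with all the factors is scalar. -/
lemma scalar_of_commute_slots [NeZero m] {T : Matrix (Fin t → Fin m) (Fin t → Fin m) F}
    (h : ∀ s A, Commute T (slot s A)) : ∃ c : F, T = c • 1 := by
  have hall : ∀ Z, Commute T (pw Z) := by
    have key : ∀ S : Finset (Fin t), Comm S T := by
      intro S
      induction S using Finset.induction_on with
      | empty =>
        intro Z hZ
        rw [show Z = 1 from funext fun s => hZ s (by simp), pw_one]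
        exact Commute.one_right T
      | @insert s S _ ih => exact ih.insert (h s)
    exact fun Z => key Finset.univ Z (by simp)
  obtain ⟨c, hc⟩ := Matrix.mem_range_scalar_of_commute_single (M := T) fun i j _ => by
    show Commute (Matrix.single i j (1 : F)) T
    rw [← pw_single]; exact (hall _).symm
  exact ⟨c, by rw [← hc, Matrix.scalar_apply, smul_one_eq_diagonal]⟩

/-- Membership of a matrix in a subgroup of the linear group. -/
def In (M : Subgroup (GL (Fin t → Fin m) F)) (A : Matrix (Fin t → Fin m) (Fin t → Fin m) F) : Prop :=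
  ∃ g ∈ M, (g : Matrix (Fin t → Fin m) (Fin t → Fin m) F) = A

variable {M : Subgroup (GL (Fin t → Fin m) F)}

lemma In.mul {A B : Matrix (Fin t → Fin m) (Fin t → Fin m) F} (hA : In M A) (hB : In M B) :
    In M (A * B) := by
  obtain ⟨g, hg, rfl⟩ := hA
  obtain ⟨h, hh, rfl⟩ := hB
  exact ⟨g * h, M.mul_mem hg hh, rfl⟩

lemma In.conj {A : Matrix (Fin t → Fin m) (Fin t → Fin m) F} (hA : In M A)
    {g : GL (Fin t → Fin m) F} (hg : g ∈ M) :
    In M ((g : Matrix _ _ F) * A * ((g⁻¹ : GL (Fin t → Fin m) F) : Matrix _ _ F)) :=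
  In.mul (In.mul ⟨g, hg, rfl⟩ hA) ⟨g⁻¹, M.inv_mem hg, rfl⟩

lemma one_sub_mul {N : Matrix (Fin t → Fin m) (Fin t → Fin m) F} (hN : N * N = 0) :
    (1 + N) * (1 - N) = 1 ∧ (1 - N) * (1 + N) = 1 := by
  constructor <;> simp [add_mul, mul_add, sub_mul, mul_sub, hN]

lemma In.neg {N : Matrix (Fin t → Fin m) (Fin t → Fin m) F} (h : In M (1 + N)) (hN : N * N = 0) :
    In M (1 - N) := by
  obtain ⟨g, hg, hgN⟩ := h
  refine ⟨g⁻¹, M.inv_mem hg, Units.inv_eq_of_mul_eq_one_right ?_⟩
  rw [hgN, (one_sub_mul hN).1]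

lemma In.add {A B : Matrix (Fin t → Fin m) (Fin t → Fin m) F} (hA : In M (1 + A)) (hB : In M (1 + B))
    (h : A * B = 0) : In M (1 + (A + B)) := by
  have := hA.mul hB
  simpa [add_mul, mul_add, h, add_comm A B, add_left_comm, add_assoc] using this

/-- The commutator of two square zero steps. -/
lemma In.comm {a b : Matrix (Fin t → Fin m) (Fin t → Fin m) F} (ha : In M (1 + a)) (hb : In M (1 + b))
    (haa : a * a = 0) (hbb : b * b = 0) (hba : b * a = 0) : In M (1 + a * b) := by
  have := ((ha.mul hb).mul (ha.neg haa)).mul (hb.neg hbb)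
  have h1 : a * b * a = 0 := by rw [mul_assoc, hba, mul_zero]
  have h2 : a * b * b = 0 := by rw [mul_assoc, hbb, mul_zero]
  convert this using 1
  simp only [add_mul, mul_add, sub_mul, mul_sub, one_mul, mul_one, haa, hbb, hba, h1, h2, zero_mul,
    mul_zero]
  abel

/-- All unimodular wreath elements lie in the group. -/
structure Hyp (M : Subgroup (GL (Fin t → Fin m) F)) : Prop where
  three_le : 3 ≤ m
  mem : ∀ h ∈ tensorWreathStandard m t F, Matrix.det (h : Matrix (Fin t → Fin m) (Fin t → Fin m) F) = 1 →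
    h ∈ M

lemma Hyp.neZero (H : Hyp M) : NeZero m := ⟨by have := H.three_le; omega⟩

lemma exists_third (h : 3 ≤ m) (a b : Fin m) : ∃ c, c ≠ a ∧ c ≠ b := by
  by_contra hc
  push Not at hc
  have : (Finset.univ : Finset (Fin m)) ⊆ {a, b} := fun c _ => by
    rcases eq_or_ne c a with rfl | hca
    · simp
    · simp [hc c hca]
  have := (Finset.card_le_card this).trans Finset.card_le_two
  rw [Finset.card_univ, Fintype.card_fin] at this
  omega

lemma exists_ne (h : 3 ≤ m) (a : Fin m) : ∃ b, b ≠ a := (exists_third h a a).imp fun _ hb => hb.1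

lemma slot_eq_pwUnit (s : Fin t) (A : GL (Fin m) F) :
    slot s (A : Matrix (Fin m) (Fin m) F) =
      (pwUnit (Function.update 1 s A) : GL (Fin t → Fin m) F).val := by
  show slot s _ = pw _
  rw [slot]
  congr 1
  funext i
  rcases eq_or_ne i s with rfl | hi <;> simp [*]

variable [Finite F]

lemma Hyp.root (H : Hyp M) (s : Fin t) {A : Matrix (Fin m) (Fin m) F} (hA : A * A = 0) :
    In M (1 + slot s A) := by
  let U : GL (Fin m) F := ⟨1 + A, 1 - A,
    by simp [add_mul, mul_sub, hA], by simp [sub_mul, mul_add, hA]⟩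
  have hU : 1 + slot s A = (pwUnit (Function.update 1 s U) : GL (Fin t → Fin m) F).val := by
    rw [← slot_eq_pwUnit, show (U : Matrix (Fin m) (Fin m) F) = 1 + A from rfl, slot_add, slot_one]
  classical
  refine ⟨_, H.mem _ (pwUnit_mem _) ?_, hU.symm⟩
  rw [← hU]
  exact CfsgLib.ClassicalMax.Kron.det_one_add_sq_zero (by rw [slot_mul, hA, slot_zero])

lemma Hyp.eroot (H : Hyp M) (s : Fin t) {a b : Fin m} (h : a ≠ b) (c : F) :
    In M (1 + c • e s a b) := by
  rw [e, ← slot_smul]
  refine H.root s ?_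
  rw [Matrix.smul_single, smul_eq_mul, mul_one, single_mul_single_of_ne _ _ _ _ h.symm]

end CfsgLib.ClassicalMax.TensorWreath
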