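/-
A group above the unimodular wreath elements with one further root-like member contains the special
linear group.
-/
import Cfsg.Agent.Lib.ClassicalMax.TensorWreath.Basic

set_option autoImplicit false
set_option linter.unusedSectionVars false

namespace CfsgLib.ClassicalMax.TensorWreath

open Matrix Cfsg.Geo CfsgLib.Asch
open CfsgLib.SpinTensor (pw_eq_zero permUnit_mul permUnit_inv)

variable {F : Type*} [Field F] {m t : ℕ}

/-- The block of a matrix in a factor. -/
def blk (s : Fin t) (k l : Fin m) (T : Matrix (Fin t → Fin m) (Fin t → Fin m) F) :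
    Matrix (Fin t → Fin m) (Fin t → Fin m) F :=
  ∑ j, e s j k * T * e s l j

lemma e_mul_blk (s : Fin t) (a d b c : Fin m) (T : Matrix (Fin t → Fin m) (Fin t → Fin m) F) :
    e s a d * blk s b c T = e s a b * T * e s c d := by
  rw [blk, Finset.mul_sum, Finset.sum_eq_single d]
  · rw [← mul_assoc, ← mul_assoc, e_mul]
  · intro j _ hj
    rw [← mul_assoc, ← mul_assoc, e_mul_of_ne _ _ _ hj.symm, zero_mul, zero_mul]
  · simp

lemma blk_mul_e (s : Fin t) (a d b c : Fin m) (T : Matrix (Fin t → Fin m) (Fin t → Fin m) F) :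
    blk s b c T * e s a d = e s a b * T * e s c d := by
  rw [blk, Finset.sum_mul, Finset.sum_eq_single a]
  · rw [mul_assoc, e_mul]
  · intro j _ hj
    rw [mul_assoc, e_mul_of_ne _ _ _ hj, mul_zero]
  · simp

lemma blk_commute (s : Fin t) (k l : Fin m) (T : Matrix (Fin t → Fin m) (Fin t → Fin m) F)
    (A : Matrix (Fin m) (Fin m) F) : Commute (blk s k l T) (slot s A) := by
  rw [slot_eq_sum]
  refine Commute.sum_right _ _ _ fun a _ => Commute.sum_right _ _ _ fun b _ => Commute.smul_right ?_ _
  show blk s k l T * e s a b = e s a b * blk s k l T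
  rw [blk_mul_e, e_mul_blk]

lemma sum_e_blk (s : Fin t) (T : Matrix (Fin t → Fin m) (Fin t → Fin m) F) :
    ∑ k, ∑ l, e s k l * blk s k l T = T := by
  simp only [e_mul_blk, ← Finset.mul_sum, sum_e, mul_one, ← Finset.sum_mul, one_mul]

lemma Comm.blk {P : Finset (Fin t)} {T : Matrix (Fin t → Fin m) (Fin t → Fin m) F} (h : Comm P T)
    {s : Fin t} (hs : s ∉ P) (k l : Fin m) : Comm P (TensorWreath.blk s k l T) := by
  intro Z hZ
  exact Commute.sum_left _ _ _ fun j _ =>
    (((comm_slot hs _) Z hZ).mul_left (h Z hZ)).mul_left ((comm_slot hs _) Z hZ)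

lemma PE_mul_e {P : Finset (Fin t)} {s : Fin t} (hs : s ∉ P) (x y : Fin t → Fin m) (a b : Fin m) :
    PE P x y * e s a b =
      PE (F := F) (insert s P) (Function.update x s a) (Function.update y s b) := by
  rw [PE, e, slot, pw_mul, PE]
  congr 1
  funext i
  rcases eq_or_ne i s with rfl | hi
  · simp [hs]
  · simp [hi]

variable {M : Subgroup (GL (Fin t → Fin m) F)}

/-- The members of the group which are pure nilpotent on the given factors. -/
def Pure (M : Subgroup (GL (Fin t → Fin m) F)) (P : Finset (Fin t)) : Prop :=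
  ∀ x y : Fin t → Fin m, (∀ s ∈ P, x s ≠ y s) → ∀ c : F, In M (1 + c • PE P x y)

variable [Finite F] (H : Hyp M)
include H

lemma pe_step_right {P : Finset (Fin t)} {x y : Fin t → Fin m} (h : ∀ c : F, In M (1 + c • PE P x y))
    {s : Fin t} (hs : s ∈ P) (hxy : x s ≠ y s) {w : Fin m} (hw : w ≠ x s) (c : F) :
    In M (1 + c • PE P x (Function.update y s w)) := by
  rcases eq_or_ne w (y s) with rfl | hwy
  · rw [Function.update_eq_self]; exact h c
  have h1 : PE (F := F) P x y * e s (y s) w = PE P x (Function.update y s w) := by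
    rw [PE, e, slot, pw_mul, PE]
    congr 1
    funext i
    rcases eq_or_ne i s with rfl | hi
    · simp [hs]
    · simp [hi]
  have h2 : e s (y s) w * PE (F := F) P x y = 0 := by
    rw [PE, e, slot, pw_mul]
    refine pw_eq_zero s ?_
    simp [hs, single_mul_single_of_ne _ _ _ _ hw]
  have := In.comm (h c) (H.eroot s hwy.symm 1) (by simp [PE_sq hs hxy])
    (by simp [e_mul_of_ne _ _ _ hwy]) (by simp [h2])
  simpa [h1] using this

lemma pe_step_left {P : Finset (Fin t)} {x y : Fin t → Fin m} (h : ∀ c : F, In M (1 + c • PE P x y))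
    {s : Fin t} (hs : s ∈ P) (hxy : x s ≠ y s) {w : Fin m} (hw : w ≠ y s) (c : F) :
    In M (1 + c • PE P (Function.update x s w) y) := by
  rcases eq_or_ne w (x s) with rfl | hwx
  · rw [Function.update_eq_self]; exact h c
  have h1 : e s w (x s) * PE (F := F) P x y = PE P (Function.update x s w) y := by
    rw [PE, e, slot, pw_mul, PE]
    congr 1
    funext i
    rcases eq_or_ne i s with rfl | hi
    · simp [hs]
    · simp [hi]
  have h2 : PE (F := F) P x y * e s w (x s) = 0 := by
    rw [PE, e, slot, pw_mul]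
    refine pw_eq_zero s ?_
    simp [hs, single_mul_single_of_ne _ _ _ _ hw.symm]
  have := In.comm (H.eroot s hwx 1) (h c) (by simp [e_mul_of_ne _ _ _ hwx.symm])
    (by simp [PE_sq hs hxy]) (by simp [h2])
  simpa [h1] using this

lemma pure_of_one {P : Finset (Fin t)} {x₀ y₀ : Fin t → Fin m} (h0 : ∀ s ∈ P, x₀ s ≠ y₀ s)
    (h : ∀ c : F, In M (1 + c • PE P x₀ y₀)) : Pure M P := by
  classical
  intro x y hxy
  suffices ∀ D : Finset (Fin t), D ⊆ P → ∀ c : F,
      In M (1 + c • PE P (D.piecewise x x₀) (D.piecewise y y₀)) by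
    intro c
    have hh := this P subset_rfl c
    rwa [PE_congr (x' := x) (y' := y) fun s hs => by simp [Finset.piecewise, hs]] at hh
  intro D
  induction D using Finset.induction_on with
  | empty => intro _ c; simpa using h c
  | @insert s D hsD ih =>
    intro hD c
    have hsP : s ∈ P := hD (Finset.mem_insert_self s D)
    have ih' := ih ((Finset.subset_insert s D).trans hD)
    obtain ⟨d, hd, hd'⟩ := exists_third H.three_le (x₀ s) (x s)
    set u := D.piecewise x x₀
    set v := D.piecewise y y₀
    have hu : u s = x₀ s := by simp [u, Finset.piecewise, hsD]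
    have hv : v s = y₀ s := by simp [v, Finset.piecewise, hsD]
    have hne : ∀ i ∈ P, u i ≠ v i := fun i hi => by
      simp only [u, v, Finset.piecewise]
      split_ifs
      · exact hxy i hi
      · exact h0 i hi
    have s1 := pe_step_right H ih' hsP (hne s hsP) (hu ▸ hd)
    have s2 := pe_step_left H s1 hsP (by simp [hu, hd.symm]) (w := x s) (by simp [hd'.symm])
    have s3 := pe_step_right H s2 hsP (by simp [hd'.symm]) (w := y s) (by simp [(hxy s hsP).symm]) c
    rw [Finset.piecewise_insert, Finset.piecewise_insert]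
    simpa using s3

omit H [Finite F] in
lemma permMat_pe (σ : Equiv.Perm (Fin t)) (P : Finset (Fin t)) (x y : Fin t → Fin m) :
    permMat σ * PE (F := F) P x y * permMat σ⁻¹ =
      PE (P.map σ.toEmbedding) (x ∘ (σ⁻¹ : Equiv.Perm (Fin t))) (y ∘ (σ⁻¹ : Equiv.Perm (Fin t))) := by
  rw [PE, permMat_conj_pw, PE]
  congr 1
  funext i
  simp [Finset.mem_map_equiv]

/-- A three cycle, as a commutator. -/
def cyc (a b c : Fin t) : Equiv.Perm (Fin t) :=
  Equiv.swap a c * Equiv.swap a b * (Equiv.swap a c)⁻¹ * (Equiv.swap a b)⁻¹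

omit H [Finite F] in
lemma cyc_apply {a b c : Fin t} (hab : a ≠ b) (hac : a ≠ c) (hbc : b ≠ c) :
    cyc a b c a = c ∧ cyc a b c b = a ∧ cyc a b c c = b := by
  simp [cyc, Equiv.swap_inv, Equiv.swap_apply_def, hab, hac, hbc, hab.symm, hac.symm, hbc.symm]

lemma cyc_mem (a b c : Fin t) : permUnit (cyc a b c) ∈ M := by
  refine H.mem _ (permUnit_mem _) ?_
  rw [← GeneralLinearGroup.val_det_apply, cyc, ← permUnit_mul, ← permUnit_mul, ← permUnit_mul,
    ← permUnit_inv, ← permUnit_inv, map_mul, map_mul, map_mul, map_inv, map_inv,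
    mul_inv_cancel_comm, mul_inv_cancel, Units.val_one]

lemma pure_union {P : Finset (Fin t)} (hP : Pure M P) {σ : Equiv.Perm (Fin t)} (hσ : permUnit σ ∈ M)
    {s₀ : Fin t} (h0 : s₀ ∈ P) (h0' : s₀ ∈ P.map σ.toEmbedding) :
    Pure M (P ∪ P.map σ.toEmbedding) := by
  classical
  haveI := H.neZero
  set P' := P.map σ.toEmbedding
  have hP' : Pure M P' := by
    intro x y hxy c
    have h := In.conj (hP (x ∘ σ) (y ∘ σ) (fun s hs => hxy _ (by simp [P', hs])) c) hσ
    rw [mul_add, add_mul, mul_one, ← Units.val_mul, mul_inv_cancel, Units.val_one,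
      Matrix.mul_smul, Matrix.smul_mul, permUnit_inv] at h
    change In M (1 + c • (permMat σ * PE P (x ∘ σ) (y ∘ σ) * permMat σ⁻¹)) at h
    rw [permMat_pe] at h
    simpa [Function.comp_assoc] using h
  let a : Fin m := ⟨0, by have := H.three_le; omega⟩
  let b : Fin m := ⟨1, by have := H.three_le; omega⟩
  let c : Fin m := ⟨2, by have := H.three_le; omega⟩
  have hab : a ≠ b := by simp [a, b]
  have hbc : b ≠ c := by simp [b, c]
  have hac : a ≠ c := by simp [a, c]
  refine pure_of_one H (x₀ := fun i => if i ∈ P then a else b)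
    (y₀ := fun i => if i ∈ P' then c else b) (fun i hi => ?_) fun d => ?_
  · by_cases h1 : i ∈ P <;> by_cases h2 : i ∈ P' <;> simp_all
  have h1 : PE (F := F) P (fun _ => a) (fun _ => b) * PE P' (fun _ => b) (fun _ => c) =
      PE (P ∪ P') (fun i => if i ∈ P then a else b) (fun i => if i ∈ P' then c else b) := by
    rw [PE, PE, pw_mul, PE]
    congr 1
    funext i
    by_cases h1 : i ∈ P <;> by_cases h2 : i ∈ P' <;> simp [h1, h2]
  have h2 : PE (F := F) P' (fun _ => b) (fun _ => c) * PE P (fun _ => a) (fun _ => b) = 0 := by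
    rw [PE, PE, pw_mul]
    refine pw_eq_zero s₀ ?_
    simp [h0, h0', single_mul_single_of_ne _ _ _ _ hac.symm]
  have := In.comm (hP (fun _ => a) (fun _ => b) (fun _ _ => hab) d)
    (hP' (fun _ => b) (fun _ => c) (fun _ _ => hbc) 1)
    (by simp [PE_sq h0 (x := fun _ => a) (y := fun _ => b) hab])
    (by simp [PE_sq h0' (x := fun _ => b) (y := fun _ => c) hbc]) (by simp [h2])
  simpa [h1] using this

lemma sl_le_of_pure_univ (hP : Pure M Finset.univ) : specialLinear (Fin t → Fin m) F ≤ M := by
  classical
  refine sl_le_of_elementary fun i j hij c => ?_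
  have hd : (Pi.single j (1 : F)) ⬝ᵥ (Pi.single i c : (Fin t → Fin m) → F) = 0 := by
    rw [single_dotProduct, one_mul, Pi.single_eq_of_ne hij.symm]
  choose z hz hz' using fun s => exists_third H.three_le (i s) (j s)
  obtain ⟨s, hs⟩ := Function.ne_iff.1 hij
  have hiz : i ≠ z := fun h => hz s (congrFun h s).symm
  have hzj : z ≠ j := fun h => hz' s (congrFun h s)
  have h1 := hP i z (fun s _ => (hz s).symm) c
  have h2 := hP z j (fun s _ => hz' s) 1
  rw [PE_univ] at h1 h2
  obtain ⟨g, hg, hgv⟩ := In.comm h1 h2 (by simp [hiz.symm]) (by simp [hzj.symm]) (by simp [hij.symm])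
  rwa [show tvGL (Pi.single i c) (Pi.single j 1) = g from Units.ext (by
    rw [hgv, coe_tvGL hd]
    ext p q
    by_cases h1 : i = p <;> by_cases h2 : j = q <;> simp_all [vecMulVec_apply, Pi.single_apply, eq_comm])]

/-- Pure nilpotent members on at least two factors give the special linear group. -/
theorem sl_le_of_pure {P : Finset (Fin t)} (h2 : 2 ≤ P.card) (hP : Pure M P) :
    specialLinear (Fin t → Fin m) F ≤ M := by
  induction hn : t - P.card using Nat.strong_induction_on generalizing P with
  | _ n ih =>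
    by_cases hu : P = Finset.univ
    · exact sl_le_of_pure_univ H (hu ▸ hP)
    obtain ⟨c, hc⟩ : ∃ c, c ∉ P := by
      by_contra hcon
      push Not at hcon
      exact hu (Finset.eq_univ_iff_forall.2 hcon)
    obtain ⟨a, ha, b, hb, hab⟩ := Finset.one_lt_card.1 h2
    obtain ⟨k1, k2, -⟩ := cyc_apply (c := c) hab (fun h => hc (by rw [← h]; exact ha))
      (fun h => hc (by rw [← h]; exact hb))
    have := pure_union H hP (cyc_mem H a b c) ha (Finset.mem_map.2 ⟨b, hb, k2⟩)
    have hlt : P.card < (P ∪ P.map (cyc a b c).toEmbedding).card :=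
      Finset.card_lt_card ((Finset.ssubset_iff_of_subset Finset.subset_union_left).2
        ⟨c, Finset.mem_union_right _ (Finset.mem_map.2 ⟨a, ha, k1⟩), hc⟩)
    have hle : (P ∪ P.map (cyc a b c).toEmbedding).card ≤ t :=
      (Finset.card_le_univ _).trans_eq (Fintype.card_fin t)
    exact ih _ (by omega) (by omega) this rfl

/-- The coefficients belonging to a pure nilpotent on some factors. -/
def InS (M : Subgroup (GL (Fin t → Fin m) F)) (P : Finset (Fin t)) (x y : Fin t → Fin m)
    (T : Matrix (Fin t → Fin m) (Fin t → Fin m) F) : Prop :=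
  Comm P T ∧ ∀ c : F, In M (1 + c • (PE P x y * T))

lemma InS.add {P : Finset (Fin t)} {x y : Fin t → Fin m} {s : Fin t} (hs : s ∈ P) (hxy : x s ≠ y s)
    {T T' : Matrix (Fin t → Fin m) (Fin t → Fin m) F} (h : InS M P x y T) (h' : InS M P x y T') :
    InS M P x y (T + T') := by
  refine ⟨h.1.add h'.1, fun c => ?_⟩
  have := In.add (h.2 c) (h'.2 c) (by
    rw [Matrix.smul_mul, Matrix.mul_smul, mul_assoc, ← mul_assoc T, (h.1.pe x y).eq, mul_assoc,
      ← mul_assoc (PE P x y), PE_sq hs hxy]
    simp)
  rwa [← smul_add, ← mul_add] at this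

omit H [Finite F] in
lemma InS.neg {P : Finset (Fin t)} {x y : Fin t → Fin m}
    {T : Matrix (Fin t → Fin m) (Fin t → Fin m) F} (h : InS M P x y T) : InS M P x y (-T) :=
  ⟨fun Z hZ => (h.1 Z hZ).neg_left, fun c => by simpa using h.2 (-c)⟩

lemma InS.diff {P : Finset (Fin t)} {x y : Fin t → Fin m} {s₁ : Fin t} (hs₁ : s₁ ∈ P)
    (hxy : x s₁ ≠ y s₁) {T : Matrix (Fin t → Fin m) (Fin t → Fin m) F} (h : InS M P x y T)
    {s : Fin t} (hs : s ∉ P) {A : Matrix (Fin m) (Fin m) F} (hA : A * A = 0) :
    InS M P x y (slot s A * T - T * slot s A - slot s A * T * slot s A) := by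
  obtain ⟨g, hg, hgv⟩ := H.root s hA
  have hN : slot s A * slot s A = 0 := by rw [slot_mul, hA, slot_zero]
  have hgi : ((g⁻¹ : GL (Fin t → Fin m) F) : Matrix (Fin t → Fin m) (Fin t → Fin m) F) = 1 - slot s A :=
    Units.inv_eq_of_mul_eq_one_right (by rw [hgv, (one_sub_mul hN).1])
  have hcc : InS M P x y ((1 + slot s A) * T * (1 - slot s A)) := by
    refine ⟨fun Z hZ => ?_, fun c => ?_⟩
    · exact (((Commute.one_left _).add_left (comm_slot hs A Z hZ)).mul_left (h.1 Z hZ)).mul_left
        ((Commute.one_left _).sub_left (comm_slot hs A Z hZ))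
    have := In.conj (h.2 c) hg
    rw [mul_add, add_mul, mul_one, ← Units.val_mul, mul_inv_cancel, Units.val_one, hgv, hgi] at this
    convert this using 2
    have hc1 : Commute (slot s A) (PE P x y) := (comm_slot hs A).pe x y
    rw [Matrix.mul_smul, Matrix.smul_mul, ← mul_assoc (1 + slot s A),
      ((Commute.one_left _).add_left hc1).eq]
    simp only [mul_assoc]
  have := InS.add H hs₁ hxy hcc (InS.neg h)
  convert this using 1
  noncomm_ring

/-- A non-scalar coefficient gives the special linear group. -/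
theorem sl_le_of_inS {P : Finset (Fin t)} {x y : Fin t → Fin m} (hne : P.Nonempty)
    (hxy : ∀ s ∈ P, x s ≠ y s) {T : Matrix (Fin t → Fin m) (Fin t → Fin m) F} (hT : InS M P x y T)
    (hns : ∀ c : F, T ≠ c • 1) : specialLinear (Fin t → Fin m) F ≤ M := by
  classical
  haveI := H.neZero
  induction hn : t - P.card using Nat.strong_induction_on generalizing P x y T with
  | _ n ih =>
    obtain ⟨s₁, hs₁⟩ := hne
    have hxy₁ := hxy s₁ hs₁
    -- a factor on which the coefficient is not trivial
    obtain ⟨s, A, hA⟩ : ∃ s A, ¬ Commute T (slot s A) := by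
      by_contra hcon
      push Not at hcon
      obtain ⟨c, hc⟩ := scalar_of_commute_slots hcon
      exact hns c hc
    have hs : s ∉ P := fun h => hA (hT.1.slot h A)
    have hmain : ∃ a b, a ≠ b ∧ ∃ T', T' ≠ 0 ∧ Comm (insert s P) T' ∧ InS M P x y (e s a b * T') := by
      have hcomm : ∀ k l, Comm (insert s P) (blk s k l T) := fun k l =>
        (hT.1.blk hs k l).insert (blk_commute s k l T)
      by_cases hoff : ∃ a b, a ≠ b ∧ blk s b a T ≠ 0
      · obtain ⟨a, b, hab, hX⟩ := hoff
        obtain ⟨c, hca, hcb⟩ := exists_third H.three_le a b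
        refine ⟨a, b, hab, blk s b a T, hX, hcomm b a, ?_⟩
        have d1 := InS.diff H hs₁ hxy₁ hT hs
          (A := Matrix.single a b 1 + Matrix.single a c (1 : F))
          (by simp [add_mul, mul_add, hab.symm, hca])
        have d2 := InS.diff H hs₁ hxy₁ hT hs (A := Matrix.single a b (1 : F)) (by simp [hab.symm])
        have d3 := InS.diff H hs₁ hxy₁ hT hs (A := Matrix.single a c (1 : F)) (by simp [hca])
        have d4 := InS.add H hs₁ hxy₁ (InS.add H hs₁ hxy₁ d2 d3) (InS.neg d1)
        have hW : InS M P x y (e s a c * blk s b a T + e s a b * blk s c a T) := by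
          convert d4 using 1
          rw [e_mul_blk, e_mul_blk, slot_add, ← e, ← e]
          noncomm_ring
        have d5 := InS.diff H hs₁ hxy₁ hW hs (A := Matrix.single c b (1 : F)) (by simp [hcb.symm])
        have hX' : e s c b * blk s b a T = blk s b a T * e s c b := by rw [blk_mul_e, e_mul_blk]
        have hY' : e s c b * blk s c a T = blk s c a T * e s c b := by rw [blk_mul_e, e_mul_blk]
        convert InS.neg d5 using 1
        rw [← e]
        have z1 : e (F := F) s c b * e s a c = 0 := e_mul_of_ne _ _ _ hab.symm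
        have z2 : e (F := F) s c b * e s a b = 0 := e_mul_of_ne _ _ _ hab.symm
        have z3 : e (F := F) s a c * e s c b = e s a b := e_mul _ _ _ _
        have z4 : e (F := F) s a b * e s c b = 0 := e_mul_of_ne _ _ _ hcb.symm
        simp only [mul_add, add_mul, ← mul_assoc, z1, z2, zero_mul, zero_add, zero_sub, sub_zero]
        simp only [mul_assoc, ← hX', ← hY']
        simp only [← mul_assoc, z3, z4, zero_mul, add_zero, neg_neg]
      · push Not at hoff
        obtain ⟨a, b, hab, hd⟩ : ∃ a b, a ≠ b ∧ blk s b b T - blk s a a T ≠ 0 := by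
          by_contra hcon
          push Not at hcon
          apply hA
          let a₀ : Fin m := ⟨0, by have := H.three_le; omega⟩
          have hT0 : T = blk s a₀ a₀ T := by
            conv_lhs => rw [← sum_e_blk s T]
            rw [show (∑ k, ∑ l, e s k l * blk s k l T) = ∑ k, e s k k * blk s a₀ a₀ T from
              Finset.sum_congr rfl fun k _ => by
                rw [Finset.sum_eq_single k (fun l _ hl => by rw [hoff l k hl, mul_zero]) (by simp)]
                rcases eq_or_ne a₀ k with rfl | hk
                · rfl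
                · rw [sub_eq_zero.1 (hcon a₀ k hk)],
              ← Finset.sum_mul, sum_e, one_mul]
          rw [hT0]
          exact blk_commute _ _ _ _ _
        refine ⟨a, b, hab, _, hd, (hcomm b b).sub (hcomm a a), ?_⟩
        convert InS.diff H hs₁ hxy₁ hT hs (A := Matrix.single a b (1 : F)) (by simp [hab.symm]) using 1
        rw [← e]
        have h0 : e s a b * T * e s a b = 0 := by rw [← e_mul_blk, hoff a b hab, mul_zero]
        have h1 : e s a b * T = e s a b * blk s b b T := by
          conv_lhs => rw [← mul_one T, ← sum_e s]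
          simp only [Finset.mul_sum, ← mul_assoc]
          rw [Finset.sum_eq_single b (fun l _ hl => by rw [← e_mul_blk, hoff l b hl, mul_zero])
            (by simp), ← e_mul_blk]
        have h2 : T * e s a b = e s a b * blk s a a T := by
          conv_lhs => rw [← one_mul T, ← sum_e s]
          simp only [Finset.sum_mul]
          rw [Finset.sum_eq_single a (fun l _ hl => by rw [← e_mul_blk, hoff a l (Ne.symm hl), mul_zero])
            (by simp), ← blk_mul_e]
          exact (blk_commute s a a T _).eq
        rw [h0, h1, h2, sub_zero, mul_sub]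
    obtain ⟨a, b, hab, T', hT'0, hT'c, hT'⟩ := hmain
    have hxy' : ∀ i ∈ insert s P, Function.update x s a i ≠ Function.update y s b i := by
      intro i hi
      rcases eq_or_ne i s with rfl | his
      · simpa using hab
      · rw [Finset.mem_insert] at hi
        simpa [his] using hxy i (hi.resolve_left his)
    have hT'' : InS M (insert s P) (Function.update x s a) (Function.update y s b) T' :=
      ⟨hT'c, fun c => by rw [← PE_mul_e hs, mul_assoc]; exact hT'.2 c⟩
    have hcard : (insert s P).card = P.card + 1 := Finset.card_insert_of_notMem hs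
    have hpos : 1 ≤ P.card := Finset.card_pos.2 ⟨s₁, hs₁⟩
    by_cases hsc : ∃ c : F, T' = c • 1
    · obtain ⟨c, rfl⟩ := hsc
      have hc0 : c ≠ 0 := fun h => hT'0 (by simp [h])
      refine sl_le_of_pure H (P := insert s P) (by omega) (pure_of_one H hxy' fun d => ?_)
      have := hT''.2 (d / c)
      rwa [Matrix.mul_smul, mul_one, smul_smul, div_mul_cancel₀ d hc0] at this
    · push Not at hsc
      have hle : (insert s P).card ≤ t := (Finset.card_le_univ _).trans_eq (Fintype.card_fin t)
      exact ih _ (by omega) (Finset.insert_nonempty s P) hxy' hT'' hsc rfl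

/-- Only scalars accompany the roots of a single factor. -/
theorem scalar_of_root (hB : ¬ specialLinear (Fin t → Fin m) F ≤ M) {s : Fin t} {a b : Fin m}
    (hab : a ≠ b) {T : Matrix (Fin t → Fin m) (Fin t → Fin m) F}
    (hT : ∀ A, Commute T (slot s A)) (h : In M (1 + e s a b * T)) : ∃ c : F, T = c • 1 := by
  by_contra hcon
  push Not at hcon
  obtain ⟨d, hda, hdb⟩ := exists_third H.three_le a b
  have hTe : ∀ p q, T * e s p q = e s p q * T := fun p q => (hT _).eq
  have sq : ∀ p q, p ≠ q → e s p q * T * (e s p q * T) = 0 := fun p q hpq => by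
    rw [mul_assoc, ← mul_assoc T, hTe, mul_assoc (e s p q) T T, ← mul_assoc,
      e_mul_of_ne _ _ _ hpq.symm, zero_mul]
  have h1 : ∀ c : F, In M (1 + c • (e s a d * T)) := by
    intro c
    have := In.comm h (H.eroot s hdb.symm c) (sq a b hab)
      (by simp [e_mul_of_ne _ _ _ hdb]) (by
        rw [Matrix.smul_mul, ← mul_assoc, e_mul_of_ne _ _ _ hda, zero_mul, smul_zero])
    rwa [Matrix.mul_smul, mul_assoc, hTe, ← mul_assoc, e_mul] at this
  have h2 : InS M {s} (fun _ => a) (fun _ => b) T := by
    refine ⟨?_, fun c => ?_⟩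
    · have h0 : Comm (∅ : Finset (Fin t)) T := fun Z hZ => by
        rw [show Z = 1 from funext fun i => hZ i (by simp), pw_one]
        exact Commute.one_right T
      simpa using h0.insert (s := s) hT
    have := In.comm (h1 c) (H.eroot s hdb 1) (by simp [sq a d hda.symm])
      (by simp [e_mul_of_ne _ _ _ hdb.symm]) (by
        rw [Matrix.smul_mul, Matrix.mul_smul, ← mul_assoc, e_mul_of_ne _ _ _ hab.symm, zero_mul,
          smul_zero, smul_zero])
    rw [PE_singleton]
    rwa [one_smul, Matrix.smul_mul, mul_assoc, hTe, ← mul_assoc, e_mul] at this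
  exact hB (sl_le_of_inS H (Finset.singleton_nonempty s)
    (fun i _ => hab) h2 hcon)

end CfsgLib.ClassicalMax.TensorWreath
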