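/-
An element carrying the roots of one factor into a group with scalar root sets respects that factor.
-/
import Cfsg.Agent.Lib.ClassicalMax.TensorWreath.Grow
import Cfsg.Agent.Lib.ClassicalMax.TensorSL

set_option autoImplicit false
set_option linter.unusedSectionVars false

namespace CfsgLib.ClassicalMax.TensorWreath

open Matrix Cfsg.Geo CfsgLib.Asch
open CfsgLib.SpinTensor (pw_eq_zero pwUnit_mul pwUnit_one)

variable {F : Type*} [Field F] {m t : ℕ}

lemma blk_mul (s : Fin t) (i l : Fin m) (T T' : Matrix (Fin t → Fin m) (Fin t → Fin m) F) :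
    ∑ k, blk s i k T * blk s k l T' = blk s i l (T * T') := by
  conv_lhs => enter [2, k, 1]; rw [blk]
  simp only [Finset.sum_mul]
  rw [Finset.sum_comm, blk]
  refine Finset.sum_congr rfl fun j _ => ?_
  simp only [mul_assoc, e_mul_blk]
  simp only [← mul_assoc (e s _ _) T', ← Finset.mul_sum, ← Finset.sum_mul, sum_e, one_mul]

lemma blk_one (s : Fin t) (i : Fin m) : blk (F := F) s i i 1 = 1 := by
  simp [blk, e_mul, sum_e]

lemma blk_e (s : Fin t) (k l a b : Fin m) (T : Matrix (Fin t → Fin m) (Fin t → Fin m) F) :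
    blk s k l T * e s a b = e s a b * blk s k l T := (blk_commute s k l T _).eq

lemma exists_conj_single (hm : 3 ≤ m) {a b : Fin m} (hab : a ≠ b) {u τ : Fin m → F} (hu : u ≠ 0)
    (hτ : τ ≠ 0) (h0 : τ ⬝ᵥ u = 0) :
    ∃ A : GL (Fin m) F, (A : Matrix (Fin m) (Fin m) F) * vecMulVec u τ =
      Matrix.single a b 1 * (A : Matrix (Fin m) (Fin m) F) := by
  classical
  have hδ : (Pi.single a (1 : F) : Fin m → F) ≠ 0 := fun h => by simpa using congrFun h a
  obtain ⟨A₁, -, hA₁⟩ := CfsgLib.ClassicalMax.Kron.exists_sl_map (by omega : 2 ≤ m) hu hδ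
  set τ₁ := τ ᵥ* ((A₁⁻¹ : GL (Fin m) F) : Matrix (Fin m) (Fin m) F) with hτ₁
  have hτA : τ₁ ᵥ* (A₁ : Matrix (Fin m) (Fin m) F) = τ := by
    rw [hτ₁, vecMul_vecMul, ← Units.val_mul, inv_mul_cancel, Units.val_one, vecMul_one]
  have ha0 : τ₁ a = 0 := by
    rw [← dotProduct_single_one τ₁ a, ← hA₁, dotProduct_mulVec, hτA, h0]
  obtain ⟨j, hj⟩ : ∃ j, τ₁ j ≠ 0 := by
    by_contra hcon
    push Not at hcon
    exact hτ (by rw [← hτA, show τ₁ = 0 from funext hcon, zero_vecMul])
  have hja : j ≠ a := fun h => hj (h ▸ ha0)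
  let σ := Equiv.swap j b
  let M₁ : Matrix (Fin m) (Fin m) F := (1 : Matrix (Fin m) (Fin m) F).updateRow b (τ₁ ∘ σ)
  let Pσ : Matrix (Fin m) (Fin m) F := σ.permMatrix F
  have hM₁ : IsUnit M₁ := by
    rw [Matrix.isUnit_iff_isUnit_det, isUnit_iff_ne_zero]
    have : M₁.det = τ₁ j := by
      have hsum : (τ₁ ∘ σ) = ∑ k, (τ₁ ∘ σ) k • (1 : Matrix (Fin m) (Fin m) F) k := by
        funext i
        simp [Finset.sum_apply, Matrix.one_apply]
      rw [show M₁ = (1 : Matrix (Fin m) (Fin m) F).updateRow b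
        (∑ k, (τ₁ ∘ σ) k • (1 : Matrix (Fin m) (Fin m) F) k) by rw [← hsum], det_updateRow_sum,
        det_one, smul_eq_mul, mul_one]
      simp [σ]
    rw [this]
    exact hj
  have hP : IsUnit Pσ := by
    rw [Matrix.isUnit_iff_isUnit_det]
    rcases Int.units_eq_one_or (Equiv.Perm.sign σ) with h | h <;> simp [Pσ, h]
  refine ⟨hM₁.unit * hP.unit * A₁, ?_⟩
  simp only [Units.val_mul, IsUnit.unit_spec]
  rw [mul_vecMulVec, show Matrix.single a b (1 : F) = vecMulVec (Pi.single a 1) (Pi.single b 1) from ?_,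
    vecMulVec_mul]
  swap
  · ext p q
    by_cases h1 : a = p <;> by_cases h2 : b = q <;>
      simp_all [vecMulVec_apply, Pi.single_apply, eq_comm]
  have hPa : Pσ *ᵥ Pi.single a 1 = Pi.single a 1 := by
    ext i
    simp [Pσ, Equiv.Perm.permMatrix, PEquiv.toMatrix_apply, σ, Pi.single_apply]
    simp only [show (Equiv.swap j b i = a) = (i = a) from propext ⟨fun h => by
      have := congrArg (Equiv.swap j b) h
      rwa [Equiv.swap_apply_self, Equiv.swap_apply_of_ne_of_ne hja.symm hab] at this,
      fun h => by rw [h, Equiv.swap_apply_of_ne_of_ne hja.symm hab]⟩]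
  have hMa : M₁ *ᵥ Pi.single a 1 = Pi.single a 1 := by
    ext i
    simp only [mulVec_single_one, Matrix.col_apply, M₁, updateRow_apply]
    split_ifs with hi
    · subst hi
      simp [σ, Equiv.swap_apply_of_ne_of_ne hja.symm hab, ha0, Pi.single_eq_of_ne hab.symm]
    · simp [Matrix.one_apply, Pi.single_apply]
  congr 1
  · rw [← mulVec_mulVec, ← mulVec_mulVec, hA₁, hPa, hMa]
  · rw [← vecMul_vecMul, ← vecMul_vecMul, single_one_vecMul]
    conv_lhs => rw [← hτA]
    congr 1
    funext i
    simp [M₁, Pσ, vecMul, dotProduct, Equiv.Perm.permMatrix, PEquiv.toMatrix_apply, σ,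
      Equiv.swap_apply_eq_iff]

variable {M : Subgroup (GL (Fin t → Fin m) F)}

lemma wreath_pwUnit_det (a : Fin t → GL (Fin m) F) (h : GL (Fin t → Fin m) F) :
    Matrix.det ((pwUnit a * h * (pwUnit a)⁻¹ : GL (Fin t → Fin m) F) :
      Matrix (Fin t → Fin m) (Fin t → Fin m) F) =
    Matrix.det (h : Matrix (Fin t → Fin m) (Fin t → Fin m) F) := by
  rw [Units.val_mul, Units.val_mul, Matrix.det_units_conj]

/-- Conjugating by a wreath element keeps the hypothesis. -/
lemma Hyp.conj (H : Hyp M) {h : GL (Fin t → Fin m) F} (hh : h ∈ tensorWreathStandard m t F) :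
    Hyp (M.map (MulAut.conj h).toMonoidHom) := by
  refine ⟨H.three_le, fun k hk hd => ⟨h⁻¹ * k * h, H.mem _ ?_ ?_, ?_⟩⟩
  · exact mul_mem (mul_mem (inv_mem hh) hk) hh
  · rw [Units.val_mul, Units.val_mul, Matrix.det_units_conj']
    exact hd
  · simp [mul_assoc]

/-- Conjugation keeps the absence of the special linear group. -/
lemma bad_conj (hB : ¬ specialLinear (Fin t → Fin m) F ≤ M) (h : GL (Fin t → Fin m) F) :
    ¬ specialLinear (Fin t → Fin m) F ≤ M.map (MulAut.conj h).toMonoidHom := by
  intro hle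
  refine hB fun g hg => ?_
  have hg' : h * g * h⁻¹ ∈ specialLinear (Fin t → Fin m) F := by
    rw [specialLinear, MonoidHom.mem_ker] at hg ⊢
    simp [hg]
  obtain ⟨k, hk, hkg⟩ := hle hg'
  have : k = g := (MulAut.conj h).injective hkg
  exact this ▸ hk

lemma In.map {A : Matrix (Fin t → Fin m) (Fin t → Fin m) F} (hA : In M A)
    (h : GL (Fin t → Fin m) F) :
    In (M.map (MulAut.conj h).toMonoidHom)
      ((h : Matrix _ _ F) * A * ((h⁻¹ : GL (Fin t → Fin m) F) : Matrix _ _ F)) := by
  obtain ⟨g, hg, rfl⟩ := hA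
  exact ⟨_, ⟨g, hg, rfl⟩, rfl⟩

variable [Finite F] (H : Hyp M) (hB : ¬ specialLinear (Fin t → Fin m) F ≤ M)
include H hB

theorem scalar_of_root' {s : Fin t} {u τ : Fin m → F} (hu : u ≠ 0) (hτ : τ ≠ 0) (h0 : τ ⬝ᵥ u = 0)
    {T : Matrix (Fin t → Fin m) (Fin t → Fin m) F}
    (hT : ∀ A, Commute T (slot s A)) (h : In M (1 + slot s (vecMulVec u τ) * T)) :
    ∃ c : F, T = c • 1 := by
  let a : Fin m := ⟨0, by have := H.three_le; omega⟩
  let b : Fin m := ⟨1, by have := H.three_le; omega⟩
  have hab : a ≠ b := by simp [a, b]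
  obtain ⟨A, hA⟩ := exists_conj_single H.three_le hab hu hτ h0
  set k : GL (Fin t → Fin m) F := pwUnit (Function.update 1 s A) with hk
  have hkv : (k : Matrix (Fin t → Fin m) (Fin t → Fin m) F) = slot s (A : Matrix (Fin m) (Fin m) F) :=
    (slot_eq_pwUnit s A).symm
  have hkT : Commute T (k : Matrix (Fin t → Fin m) (Fin t → Fin m) F) := hkv ▸ hT _
  refine scalar_of_root (H.conj (pwUnit_mem (Function.update 1 s A))) (bad_conj hB k) hab hT ?_
  have h1 := h.map k
  rw [mul_add, add_mul, mul_one, ← Units.val_mul, mul_inv_cancel, Units.val_one,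
    ← mul_assoc _ (slot s (vecMulVec u τ)) T] at h1
  rw [hkv, slot_mul, hA, ← slot_mul, ← e, mul_assoc (e s a b),
    ← (hT (A : Matrix (Fin m) (Fin m) F)).eq, ← hkv, ← mul_assoc, mul_assoc (e s a b * T),
    ← Units.val_mul, mul_inv_cancel, Units.val_one, mul_one] at h1
  exact h1

/-- An element centralising a root of a factor and carrying the roots of that factor into the group
is a product over that factor. -/
theorem block {g : GL (Fin t → Fin m) F} {s : Fin t} {o i : Fin m} (hoi : o ≠ i)
    (hg : (g : Matrix (Fin t → Fin m) (Fin t → Fin m) F) * e s o i = e s o i * (g : Matrix _ _ F))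
    (hroot : ∀ A : Matrix (Fin m) (Fin m) F, A * A = 0 →
      In M ((g : Matrix (Fin t → Fin m) (Fin t → Fin m) F) * (1 + slot s A) *
        ((g⁻¹ : GL (Fin t → Fin m) F) : Matrix (Fin t → Fin m) (Fin t → Fin m) F))) :
    ∃ (S : Matrix (Fin m) (Fin m) F) (B : Matrix (Fin t → Fin m) (Fin t → Fin m) F),
      (∀ A, Commute B (slot s A)) ∧ (g : Matrix (Fin t → Fin m) (Fin t → Fin m) F) = slot s S * B := by
  classical
  set G : Matrix (Fin t → Fin m) (Fin t → Fin m) F := (g : Matrix (Fin t → Fin m) (Fin t → Fin m) F)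
    with hG
  set G' : Matrix (Fin t → Fin m) (Fin t → Fin m) F :=
    ((g⁻¹ : GL (Fin t → Fin m) F) : Matrix (Fin t → Fin m) (Fin t → Fin m) F) with hG'
  have hGG : G * G' = 1 := by rw [hG, hG', ← Units.val_mul, mul_inv_cancel, Units.val_one]
  have hGG' : G' * G = 1 := by rw [hG, hG', ← Units.val_mul, inv_mul_cancel, Units.val_one]
  have hg' : G' * e s o i = e s o i * G' := by
    calc G' * e s o i = G' * (e s o i * G) * G' := by rw [mul_assoc, mul_assoc, hGG, mul_one]
      _ = _ := by rw [← hg, ← mul_assoc G' G, hGG', one_mul]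
  have hrow : ∀ l, l ≠ i → blk s i l G = 0 := fun l hl => by
    refine Finset.sum_eq_zero fun j _ => ?_
    rw [← e_mul s j o i, mul_assoc (e s j o), ← hg, mul_assoc, mul_assoc G, e_mul_of_ne _ _ _ hl.symm,
      mul_zero, mul_zero]
  have hrow' : ∀ l, l ≠ i → blk s i l G' = 0 := fun l hl => by
    refine Finset.sum_eq_zero fun j _ => ?_
    rw [← e_mul s j o i, mul_assoc (e s j o), ← hg', mul_assoc, mul_assoc G', e_mul_of_ne _ _ _ hl.symm,
      mul_zero, mul_zero]
  have hoo : blk s o o G' = blk s i i G' := by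
    refine Finset.sum_congr rfl fun j _ => ?_
    rw [← e_mul s o i j, mul_assoc, ← mul_assoc G', hg', ← mul_assoc, ← mul_assoc, e_mul]
  set G₁ := blk s i i G with hG₁
  set C := blk s i i G' with hC
  have h1C : G₁ * C = 1 := by
    have := blk_mul s i i G G'
    rwa [hGG, blk_one, Finset.sum_eq_single i (fun k _ hk => by rw [hrow k hk, zero_mul]) (by simp)]
      at this
  have hC1 : C * G₁ = 1 := by
    have := blk_mul s i i G' G
    rwa [hGG', blk_one, Finset.sum_eq_single i (fun k _ hk => by rw [hrow' k hk, zero_mul]) (by simp)]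
      at this
  have hsq : ∀ {A : Matrix (Fin m) (Fin m) F}, A * A = 0 →
      G * slot s A * G' * (G * slot s A * G') = 0 := fun {A} hA => by
    rw [mul_assoc (G * slot s A), ← mul_assoc G' (G * slot s A), ← mul_assoc G' G, hGG', one_mul,
      ← mul_assoc, mul_assoc G, slot_mul, hA, slot_zero, mul_zero, zero_mul]
  have hN : ∀ {A : Matrix (Fin m) (Fin m) F}, A * A = 0 → In M (1 + G * slot s A * G') := fun {A} hA => by
    have := hroot A hA
    rwa [mul_add, add_mul, mul_one, hGG] at this
  have hse : ∀ {a b : Fin m}, a ≠ b → Matrix.single a b (1 : F) * Matrix.single a b 1 = 0 :=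
    fun hab => single_mul_single_of_ne _ _ _ _ hab.symm _
  -- the rows of the inverse
  have hτ : ∀ a b, a ≠ o → ∃ c : F, blk s a b G' = c • C := by
    intro a b ha
    obtain ⟨d, hdo, hdb⟩ := exists_third H.three_le o b
    have h1 := In.comm (hN (hse ha.symm)) (H.eroot s hdb.symm 1) (hsq (hse ha.symm))
      (by simp [e_mul_of_ne _ _ _ hdb]) (by
        rw [one_smul, ← e, ← e_mul s o i a, ← mul_assoc G, hg, mul_assoc (e s o i), ← mul_assoc,
          ← mul_assoc, ← mul_assoc, e_mul_of_ne _ _ _ hdo]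
        simp)
    have h2 : G * slot s (Matrix.single o a 1) * G' * (1 : F) • e s b d = e s o d * (G₁ * blk s a b G') := by
      rw [one_smul, ← e, ← e_mul s o i a, ← mul_assoc G, hg, ← mul_assoc (e s o d), hG₁, e_mul_blk,
        mul_assoc _ (e s i d), e_mul_blk]
      simp only [mul_assoc]
    rw [h2] at h1
    obtain ⟨c, hc⟩ := scalar_of_root H hB hdo.symm
      (fun A => (blk_commute s i i G A).mul_left (blk_commute s a b G' A)) h1
    refine ⟨c, ?_⟩
    rw [← one_mul (blk s a b G'), ← hC1, mul_assoc, hc, Matrix.mul_smul, mul_one]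
  -- the columns
  have hσ : ∀ a b, b ≠ i → ∃ c : F, blk s a b G = c • G₁ := by
    intro a b hb
    obtain ⟨p, hpi, hpa⟩ := exists_third H.three_le i a
    have h1 := In.comm (H.eroot s hpa 1) (hN (hse hb)) (by simp [e_mul_of_ne _ _ _ hpa.symm])
      (hsq (hse hb)) (by
        rw [one_smul, ← e, ← e_mul s b o i, ← mul_assoc G, mul_assoc (G * e s b o), ← hg', mul_assoc,
          mul_assoc G', e_mul_of_ne _ _ _ hpi.symm, mul_zero, mul_zero])
    have h2 : (1 : F) • e s p a * (G * slot s (Matrix.single b i 1) * G') = e s p i * (blk s a b G * C) := by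
      rw [one_smul, ← e, ← e_mul s b o i, ← mul_assoc (e s p i), ← blk_e,
        mul_assoc (blk s a b G), ← hoo, e_mul_blk, ← mul_assoc (blk s a b G), ← mul_assoc (blk s a b G),
        blk_mul_e, mul_assoc _ G', hg']
      simp only [mul_assoc]
    rw [h2] at h1
    obtain ⟨c, hc⟩ := scalar_of_root H hB hpi
      (fun A => (blk_commute s a b G A).mul_left (blk_commute s i i G' A)) h1
    refine ⟨c, ?_⟩
    rw [← mul_one (blk s a b G), ← hC1, ← mul_assoc, hc, Matrix.smul_mul, one_mul]
  -- the remaining column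
  obtain ⟨d, hdo, hdi⟩ := exists_third H.three_le o i
  choose τ hτd using fun l => hτ d l hdo
  have hτ0 : τ ≠ 0 := by
    intro h0
    haveI := H.neZero
    have := blk_mul s d d G' G
    rw [hGG', blk_one] at this
    rw [Finset.sum_eq_zero (fun k _ => by rw [hτd, h0, Pi.zero_apply, zero_smul, zero_mul])] at this
    exact zero_ne_one this
  have hall : ∀ k l, ∃ c : F, blk s k l G = c • G₁ := by
    intro k l
    by_cases hl : l = i
    swap
    · exact hσ k l hl
    subst hl
    obtain ⟨p, hpk⟩ := exists_ne H.three_le k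
    obtain ⟨q, hqk, hqp⟩ := exists_third H.three_le k p
    obtain ⟨u, hu0, huk, huτ⟩ : ∃ u : Fin m → F, u ≠ 0 ∧ u k = 0 ∧ τ ⬝ᵥ u = 0 := by
      by_cases hp : τ p = 0
      · exact ⟨Pi.single p 1, fun h => by simpa using congrFun h p, Pi.single_eq_of_ne hpk.symm 1,
          by simp [hp]⟩
      · refine ⟨Pi.single q 1 - Pi.single p (τ q / τ p), fun h => by simpa [hqp, hqp.symm] using congrFun h q,
          by simp [hpk.symm, hqk.symm], ?_⟩
        rw [dotProduct_sub, dotProduct_single, dotProduct_single, mul_one, mul_div_cancel₀ _ hp, sub_self]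
    set A := vecMulVec u (Pi.single k (1 : F)) with hA
    have hAA : A * A = 0 := by
      rw [hA, vecMulVec_mul_vecMulVec, single_dotProduct, huk, mul_zero, zero_smul, vecMulVec_zero]
    have hslot : slot s A = ∑ a, u a • e s a k := by
      rw [hA, show vecMulVec u (Pi.single k (1 : F)) = ∑ a, u a • Matrix.single a k 1 from ?_]
      · simp [slot_sum, e, ← slot_smul, Matrix.smul_single]
      ext p q
      by_cases hq : q = k
      · subst hq; simp [vecMulVec_apply, Matrix.sum_apply, Matrix.single_apply]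
      · simp [vecMulVec_apply, Matrix.sum_apply, Matrix.single_apply, hq, Ne.symm hq]
    have hsd := hse (a := l) (b := d) hdi.symm
    have hedk : ∀ a, G * e s l d * G' * e s a k = τ a • (G * e s l k * C) := fun a => by
      rw [show G * e s l d * G' * e s a k = G * (e s l l * (e s l d * G' * e s a k)) by
          simp only [← mul_assoc]; rw [mul_assoc G (e s l l), e_mul],
        ← e_mul_blk, hτd, Matrix.mul_smul, Matrix.mul_smul, Matrix.mul_smul, ← mul_assoc (e s l l),
        e_mul, mul_assoc]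
    have hzero : G * slot s (Matrix.single l d 1) * G' * slot s A = 0 := by
      rw [← e, hslot, Finset.mul_sum]
      simp only [Matrix.mul_smul, hedk, smul_smul, ← Finset.sum_smul]
      rw [show ∑ a, u a * τ a = τ ⬝ᵥ u from Finset.sum_congr rfl fun a _ => mul_comm _ _, huτ, zero_smul]
    have h1 := In.comm (H.root s hAA) (hN hsd) (by rw [slot_mul, hAA, slot_zero]) (hsq hsd) hzero
    have h2 : slot s A * (G * slot s (Matrix.single l d 1) * G') =
        slot s (vecMulVec u τ) * (blk s k l G * C) := by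
      have key : ∀ a b, e s a k * (G * e s l d * G') * e s b b =
          τ b • (e s a b * (blk s k l G * C)) := fun a b => by
        calc e s a k * (G * e s l d * G') * e s b b
            = (e s a d * blk s k l G) * G' * e s b b := by rw [e_mul_blk]; simp only [mul_assoc]
          _ = blk s k l G * (e s a d * G' * e s b b) := by
              rw [← blk_e]; simp only [mul_assoc]
          _ = τ b • (blk s k l G * (e s a b * C)) := by
              rw [← e_mul_blk, hτd, Matrix.mul_smul, Matrix.mul_smul]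
          _ = _ := by rw [← mul_assoc, blk_e, mul_assoc]
      rw [← e, hslot, slot_eq_sum s (vecMulVec u τ), Finset.sum_mul, Finset.sum_mul]
      refine Finset.sum_congr rfl fun a _ => ?_
      conv_lhs => rw [← mul_one (_ * _), ← sum_e s, Finset.mul_sum]
      rw [Finset.sum_mul]
      refine Finset.sum_congr rfl fun b _ => ?_
      rw [Matrix.smul_mul, Matrix.smul_mul, key, smul_smul, Matrix.smul_mul, vecMulVec_apply]
    rw [h2] at h1
    obtain ⟨c, hc⟩ := scalar_of_root' H hB hu0 hτ0 huτ
      (fun A' => (blk_commute s k l G A').mul_left (blk_commute s l l G' A')) h1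
    refine ⟨c, ?_⟩
    rw [← mul_one (blk s k l G), ← hC1, ← mul_assoc, hc, Matrix.smul_mul, one_mul]
  choose S hS using hall
  refine ⟨Matrix.of S, G₁, blk_commute s i i G, ?_⟩
  rw [slot_eq_sum, Finset.sum_mul]
  simp only [Finset.sum_mul, Matrix.smul_mul, Matrix.of_apply, ← Matrix.mul_smul, ← hS, sum_e_blk]

end CfsgLib.ClassicalMax.TensorWreath
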