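/-
Splitting off the first factor of a tensor power.
-/
import Cfsg.Agent.Lib.ClassicalMax.TensorWreath.Block

set_option autoImplicit false
set_option linter.unusedSectionVars false

namespace CfsgLib.ClassicalMax.TensorWreath

open Matrix Cfsg.Geo CfsgLib.Asch Kronecker

variable {F : Type*} [Field F] {m n : ℕ}

/-- The index of a tensor power with the first factor split off. -/
def hd : (Fin (n + 1) → Fin m) ≃ Fin m × (Fin n → Fin m) := (Fin.consEquiv fun _ => Fin m).symm

@[simp] lemma hd_apply (x : Fin (n + 1) → Fin m) : hd x = (x 0, Fin.tail x) := rfl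

/-- The product of a matrix on the first factor and one on the others. -/
def kr (A : Matrix (Fin m) (Fin m) F) (B : Matrix (Fin n → Fin m) (Fin n → Fin m) F) :
    Matrix (Fin (n + 1) → Fin m) (Fin (n + 1) → Fin m) F :=
  (A ⊗ₖ B).submatrix hd hd

lemma kr_apply (A : Matrix (Fin m) (Fin m) F) (B : Matrix (Fin n → Fin m) (Fin n → Fin m) F)
    (x y : Fin (n + 1) → Fin m) : kr A B x y = A (x 0) (y 0) * B (Fin.tail x) (Fin.tail y) := rfl

lemma kr_mul (A A' : Matrix (Fin m) (Fin m) F) (B B' : Matrix (Fin n → Fin m) (Fin n → Fin m) F) :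
    kr A B * kr A' B' = kr (A * A') (B * B') := by
  rw [kr, kr, submatrix_mul_equiv, ← Matrix.mul_kronecker_mul, kr]

@[simp] lemma kr_one : kr (1 : Matrix (Fin m) (Fin m) F) (1 : Matrix (Fin n → Fin m) (Fin n → Fin m) F) = 1 := by
  rw [kr, one_kronecker_one, submatrix_one_equiv]

lemma kr_add_right (A : Matrix (Fin m) (Fin m) F) (B B' : Matrix (Fin n → Fin m) (Fin n → Fin m) F) :
    kr A (B + B') = kr A B + kr A B' := by
  ext x y; simp [kr_apply, mul_add]

lemma kr_smul_right (A : Matrix (Fin m) (Fin m) F) (c : F) (B : Matrix (Fin n → Fin m) (Fin n → Fin m) F) :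
    kr A (c • B) = c • kr A B := by
  ext x y; simp [kr_apply, mul_left_comm]

lemma det_kr (A : Matrix (Fin m) (Fin m) F) (B : Matrix (Fin n → Fin m) (Fin n → Fin m) F) :
    (kr A B).det = A.det ^ Fintype.card (Fin n → Fin m) * B.det ^ m := by
  rw [kr, Matrix.det_submatrix_equiv_self, det_kronecker, Fintype.card_fin]

lemma pw_eq_kr (Z : Fin (n + 1) → Matrix (Fin m) (Fin m) F) : pw Z = kr (Z 0) (pw (Fin.tail Z)) := by
  ext x y
  simp [pw, kr_apply, Fin.prod_univ_succ, Fin.tail]

lemma slot_zero_eq_kr (A : Matrix (Fin m) (Fin m) F) : slot (0 : Fin (n + 1)) A = kr A 1 := by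
  rw [slot, pw_eq_kr, Function.update_self]
  congr 1
  rw [show Fin.tail (Function.update (1 : Fin (n + 1) → Matrix (Fin m) (Fin m) F) 0 A) = 1 from
    funext fun i => by simp [Fin.tail, Fin.succ_ne_zero], pw_one]

lemma slot_succ_eq_kr (j : Fin n) (A : Matrix (Fin m) (Fin m) F) :
    slot j.succ A = kr 1 (slot j A) := by
  rw [slot, pw_eq_kr, Function.update_of_ne (Fin.succ_ne_zero j).symm, slot]
  refine congrArg (kr _) (congrArg pw (funext fun i => ?_))
  rcases eq_or_ne i j with rfl | h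
  · simp [Fin.tail]
  · simp [Fin.tail, h, Fin.succ_inj]

lemma PE_eq_kr (x y : Fin (n + 1) → Fin m) :
    PE (Finset.univ.erase 0) x y = kr 1 (Matrix.single (Fin.tail x) (Fin.tail y) (1 : F)) := by
  rw [PE, pw_eq_kr, ← pw_single]
  simp only [Finset.mem_erase, ne_eq, not_true_eq_false, false_and, if_false]
  refine congrArg (kr _) (congrArg pw (funext fun i => ?_))
  simp [Fin.tail, Fin.succ_ne_zero]

/-- The tensor factor on the others as a homomorphism. -/
def liftHom : Matrix (Fin n → Fin m) (Fin n → Fin m) F →*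
    Matrix (Fin (n + 1) → Fin m) (Fin (n + 1) → Fin m) F where
  toFun := kr 1
  map_one' := kr_one
  map_mul' B B' := by rw [kr_mul, one_mul]

/-- The product of a pair of invertible matrices. -/
def krU (A : GL (Fin m) F) (B : GL (Fin n → Fin m) F) : GL (Fin (n + 1) → Fin m) F :=
  ⟨kr A.val B.val, kr A.inv B.inv, by rw [kr_mul, A.val_inv, B.val_inv, kr_one],
    by rw [kr_mul, A.inv_val, B.inv_val, kr_one]⟩

lemma krU_mul (A A' : GL (Fin m) F) (B B' : GL (Fin n → Fin m) F) :
    krU A B * krU A' B' = krU (A * A') (B * B') := Units.ext (kr_mul _ _ _ _)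

lemma krU_inv (A : GL (Fin m) F) (B : GL (Fin n → Fin m) F) : (krU A B)⁻¹ = krU A⁻¹ B⁻¹ :=
  Units.ext rfl

lemma krU_mem (A : GL (Fin m) F) {B : GL (Fin n → Fin m) F} (hB : B ∈ tensorWreathStandard m n F) :
    krU A B ∈ tensorWreathStandard m (n + 1) F := by
  obtain ⟨a, σ, rfl⟩ := CfsgLib.SpinTensor.exists_normal_form hB
  let σ' : Equiv.Perm (Fin (n + 1)) := Equiv.Perm.decomposeFin.symm (0, σ)
  have h0 : σ' 0 = 0 := by simp [σ']
  have hs : ∀ i, σ' i.succ = (σ i).succ := fun i => by simp [σ']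
  have e : krU A (pwUnit a * permUnit σ) = pwUnit (Fin.cons A a) * permUnit σ' := by
    refine Units.ext ?_
    show kr _ (pw _ * permMat σ) = pw _ * permMat σ'
    rw [pw_eq_kr, Fin.cons_zero, show permMat σ' = kr (1 : Matrix (Fin m) (Fin m) F) (permMat σ) from ?_,
      kr_mul, mul_one]
    · refine congrArg (kr _) ?_
      refine congrArg (· * _) (congrArg pw (funext fun i => ?_))
      simp [Fin.tail]
    ext x y
    simp only [permMat, Matrix.of_apply, kr_apply, Matrix.one_apply]
    have hiff : y = x ∘ σ' ↔ x 0 = y 0 ∧ Fin.tail y = Fin.tail x ∘ σ := by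
      constructor
      · rintro rfl
        exact ⟨by simp [h0], funext fun i => by simp [Fin.tail, hs]⟩
      · rintro ⟨h1, h2⟩
        funext i
        refine Fin.cases ?_ (fun i => ?_) i
        · simp [h0, h1]
        · simpa [Fin.tail, hs] using congrFun h2 i
    simp only [hiff, ite_and]
    split_ifs <;> simp
  rw [e]
  exact mul_mem (pwUnit_mem _) (permUnit_mem _)

lemma commute_slot_zero [NeZero m] {B : Matrix (Fin (n + 1) → Fin m) (Fin (n + 1) → Fin m) F}
    (h : ∀ A, Commute B (slot 0 A)) :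
    B = kr 1 (Matrix.of fun x y => B (Fin.cons 0 x) (Fin.cons 0 y)) := by
  classical
  have key : ∀ (a b c d : Fin m) (x y : Fin n → Fin m),
      (if b = d then B (Fin.cons c x) (Fin.cons a y) else 0) =
        (if c = a then B (Fin.cons b x) (Fin.cons d y) else 0) := by
    intro a b c d x y
    have h1 := congrFun (congrFun (h (Matrix.single a b 1)).eq (Fin.cons c x)) (Fin.cons d y)
    rw [slot_zero_eq_kr, Matrix.mul_apply, Matrix.mul_apply, ← Equiv.sum_comp hd.symm,
      ← Equiv.sum_comp hd.symm, Fintype.sum_prod_type, Fintype.sum_prod_type] at h1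
    simpa [hd, Fin.consEquiv, kr_apply, Matrix.single_apply, Matrix.one_apply, ite_and, eq_comm]
      using h1
  ext z w
  obtain ⟨⟨c, x⟩, rfl⟩ := hd.symm.surjective z
  obtain ⟨⟨d, y⟩, rfl⟩ := hd.symm.surjective w
  simp only [hd, Fin.consEquiv, Equiv.symm_symm, Equiv.coe_fn_mk, kr_apply, Fin.cons_zero, Fin.tail_cons,
    Matrix.of_apply, Matrix.one_apply]
  rcases eq_or_ne c d with rfl | hcd
  · simpa using key c 0 c 0 x y
  · simpa [hcd] using key d 0 c 0 x y

variable {M : Subgroup (GL (Fin (n + 1) → Fin m) F)}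

/-- The action induced on the other factors. -/
def induced (M : Subgroup (GL (Fin (n + 1) → Fin m) F)) : Subgroup (GL (Fin n → Fin m) F) where
  carrier := {B | ∃ A, krU A B ∈ M}
  one_mem' := ⟨1, by convert M.one_mem; exact Units.ext kr_one⟩
  mul_mem' := by
    rintro B B' ⟨A, hA⟩ ⟨A', hA'⟩
    exact ⟨A * A', by rw [← krU_mul]; exact M.mul_mem hA hA'⟩
  inv_mem' := by
    rintro B ⟨A, hA⟩
    exact ⟨A⁻¹, by rw [← krU_inv]; exact M.inv_mem hA⟩

lemma Hyp.induced (H : Hyp M) : Hyp (TensorWreath.induced M) := by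
  refine ⟨H.three_le, fun h hh hdet => ⟨1, H.mem _ (krU_mem 1 hh) ?_⟩⟩
  show (kr _ _).det = 1
  rw [det_kr, hdet, Units.val_one, det_one, one_pow, one_pow, one_mul]

variable [Finite F]

/-- If the induced group contains the special linear group, so does the group. -/
theorem bad_induced (H : Hyp M) (hn : 2 ≤ n) (hB : ¬ specialLinear (Fin (n + 1) → Fin m) F ≤ M) :
    ¬ specialLinear (Fin n → Fin m) F ≤ induced M := by
  classical
  intro hle
  let a : Fin m := ⟨0, by have := H.three_le; omega⟩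
  let b : Fin m := ⟨1, by have := H.three_le; omega⟩
  let p : Fin m := ⟨2, by have := H.three_le; omega⟩
  have hab : a ≠ b := by simp [a, b]
  have hpa : p ≠ a := by simp [a, p]
  have hbp : b ≠ p := by simp [b, p]
  let s₁ : Fin n := ⟨0, by omega⟩
  let x : Fin n → Fin m := fun _ => a
  let y : Fin n → Fin m := fun _ => b
  have hxy : y ≠ x := fun h => hab (congrFun h s₁).symm
  set Z : Matrix (Fin n → Fin m) (Fin n → Fin m) F := Matrix.single x y 1 with hZ
  have hZ2 : Z * Z = 0 := by rw [hZ]; exact single_mul_single_of_ne _ _ _ _ hxy _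
  have key : ∀ c : F, In M (1 + c • kr 1 (Matrix.single (Function.update x s₁ p) y 1)) := by
    intro c
    let τ : GL (Fin n → Fin m) F := ⟨1 + c • Z, 1 - c • Z, (one_sub_mul (by simp [hZ2])).1,
      (one_sub_mul (by simp [hZ2])).2⟩
    have hτ : τ ∈ specialLinear (Fin n → Fin m) F := by
      rw [specialLinear, MonoidHom.mem_ker]
      refine Units.ext ?_
      rw [GeneralLinearGroup.val_det_apply, Units.val_one]
      exact CfsgLib.ClassicalMax.Kron.det_one_add_sq_zero (by simp [hZ2])
    obtain ⟨A, hA⟩ := hle hτ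
    obtain ⟨g, hg, hgv⟩ := H.induced.eroot s₁ hpa 1
    have hgd : Matrix.det (g : Matrix (Fin n → Fin m) (Fin n → Fin m) F) = 1 := by
      rw [hgv, one_smul]
      exact CfsgLib.ClassicalMax.Kron.det_one_add_sq_zero (e_mul_of_ne _ _ _ hpa.symm)
    obtain ⟨g', hg', hg'v⟩ := H.eroot s₁.succ hpa 1
    have hgg : g' = krU 1 g := Units.ext (by
      rw [hg'v, one_smul, e, slot_succ_eq_kr, show (krU 1 g).val = kr 1 g.val from rfl, hgv, one_smul,
        kr_add_right, kr_one, e])
    subst hgg
    have hmem := M.mul_mem (M.mul_mem (M.mul_mem hg' hA) (M.inv_mem hg')) (M.inv_mem hA)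
    rw [krU_mul, krU_inv, krU_mul, krU_inv, krU_mul, one_mul, inv_one, mul_one, mul_inv_cancel] at hmem
    refine ⟨_, hmem, ?_⟩
    rw [← kr_smul_right, ← kr_one, ← kr_add_right]
    show kr 1 ((g * τ * g⁻¹ * τ⁻¹ : GL (Fin n → Fin m) F).val) = _
    refine congrArg (kr 1) ?_
    have hXZ : e (F := F) s₁ p a * Z = Matrix.single (Function.update x s₁ p) y 1 := by
      rw [hZ, ← PE_univ, ← PE_univ, PE, PE, e, slot, pw_mul]
      refine congrArg pw (funext fun i => ?_)
      rcases eq_or_ne i s₁ with rfl | hi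
      · simp [x]
      · simp [hi]
    have hZX : Z * e (F := F) s₁ p a = 0 := by
      rw [hZ, ← PE_univ, PE, e, slot, pw_mul]
      refine CfsgLib.SpinTensor.pw_eq_zero s₁ ?_
      simp [y, single_mul_single_of_ne _ _ _ _ hbp]
    have hgi : ((g⁻¹ : GL (Fin n → Fin m) F) : Matrix (Fin n → Fin m) (Fin n → Fin m) F) = 1 - e s₁ p a :=
      Units.inv_eq_of_mul_eq_one_right (by
        rw [hgv, one_smul, (one_sub_mul (e_mul_of_ne _ _ _ hpa.symm)).1])
    rw [Units.val_mul, Units.val_mul, Units.val_mul, hgv, hgi, one_smul,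
      show (τ : Matrix (Fin n → Fin m) (Fin n → Fin m) F) = 1 + c • Z from rfl,
      show ((τ⁻¹ : GL (Fin n → Fin m) F) : Matrix (Fin n → Fin m) (Fin n → Fin m) F) = 1 - c • Z from rfl,
      ← hXZ]
    have e2 : e (F := F) s₁ p a * e s₁ p a = 0 := e_mul_of_ne _ _ _ hpa.symm
    have e3 : e (F := F) s₁ p a * Z * e s₁ p a = 0 := by rw [mul_assoc, hZX, mul_zero]
    have e4 : e (F := F) s₁ p a * Z * Z = 0 := by rw [mul_assoc, hZ2, mul_zero]
    simp only [add_mul, mul_add, sub_mul, mul_sub, one_mul, mul_one, Matrix.smul_mul, Matrix.mul_smul,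
      e2, e3, e4, hZX, hZ2, smul_zero, zero_mul, add_zero, sub_zero, smul_smul]
    abel
  have hP : Pure M (Finset.univ.erase (0 : Fin (n + 1))) := by
    refine pure_of_one H (x₀ := Fin.cons a (Function.update x s₁ p)) (y₀ := Fin.cons b y) (fun i hi => ?_)
      fun c => ?_
    · obtain ⟨i, rfl⟩ := Fin.exists_succ_eq.2 (Finset.ne_of_mem_erase hi)
      rcases eq_or_ne i s₁ with rfl | his
      · simpa [y] using hbp.symm
      · simpa [his, x, y] using hab
    · rw [PE_eq_kr, Fin.tail_cons, Fin.tail_cons]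
      exact key c
  refine hB (sl_le_of_pure H ?_ hP)
  rw [Finset.card_erase_of_mem (Finset.mem_univ _), Finset.card_univ, Fintype.card_fin]
  omega

end CfsgLib.ClassicalMax.TensorWreath
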