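/-
An element carrying a root of one factor to a root of one factor belongs to the wreath group.
-/
import Cfsg.Agent.Lib.ClassicalMax.TensorWreath.Split

set_option autoImplicit false
set_option linter.unusedSectionVars false

namespace CfsgLib.ClassicalMax.TensorWreath

open Matrix Cfsg.Geo CfsgLib.Asch
open CfsgLib.SpinTensor (pwUnit_mul permUnit_inv)

variable {F : Type*} [Field F] {m t n : ℕ}

/-- The maximality statement for one number of factors. -/
def Small (F : Type*) [Field F] (m t : ℕ) : Prop :=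
  ∀ M : Subgroup (GL (Fin t → Fin m) F), Hyp M → ¬ specialLinear (Fin t → Fin m) F ≤ M →
    M ≤ tensorWreathStandard m t F

lemma mem_one_factor (g : GL (Fin 1 → Fin m) F) : g ∈ tensorWreathStandard m 1 F := by
  classical
  let E : (Fin 1 → Fin m) ≃ Fin m := Equiv.funUnique (Fin 1) (Fin m)
  refine Subgroup.subset_closure (Or.inl ⟨fun _ => glReindex E g, fun x y => ?_⟩)
  rw [Fin.prod_univ_one]
  show _ = (g : Matrix (Fin 1 → Fin m) (Fin 1 → Fin m) F) (E.symm (x 0)) (E.symm (y 0))
  rw [show E.symm (x 0) = x from E.symm_apply_apply x, show E.symm (y 0) = y from E.symm_apply_apply y]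

lemma perm_slot (σ : Equiv.Perm (Fin t)) (j : Fin t) (A : Matrix (Fin m) (Fin m) F) :
    permMat σ * slot j A = slot (σ j) A * permMat σ := by
  have h : permMat σ * slot j A * permMat σ⁻¹ = slot (σ j) A := by
    rw [slot, permMat_conj_pw, slot]
    refine congrArg pw (funext fun i => ?_)
    rcases eq_or_ne i (σ j) with rfl | hi
    · simp
    · have : σ⁻¹ i ≠ j := fun hh => hi (by rw [← hh]; simp)
      rw [Function.update_of_ne this, Function.update_of_ne hi]; rfl
  rw [← h, mul_assoc (permMat σ * slot j A)]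
  have := permMat_mul_inv (F := F) (m := m) σ⁻¹
  rw [inv_inv] at this
  rw [this, mul_one]

variable [Finite F]

/-- The unimodular elements of one factor lie in the group. -/
lemma Hyp.slot_sl {M : Subgroup (GL (Fin t → Fin m) F)} (H : Hyp M) (s : Fin t) (A : GL (Fin m) F)
    (hA : Matrix.det (A : Matrix (Fin m) (Fin m) F) = 1) :
    pwUnit (Function.update 1 s A) ∈ M := by
  classical
  let f : GL (Fin m) F →* GL (Fin t → Fin m) F := Units.map (slotHom (F := F) (m := m) s).toMonoidHom
  have hf : ∀ A, f A = pwUnit (Function.update 1 s A) := fun A => Units.ext (slot_eq_pwUnit s A)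
  rw [← hf]
  refine sl_le_of_elementary (H := M.comap f) (fun i j hij c => ?_) (by
    rw [specialLinear, MonoidHom.mem_ker]
    exact Units.ext hA)
  obtain ⟨g, hg, hgv⟩ := H.eroot s hij c
  show f _ ∈ M
  rwa [show f (tvGL (Pi.single i c) (Pi.single j 1)) = g from Units.ext (by
    rw [hgv, show ((f (tvGL (Pi.single i c) (Pi.single j 1))).val) =
        slot s (tvGL (Pi.single i c) (Pi.single j 1)).val from rfl,
      coe_tvGL (by rw [single_dotProduct, one_mul, Pi.single_eq_of_ne hij.symm]), slot_add, slot_one,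
      e, ← slot_smul]
    congr 2
    ext p q
    by_cases h1 : i = p <;> by_cases h2 : j = q <;>
      simp_all [vecMulVec_apply, Pi.single_apply, eq_comm])]

lemma key_root_zero {M : Subgroup (GL (Fin (n + 1) → Fin m) F)} (H : Hyp M)
    (hB : ¬ specialLinear (Fin (n + 1) → Fin m) F ≤ M) (ih : 2 ≤ n → Small F m n)
    {g : GL (Fin (n + 1) → Fin m) F} (hg : g ∈ M) {o i : Fin m} (hoi : o ≠ i) {j : Fin (n + 1)}
    {u τ : Fin m → F} (hu : u ≠ 0) (hτ : τ ≠ 0) (h0 : τ ⬝ᵥ u = 0)
    (heq : (g : Matrix (Fin (n + 1) → Fin m) (Fin (n + 1) → Fin m) F) * e 0 o i =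
      slot j (vecMulVec u τ) * (g : Matrix (Fin (n + 1) → Fin m) (Fin (n + 1) → Fin m) F)) :
    g ∈ tensorWreathStandard m (n + 1) F := by
  classical
  haveI := H.neZero
  rcases Nat.eq_zero_or_pos n with rfl | hn
  · exact mem_one_factor g
  obtain ⟨A, hA⟩ := exists_conj_single H.three_le hoi hu hτ h0
  obtain ⟨q, hqo, hqi⟩ := exists_third H.three_le o i
  have hd0 : (A : Matrix (Fin m) (Fin m) F).det ≠ 0 := GeneralLinearGroup.det_ne_zero A
  let d : Fin m → F := Function.update 1 q (A : Matrix (Fin m) (Fin m) F).det⁻¹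
  have hd : IsUnit (Matrix.diagonal d) := by
    rw [Matrix.isUnit_diagonal, Pi.isUnit_iff]
    intro k
    rcases eq_or_ne k q with rfl | hk <;> simp [d, hd0, *]
  let A' : GL (Fin m) F := hd.unit * A
  have hA' : (A' : Matrix (Fin m) (Fin m) F) * vecMulVec u τ =
      Matrix.single o i 1 * (A' : Matrix (Fin m) (Fin m) F) := by
    show Matrix.diagonal d * (A : Matrix _ _ F) * _ = _ * (Matrix.diagonal d * (A : Matrix _ _ F))
    rw [mul_assoc, hA, ← mul_assoc, ← mul_assoc]
    congr 1
    ext a b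
    rw [Matrix.diagonal_mul, Matrix.mul_diagonal, Matrix.single_apply]
    split_ifs with h
    · rw [← h.1, ← h.2]
      simp [d, hqo.symm, hqi.symm]
    · simp
  have hA'1 : Matrix.det (A' : Matrix (Fin m) (Fin m) F) = 1 := by
    show (Matrix.diagonal d * (A : Matrix _ _ F)).det = 1
    rw [det_mul, det_diagonal, Finset.prod_update_of_mem (Finset.mem_univ q)]
    simp [hd0]
  obtain ⟨σ, hσj, hσM⟩ : ∃ σ : Equiv.Perm (Fin (n + 1)), σ j = 0 ∧ (2 ≤ n → permUnit σ ∈ M) := by
    rcases eq_or_ne j 0 with rfl | hj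
    · exact ⟨1, rfl, fun _ => by rw [CfsgLib.SpinTensor.permUnit_one]; exact M.one_mem⟩
    by_cases h2 : 2 ≤ n
    · obtain ⟨r, hr⟩ : ∃ r, r ∉ ({0, j} : Finset (Fin (n + 1))) := by
        by_contra hc
        push Not at hc
        have := (Finset.card_le_card (s := Finset.univ) fun r _ => hc r).trans Finset.card_le_two
        rw [Finset.card_univ, Fintype.card_fin] at this
        omega
      simp only [Finset.mem_insert, Finset.mem_singleton, not_or] at hr
      exact ⟨cyc 0 j r, (cyc_apply hj.symm (Ne.symm hr.1) (Ne.symm hr.2)).2.1, fun _ => cyc_mem H _ _ _⟩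
    · exact ⟨Equiv.swap 0 j, Equiv.swap_apply_right 0 j, fun h => absurd h h2⟩
  set h : GL (Fin (n + 1) → Fin m) F := permUnit σ * pwUnit (Function.update 1 j A') with hh
  have hH : h ∈ tensorWreathStandard m (n + 1) F := mul_mem (permUnit_mem _) (pwUnit_mem _)
  set k := h * g with hk
  have hkc : (k : Matrix _ _ F) * e 0 o i = e 0 o i * (k : Matrix (Fin (n + 1) → Fin m) (Fin (n + 1) → Fin m) F) := by
    rw [hk, Units.val_mul, mul_assoc, heq, ← mul_assoc, ← mul_assoc]
    congr 1
    rw [hh, Units.val_mul, ← slot_eq_pwUnit, mul_assoc, slot_mul, hA', ← slot_mul, ← mul_assoc,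
      show ((permUnit σ : GL (Fin (n + 1) → Fin m) F).val) = permMat σ from rfl, perm_slot, hσj, ← e,
      mul_assoc]
  obtain ⟨S, B, hBc, hkv⟩ := block (H.conj hH) (bad_conj hB h) hoi hkc (fun X hX => by
    have := In.map ((H.root 0 hX).conj hg) h
    simpa [hk, mul_assoc] using this)
  have hkr : (k : Matrix (Fin (n + 1) → Fin m) (Fin (n + 1) → Fin m) F) =
      kr S (Matrix.of fun x y => B (Fin.cons 0 x) (Fin.cons 0 y)) := by
    rw [hkv, commute_slot_zero hBc, slot_zero_eq_kr, kr_mul, mul_one, one_mul, ← commute_slot_zero hBc]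
  set B₀ : Matrix (Fin n → Fin m) (Fin n → Fin m) F := Matrix.of fun x y => B (Fin.cons 0 x) (Fin.cons 0 y)
  have hdet : (k : Matrix (Fin (n + 1) → Fin m) (Fin (n + 1) → Fin m) F).det ≠ 0 :=
    GeneralLinearGroup.det_ne_zero k
  rw [hkr, det_kr, mul_ne_zero_iff] at hdet
  have hS : IsUnit S := by
    rw [Matrix.isUnit_iff_isUnit_det, isUnit_iff_ne_zero]
    exact fun h0 => hdet.1 (by rw [h0, zero_pow Fintype.card_ne_zero])
  have hB₀ : IsUnit B₀ := by
    rw [Matrix.isUnit_iff_isUnit_det, isUnit_iff_ne_zero]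
    exact fun h0 => hdet.2 (by rw [h0, zero_pow (NeZero.ne m)])
  have hku : k = krU hS.unit hB₀.unit := Units.ext hkr
  have hB₀H : hB₀.unit ∈ tensorWreathStandard m n F := by
    by_cases h2 : 2 ≤ n
    · refine ih h2 _ H.induced (bad_induced H h2 hB) ⟨hS.unit, ?_⟩
      rw [← hku, hk]
      exact M.mul_mem (M.mul_mem (hσM h2) (H.slot_sl j A' hA'1)) hg
    · obtain rfl : n = 1 := by omega
      exact mem_one_factor _
  have hk' : k ∈ tensorWreathStandard m (n + 1) F := hku ▸ krU_mem _ hB₀H
  have := mul_mem (inv_mem hH) hk'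
  rwa [hk, inv_mul_cancel_left] at this

/-- An element carrying a root of one factor to a root of one factor is in the wreath group. -/
theorem key_root {M : Subgroup (GL (Fin (n + 1) → Fin m) F)} (H : Hyp M)
    (hB : ¬ specialLinear (Fin (n + 1) → Fin m) F ≤ M) (ih : 2 ≤ n → Small F m n)
    {g : GL (Fin (n + 1) → Fin m) F} (hg : g ∈ M) {o i : Fin m} (hoi : o ≠ i) {s j : Fin (n + 1)}
    {u τ : Fin m → F} (hu : u ≠ 0) (hτ : τ ≠ 0) (h0 : τ ⬝ᵥ u = 0)
    (heq : (g : Matrix (Fin (n + 1) → Fin m) (Fin (n + 1) → Fin m) F) * e s o i =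
      slot j (vecMulVec u τ) * (g : Matrix (Fin (n + 1) → Fin m) (Fin (n + 1) → Fin m) F)) :
    g ∈ tensorWreathStandard m (n + 1) F := by
  set σ := Equiv.swap s 0
  set P : GL (Fin (n + 1) → Fin m) F := permUnit σ with hP
  have hPH : P ∈ tensorWreathStandard m (n + 1) F := permUnit_mem _
  have hPv : (P : Matrix (Fin (n + 1) → Fin m) (Fin (n + 1) → Fin m) F) = permMat σ := rfl
  have hPi : P⁻¹ = permUnit σ := by rw [hP, permUnit_inv]; simp [σ]
  have := key_root_zero (H.conj hPH) (bad_conj hB P) ih (g := P * g * P⁻¹) ⟨g, hg, rfl⟩ hoi (j := σ j)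
    hu hτ h0 (by
      rw [hPi, Units.val_mul, Units.val_mul, hPv, mul_assoc (permMat σ * _) (permMat σ)]
      have h1 : permMat σ * e (F := F) 0 o i = e s o i * permMat σ := by
        rw [e, perm_slot, e]; simp [σ]
      rw [h1, ← mul_assoc (permMat σ * _), mul_assoc (permMat σ) _ (e s o i), heq, ← mul_assoc,
        perm_slot, mul_assoc (slot _ _), mul_assoc (slot _ _)])
  have h2 := mul_mem (mul_mem (inv_mem hPH) this) hPH
  simpa [mul_assoc] using h2

end CfsgLib.ClassicalMax.TensorWreath
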