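/-
The shape of a square zero step of small rank inside the wreath group.
-/
import Cfsg.Agent.Lib.ClassicalMax.TensorWreath.Key

set_option autoImplicit false
set_option linter.unusedSectionVars false

namespace CfsgLib.ClassicalMax.TensorWreath

open Matrix Cfsg.Geo CfsgLib.Asch
open CfsgLib.SpinTensor (pv pw_mulVec_pv pv_dot pwUnit_mul permUnit_mul)

variable {F : Type*} [Field F] {m t n : ℕ}

lemma e_ne_zero [NeZero m] (s : Fin t) (a b : Fin m) : e (F := F) s a b ≠ 0 := by
  intro h
  have := congrFun (congrFun h (Function.update (fun _ => 0) s a)) (Function.update (fun _ => 0) s b)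
  simp only [e, slot, pw, Matrix.of_apply, Matrix.zero_apply, Finset.prod_eq_zero_iff] at this
  obtain ⟨i, -, hi⟩ := this
  rcases eq_or_ne i s with rfl | his <;> simp [*] at hi

lemma pw_eq_one_scalar [NeZero m] {Z : Fin t → Matrix (Fin m) (Fin m) F} (h : pw Z = 1) (s : Fin t) :
    ∃ c : F, c ≠ 0 ∧ Z s = c • 1 := by
  classical
  have ent : ∀ a b : Fin m, Z s a b * ∏ i ∈ Finset.univ.erase s, Z i 0 0 = if a = b then 1 else 0 := by
    intro a b
    have := congrFun (congrFun h (Function.update (fun _ => 0) s a)) (Function.update (fun _ => 0) s b)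
    rw [pw, Matrix.of_apply, ← Finset.mul_prod_erase _ _ (Finset.mem_univ s), Matrix.one_apply] at this
    rw [Finset.prod_congr rfl (fun i hi => by
      rw [Function.update_of_ne (Finset.ne_of_mem_erase hi), Function.update_of_ne (Finset.ne_of_mem_erase hi)]),
      Function.update_self, Function.update_self] at this
    rw [this]
    congr 1
    exact propext ⟨fun e => by simpa using congrFun e s, fun e => by rw [e]⟩
  set P := ∏ i ∈ Finset.univ.erase s, Z i 0 0
  have hP : P ≠ 0 := fun h0 => by simpa [h0] using ent 0 0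
  refine ⟨P⁻¹, inv_ne_zero hP, Matrix.ext fun a b => ?_⟩
  rw [Matrix.smul_apply, Matrix.one_apply, smul_eq_mul]
  refine mul_right_cancel₀ hP ?_
  rw [ent]
  split_ifs <;> simp [hP]

lemma permUnit_eq_one [NeZero m] (hm : 2 ≤ m) {a : Fin t → GL (Fin m) F} {σ : Equiv.Perm (Fin t)}
    (h : pwUnit a * permUnit σ = 1) : σ = 1 := by
  classical
  by_contra hσ
  obtain ⟨s, hs⟩ : ∃ s, σ s ≠ s := by
    by_contra hcon
    push Not at hcon
    exact hσ (Equiv.ext hcon)
  let b : Fin m := ⟨1, hm⟩
  have hb : (0 : Fin m) ≠ b := by simp [b, Fin.ext_iff]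
  set A := ((a (σ s) : Matrix (Fin m) (Fin m) F) * Matrix.single 0 b 1 *
    (((a (σ s))⁻¹ : GL (Fin m) F) : Matrix (Fin m) (Fin m) F))
  -- the factor is moved, yet conjugation by the identity fixes it
  have hc : slot (σ s) A = e (F := F) s 0 b := by
    have h1 : (pwUnit a * permUnit σ : GL (Fin t → Fin m) F).val * e (F := F) s 0 b = slot (σ s) A *
        (pwUnit a * permUnit σ : GL (Fin t → Fin m) F).val := by
      rw [Units.val_mul, mul_assoc, show (permUnit σ : GL (Fin t → Fin m) F).val = permMat σ from rfl, e,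
        perm_slot, ← mul_assoc, ← mul_assoc]
      congr 1
      show pw (fun i => (a i : Matrix (Fin m) (Fin m) F)) * slot _ _ = slot _ A * pw _
      rw [slot, slot, pw_mul, pw_mul]
      refine congrArg pw (funext fun i => ?_)
      rcases eq_or_ne i (σ s) with rfl | hi
      · simp [A, mul_assoc]
      · simp [hi]
    rw [h, Units.val_one, one_mul, mul_one] at h1
    exact h1.symm
  -- so it is central in its own factor
  have hcomm := slot_commute hs A (Matrix.single b 0 1)
  rw [hc] at hcomm
  have := hcomm.eq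
  rw [← e, e_mul, e_mul] at this
  have h2 := congrArg (· * e (F := F) s 0 0) this
  simp only [e_mul, e_mul_of_ne _ _ _ hb.symm] at h2
  exact e_ne_zero s 0 0 h2

/-- A power that is scalar leaves one eigenvalue. -/
lemma exists_shift [Finite F] (p k : ℕ) [Fact p.Prime] [CharP F p] [Nonempty (Fin m)]
    {Z : Matrix (Fin m) (Fin m) F} {c : F} (h : Z ^ p ^ k = c • 1) :
    ∃ l : F, (Z - l • 1) ^ p ^ k = 0 := by
  haveI : PerfectRing F p := inferInstance
  refine ⟨(iterateFrobeniusEquiv F p k).symm c, ?_⟩
  set l := (iterateFrobeniusEquiv F p k).symm c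
  have hl : l ^ p ^ k = c := by
    rw [← iterateFrobeniusEquiv_def F p k, RingEquiv.apply_symm_apply]
  rw [sub_pow_char_pow_of_commute (p := p) (h := Commute.smul_right (Commute.one_right Z) l), smul_pow,
    one_pow, hl, h, sub_self]

lemma permMat_pv (σ : Equiv.Perm (Fin t)) (U : Fin t → Fin m → F) :
    permMat σ *ᵥ pv U = pv fun i => U (σ⁻¹ i) := by
  funext x
  have : (permMat σ *ᵥ pv U) x = pv U (x ∘ σ) := by
    simp [permMat, Matrix.mulVec, dotProduct]
  rw [this, pv, pv, ← Equiv.prod_comp σ⁻¹]
  simp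

lemma pv_ne_zero {U : Fin t → Fin m → F} (h : ∀ i, U i ≠ 0) : pv U ≠ 0 := by
  choose f hf using fun i => Function.ne_iff.1 (h i)
  exact Function.ne_iff.2 ⟨f, Finset.prod_ne_zero_iff.2 fun i _ => hf i⟩

lemma exists_two_avoid (hm : 2 ≤ m) (a b : Fin m → F) :
    ∃ u : Fin m → F, u ∉ Submodule.span F {a} ∧ u ∉ Submodule.span F {b} := by
  have hp : ∀ c : Fin m → F, ∃ u, u ∉ Submodule.span F {c} := fun c => by
    by_contra hcon
    push Not at hcon
    have h1 : Module.finrank F (Submodule.span F ({c} : Set (Fin m → F))) ≤ 1 :=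
      (finrank_span_le_card _).trans (by simp)
    rw [Submodule.eq_top_iff'.2 hcon, finrank_top, Module.finrank_fin_fun] at h1
    omega
  obtain ⟨u, hu⟩ := hp a
  obtain ⟨v, hv⟩ := hp b
  by_cases h1 : u ∈ Submodule.span F {b}
  swap
  · exact ⟨u, hu, h1⟩
  by_cases h2 : v ∈ Submodule.span F {a}
  swap
  · exact ⟨v, h2, hv⟩
  exact ⟨u + v, fun h => hu (by simpa using Submodule.sub_mem _ h h2),
    fun h => hv (by simpa using Submodule.sub_mem _ h h1)⟩

/-- In odd characteristic a square zero step of the wreath group fixes every factor. -/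
lemma perm_one_of_odd (hm : 2 ≤ m) (h2 : (2 : F) ≠ 0) {a : Fin t → GL (Fin m) F}
    {σ : Equiv.Perm (Fin t)}
    (hN : ((pwUnit a * permUnit σ : GL (Fin t → Fin m) F).val - 1) *
      ((pwUnit a * permUnit σ : GL (Fin t → Fin m) F).val - 1) = 0) : σ = 1 := by
  classical
  by_contra hσ
  obtain ⟨i, hi⟩ : ∃ i, σ⁻¹ i ≠ i := by
    by_contra hcon
    push Not at hcon
    exact hσ (inv_eq_one.1 (Equiv.ext hcon))
  set y : Matrix (Fin t → Fin m) (Fin t → Fin m) F := (pwUnit a * permUnit σ : GL (Fin t → Fin m) F).val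
    with hy
  have hyv : ∀ U : Fin t → Fin m → F, y *ᵥ pv U = pv fun l => (a l : Matrix (Fin m) (Fin m) F) *ᵥ U (σ⁻¹ l) := by
    intro U
    rw [hy, Units.val_mul, ← mulVec_mulVec, show (permUnit σ : GL (Fin t → Fin m) F).val = permMat σ from rfl,
      permMat_pv, show (pwUnit a).val = pw (fun l => (a l : Matrix (Fin m) (Fin m) F)) from rfl, pw_mulVec_pv]
  set k := σ⁻¹ i with hk
  have hl : σ⁻¹ k ≠ k := fun h => hi (σ⁻¹.injective h)
  let δ : Fin m → F := Pi.single ⟨0, by omega⟩ 1
  have hδ : δ ≠ 0 := fun h => by simpa [δ] using congrFun h ⟨0, by omega⟩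
  obtain ⟨u, hu1, hu2⟩ := exists_two_avoid hm ((a i : Matrix (Fin m) (Fin m) F) *ᵥ δ)
    (((a k)⁻¹ : GL (Fin m) F) *ᵥ δ)
  have hu0 : u ≠ 0 := fun h => hu1 (h ▸ Submodule.zero_mem _)
  set U : Fin t → Fin m → F := Function.update (fun _ => u) k δ with hU
  set U' : Fin t → Fin m → F := fun l => (a l : Matrix (Fin m) (Fin m) F) *ᵥ U (σ⁻¹ l) with hU'
  set U'' : Fin t → Fin m → F := fun l => (a l : Matrix (Fin m) (Fin m) F) *ᵥ U' (σ⁻¹ l) with hU''
  have hUne : ∀ l, U l ≠ 0 := fun l => by
    rcases eq_or_ne l k with rfl | h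
    · simpa [U] using hδ
    · rw [hU, Function.update_of_ne h]; exact hu0
  have hU'ne : ∀ l, U' l ≠ 0 := fun l => gl_mulVec_ne_zero _ (hUne _)
  have hrel : ∀ E : Fin t → Fin m → F,
      (2 : F) * ∏ l, E l ⬝ᵥ U' l = (∏ l, E l ⬝ᵥ U'' l) + ∏ l, E l ⬝ᵥ U l := by
    intro E
    have h := congrArg (fun M => pv E ⬝ᵥ (M *ᵥ pv U)) hN
    simp only [sub_mul, mul_sub, one_mul, mul_one, sub_mulVec, one_mulVec, ← mulVec_mulVec, hyv,
      dotProduct_sub, pv_dot, zero_mulVec, dotProduct_zero] at h
    linear_combination (-1 : F) * h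
  choose d hd using fun l => CfsgLib.ClassicalMax.Kron.exists_sum_dot (hU'ne l)
  choose d₀ hd₀ using fun l => CfsgLib.ClassicalMax.Kron.exists_sum_dot (hUne l)
  have hik : i ≠ k := fun h => hi h.symm
  have hin : U' i ∉ Submodule.span F {U i} := by
    simp only [U', U, Function.update_of_ne hik, ← hk, Function.update_self]
    intro h
    obtain ⟨c, hc⟩ := Submodule.mem_span_singleton.1 h
    have hc0 : c ≠ 0 := fun e0 => gl_mulVec_ne_zero (a i) hδ (by rw [← hc, e0, zero_smul])
    exact hu1 (Submodule.mem_span_singleton.2 ⟨c⁻¹, by rw [← hc, inv_smul_smul₀ hc0]⟩)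
  have hkn : U' k ∉ Submodule.span F {U k} := by
    simp only [U', U, Function.update_of_ne hl, Function.update_self]
    intro h
    obtain ⟨c, hc⟩ := Submodule.mem_span_singleton.1 h
    exact hu2 (Submodule.mem_span_singleton.2 ⟨c, by rw [← mulVec_smul, hc, gl_inv_mulVec_mulVec]⟩)
  obtain ⟨ηi, ei1, ei2⟩ := CfsgLib.ClassicalMax.Kron.exists_dot_eq hin
  obtain ⟨ηk, ek1, ek2⟩ := CfsgLib.ClassicalMax.Kron.exists_dot_eq hkn
  set E₀ : Fin t → Fin m → F := Function.update (Function.update d i ηi) k ηk with hE₀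
  have h0 := hrel E₀
  have p1 : ∏ l, E₀ l ⬝ᵥ U' l = 1 := Finset.prod_eq_one fun l _ => by
    rcases eq_or_ne l k with rfl | h
    · simpa [E₀] using ek2
    rcases eq_or_ne l i with rfl | h'
    · simpa [E₀, h] using ei2
    · simpa [E₀, h, h'] using hd l
  have p2 : ∏ l, E₀ l ⬝ᵥ U l = 0 := Finset.prod_eq_zero (Finset.mem_univ k) (by simpa [E₀] using ek1)
  rw [p1, p2, mul_one, add_zero] at h0
  have hpar : U'' i ∈ Submodule.span F {U' i} := by
    by_contra hn
    obtain ⟨η, e1, e2⟩ := CfsgLib.ClassicalMax.Kron.exists_dot_eq hn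
    have h1 := hrel (Function.update E₀ i η)
    have q1 : ∏ l, Function.update E₀ i η l ⬝ᵥ U' l = 0 :=
      Finset.prod_eq_zero (Finset.mem_univ i) (by simpa using e1)
    have q2 : ∏ l, Function.update E₀ i η l ⬝ᵥ U l = 0 :=
      Finset.prod_eq_zero (Finset.mem_univ k) (by simpa [E₀, hik.symm] using ek1)
    rw [q1, q2, mul_zero, add_zero, eq_comm, Finset.prod_eq_zero_iff] at h1
    obtain ⟨l, -, hl0⟩ := h1
    rcases eq_or_ne l i with rfl | hli
    · simp [e2] at hl0
    · rw [Function.update_of_ne hli] at hl0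
      exact h2 (h0.trans (Finset.prod_eq_zero (Finset.mem_univ l) hl0))
  obtain ⟨c, hc⟩ := Submodule.mem_span_singleton.1 hpar
  have hin' : U i ∉ Submodule.span F {U' i} := fun h => by
    obtain ⟨c', hc'⟩ := Submodule.mem_span_singleton.1 h
    have hc0 : c' ≠ 0 := fun e0 => hUne i (by rw [← hc', e0, zero_smul])
    exact hin (Submodule.mem_span_singleton.2 ⟨c'⁻¹, by rw [← hc', inv_smul_smul₀ hc0]⟩)
  obtain ⟨η, e1, e2⟩ := CfsgLib.ClassicalMax.Kron.exists_dot_eq hin'
  have h1 := hrel (Function.update d₀ i η)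
  rw [Finset.prod_eq_zero (Finset.mem_univ i) (by simpa using e1),
    Finset.prod_eq_zero (Finset.mem_univ i) (by rw [Function.update_self, ← hc, dotProduct_smul, e1, smul_zero] :
      Function.update d₀ i η i ⬝ᵥ U'' i = 0), mul_zero, zero_add,
    Finset.prod_eq_one fun l _ => by
      rcases eq_or_ne l i with rfl | hli
      · simpa using e2
      · simpa [hli] using hd₀ l] at h1
  exact zero_ne_one h1

/-- A pair of exchanged factors costs more rank than a root, unless there are three dimensions. -/
lemma swap_form (hm : 3 ≤ m) {a : Fin t → GL (Fin m) F} {σ : Equiv.Perm (Fin t)} {i j : Fin t}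
    (hij : i ≠ j) (hσi : σ i = j) (hσj : σ j = i) (hai : ∃ c : F, (a i : Matrix (Fin m) (Fin m) F) = c • 1)
    (haj : (a j : Matrix (Fin m) (Fin m) F) = 1)
    (hrk : ((pwUnit a * permUnit σ : GL (Fin t → Fin m) F).val - 1).rank ≤ m ^ (t - 1)) :
    m = 3 ∧ (pwUnit a * permUnit σ : GL (Fin t → Fin m) F) = permUnit (Equiv.swap i j) := by
  classical
  haveI : NeZero m := ⟨by omega⟩
  set y : Matrix (Fin t → Fin m) (Fin t → Fin m) F := (pwUnit a * permUnit σ : GL (Fin t → Fin m) F).val
    with hy
  obtain ⟨c, hc⟩ := hai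
  have hyz : ∀ z w, y z w = ∏ l, (a l : Matrix (Fin m) (Fin m) F) (z l) (w (σ⁻¹ l)) := by
    intro z w
    show (HMul.hMul (pw fun l => (a l : Matrix (Fin m) (Fin m) F)) (permMat σ) :
      Matrix (Fin t → Fin m) (Fin t → Fin m) F) z w = _
    rw [mul_permMat]
    rfl
  have hσi' : σ⁻¹ i = j := by rw [← hσj]; simp
  have hσj' : σ⁻¹ j = i := by rw [← hσi]; simp
  have hy0 : ∀ z w, ¬(z i = w j ∧ z j = w i) → y z w = 0 := by
    intro z w h
    rw [hyz]
    by_cases h1 : z i = w j
    · refine Finset.prod_eq_zero (Finset.mem_univ j) ?_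
      rw [haj, hσj', Matrix.one_apply_ne (fun e => h ⟨h1, e⟩)]
    · refine Finset.prod_eq_zero (Finset.mem_univ i) ?_
      rw [hc, hσi', Matrix.smul_apply, Matrix.one_apply_ne h1, smul_zero]
  set X := Finset.univ.filter fun z : Fin t → Fin m => z i < z j with hX
  -- the count
  have hXcard : 2 * X.card + m ^ (t - 1) = m ^ t := by
    have h1 : (Finset.univ.filter fun z : Fin t → Fin m => z j < z i).card = X.card :=
      Finset.card_bij (fun z _ => z ∘ Equiv.swap i j) (fun z hz => by simpa [X] using hz)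
        (fun z _ w _ h => funext fun l => by simpa using congrFun h (Equiv.swap i j l))
        (fun z hz => ⟨z ∘ Equiv.swap i j, by simpa [X] using hz, funext fun l => by simp⟩)
    have h2 : (Finset.univ.filter fun z : Fin t → Fin m => z i = z j).card = m ^ (t - 1) := by
      rw [← Fintype.card_subtype]
      calc Fintype.card {z : Fin t → Fin m // z i = z j}
          = Fintype.card ({l // l ≠ j} → Fin m) := Fintype.card_congr
            { toFun := fun z l => z.1 l.1
              invFun := fun f => ⟨fun l => if h : l = j then f ⟨i, hij⟩ else f ⟨l, h⟩, by simp [hij]⟩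
              left_inv := fun z => Subtype.ext (funext fun l => by
                by_cases h : l = j
                · subst h; simpa using z.2
                · simp [h])
              right_inv := fun f => funext fun l => by simp [l.2] }
        _ = m ^ (t - 1) := by simp [Fintype.card_subtype_compl]
    have h3 := Finset.card_filter_add_card_filter_not (s := (Finset.univ : Finset (Fin t → Fin m)))
      (fun z => z i = z j)
    have h4 : (Finset.univ.filter fun z : Fin t → Fin m => ¬ z i = z j) =
        X ∪ Finset.univ.filter fun z : Fin t → Fin m => z j < z i := by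
      ext z
      simp only [X, Finset.mem_filter, Finset.mem_univ, true_and, Finset.mem_union]
      exact lt_or_lt_iff_ne.symm
    have hdis : Disjoint X (Finset.univ.filter fun z : Fin t → Fin m => z j < z i) :=
      Finset.disjoint_filter.2 fun z _ (h : z i < z j) (h' : z j < z i) => lt_asymm h h'
    rw [h4, Finset.card_union_of_disjoint hdis, h1, h2, Finset.card_univ, Fintype.card_fun, Fintype.card_fin, Fintype.card_fin] at h3
    omega
  have hdiag : (y - 1).submatrix (fun z : X => z.1) (fun z : X => z.1) = -1 := by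
    ext z w
    have hz : z.1 i < z.1 j := (Finset.mem_filter.1 z.2).2
    have hw : w.1 i < w.1 j := (Finset.mem_filter.1 w.2).2
    have h0 : y z.1 w.1 = 0 := hy0 _ _ fun h => lt_asymm hw (h.1 ▸ h.2 ▸ hz)
    rw [Matrix.submatrix_apply, Matrix.sub_apply, h0, zero_sub, Matrix.neg_apply]
    simp only [Matrix.one_apply, Subtype.ext_iff]
  have hX1 : X.card ≤ (y - 1).rank := by
    have h := Matrix.rank_submatrix_le (y - 1) (fun z : X => z.1) (fun z : X => z.1)
    rw [hdiag, Matrix.rank_of_isUnit _ (isUnit_one.neg : IsUnit (-1 : Matrix X X F)), Fintype.card_coe] at h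
    exact h
  have ht : 1 ≤ t := i.pos
  have hpow : m ^ t = m * m ^ (t - 1) := by rw [← pow_succ', Nat.sub_add_cancel ht]
  have hm3 : m = 3 := by
    by_contra hne
    have h4 : 4 * m ^ (t - 1) ≤ m * m ^ (t - 1) := Nat.mul_le_mul_right _ (by omega)
    have hpos : 0 < m ^ (t - 1) := pow_pos (by omega) _
    linarith
  have hblock : ∀ z w : Fin t → Fin m, z i = z j → w i = w j → y z w = (1 : Matrix _ _ F) z w := by
    intro z w hz hw
    by_contra hne
    have hzX : z ∉ X := by simp [X, hz]
    have hwX : w ∉ X := by simp [X, hw]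
    have hd : (y - 1).submatrix (fun o : Option X => o.elim z Subtype.val)
        (fun o : Option X => o.elim w Subtype.val) =
        Matrix.diagonal fun o : Option X => o.elim ((y - 1) z w) fun _ => -1 := by
      ext (_ | p) (_ | q)
      · simp
      · have hq : q.1 i < q.1 j := (Finset.mem_filter.1 q.2).2
        have h0 : y z q.1 = 0 := hy0 _ _ fun h => hq.ne (h.2.symm.trans (hz.symm.trans h.1))
        simp [h0, Matrix.one_apply_ne (fun e => hzX (e ▸ q.2) : z ≠ q.1)]
      · have hp : p.1 i < p.1 j := (Finset.mem_filter.1 p.2).2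
        have h0 : y p.1 w = 0 := hy0 _ _ fun h => hp.ne (h.1.trans (hw.symm.trans h.2.symm))
        simp [h0, Matrix.one_apply_ne (fun e => hwX (e.symm ▸ p.2) : p.1 ≠ w)]
      · have := congrFun (congrFun hdiag p) q
        simp only [Matrix.submatrix_apply] at this ⊢
        simp only [Option.elim_some, this]
        by_cases hpq : p = q <;> simp [hpq]
    have hu : IsUnit (Matrix.diagonal fun o : Option X => o.elim ((y - 1) z w) fun _ => (-1 : F)) := by
      rw [Matrix.isUnit_diagonal, Pi.isUnit_iff]
      rintro (_ | p)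
      · exact isUnit_iff_ne_zero.2 (by simpa [sub_eq_zero] using hne)
      · exact isUnit_one.neg
    have h := Matrix.rank_submatrix_le (y - 1) (fun o : Option X => o.elim z Subtype.val)
      (fun o : Option X => o.elim w Subtype.val)
    rw [hd, Matrix.rank_of_isUnit _ hu, Fintype.card_option, Fintype.card_coe] at h
    have h3 : m * m ^ (t - 1) = 3 * m ^ (t - 1) := by rw [hm3]
    linarith
  refine ⟨hm3, Units.ext (Matrix.ext fun z w => ?_)⟩
  show y z w = permMat (Equiv.swap i j) z w
  simp only [permMat, Matrix.of_apply]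
  by_cases h : z i = w j ∧ z j = w i
  · set z' : Fin t → Fin m := Function.update (Function.update z i 0) j 0
    set w' : Fin t → Fin m := Function.update (Function.update w i 0) j 0
    have hb := hblock z' w' (by simp [z', hij]) (by simp [w', hij])
    have he : y z w = y z' w' := by
      rw [hyz, hyz]
      refine Finset.prod_congr rfl fun l _ => ?_
      rcases eq_or_ne l i with rfl | hli
      · simp [hc, hσi', z', w', hij, h.1]
      rcases eq_or_ne l j with rfl | hlj
      · simp [haj, hσj', z', w', hij, h.2]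
      · have h1 : σ⁻¹ l ≠ i := fun e => hlj (σ⁻¹.injective (e.trans hσj'.symm))
        have h2 : σ⁻¹ l ≠ j := fun e => hli (σ⁻¹.injective (e.trans hσi'.symm))
        simp only [z', w', Function.update_of_ne hli, Function.update_of_ne hlj, Function.update_of_ne h1,
          Function.update_of_ne h2]
    rw [he, hb, Matrix.one_apply]
    congr 1
    refine propext ⟨fun e => funext fun l => ?_, fun e => funext fun l => ?_⟩
    · rcases eq_or_ne l i with rfl | hli
      · simpa using h.2.symm
      rcases eq_or_ne l j with rfl | hlj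
      · simpa using h.1.symm
      · have := congrFun e l
        simp [z', w', hli, hlj] at this
        simp [Equiv.swap_apply_of_ne_of_ne hli hlj, this]
    · rcases eq_or_ne l i with rfl | hli
      · simp [z', w', hij]
      rcases eq_or_ne l j with rfl | hlj
      · simp [z', w']
      · simp [z', w', hli, hlj, e, Equiv.swap_apply_of_ne_of_ne hli hlj]
  · rw [hy0 z w h, if_neg fun e => h ⟨by simp [e], by simp [e]⟩]

end CfsgLib.ClassicalMax.TensorWreath
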