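/-
The members of the wreath group which could be conjugate to a root of one factor.
-/
import Cfsg.Agent.Lib.ClassicalMax.TensorWreath.RootForm

set_option autoImplicit false
set_option linter.unusedSectionVars false

namespace CfsgLib.ClassicalMax.TensorWreath

open Matrix Cfsg.Geo CfsgLib.Asch Module
open CfsgLib.SpinTensor (pv pw_mulVec_pv pwUnit_mul permUnit_mul permUnit_one permUnit_inv permUnit_conj
  exists_normal_form)

variable {F : Type*} [Field F] {m t n : ℕ}

/-- Products of factor matrices as a monoid map. -/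
def pwHom : (Fin t → Matrix (Fin m) (Fin m) F) →* Matrix (Fin t → Fin m) (Fin t → Fin m) F where
  toFun := pw
  map_one' := pw_one
  map_mul' A B := (pw_mul A B).symm

lemma pv_update_add (v : Fin t → Fin m → F) (i : Fin t) (a b : Fin m → F) :
    pv (Function.update v i (a + b)) = pv (Function.update v i a) + pv (Function.update v i b) := by
  funext x
  have key : ∀ c : Fin m → F, pv (Function.update v i c) x = c (x i) * ∏ l ∈ Finset.univ.erase i, v l (x l) := by
    intro c
    rw [pv, ← Finset.mul_prod_erase _ _ (Finset.mem_univ i), Function.update_self]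
    refine congrArg (_ * ·) (Finset.prod_congr rfl fun l hl => ?_)
    rw [Function.update_of_ne (Finset.ne_of_mem_erase hl)]
  simp [key, add_mul]

/-- A square zero step of pure products is unipotent in every factor. -/
lemma nilp_factors [Finite F] [NeZero m] {A : Fin t → Matrix (Fin m) (Fin m) F}
    (hA : ∀ s, IsUnit (A s)) (hN : (pw A - 1) * (pw A - 1) = 0) :
    ∃ N : Fin t → Matrix (Fin m) (Fin m) F, (∀ s, N s * N s = 0) ∧ pw A = pw fun s => 1 + N s := by
  obtain ⟨p, hp⟩ := CharP.exists F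
  haveI := hp
  haveI : Fact p.Prime := ⟨CharP.char_is_prime F p⟩
  have hp2 : 2 ≤ p := (Fact.out : p.Prime).two_le
  have hpow : pw A ^ p = 1 := by
    have h : (pw A - 1) ^ p = 0 := pow_eq_zero_of_le hp2 (by rw [sq, hN])
    rw [sub_pow_char_of_commute (p := p) (h := Commute.one_right _), one_pow, sub_eq_zero] at h
    exact h
  have hsc := fun s => pw_eq_one_scalar (show pw (A ^ p) = 1 by rw [← hpow]; exact map_pow pwHom A p) s
  choose c hc0 hc using hsc
  choose l hl using fun s => exists_shift p 1 (Z := A s) (c := c s) (by rw [pow_one]; exact hc s)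
  simp only [pow_one] at hl
  have hl0 : ∀ s, l s ≠ 0 := fun s h0 => by
    have := hl s
    rw [h0, zero_smul, sub_zero] at this
    exact ((hA s).pow p).ne_zero this
  set N : Fin t → Matrix (Fin m) (Fin m) F := fun s => (l s)⁻¹ • (A s - l s • 1) with hN'
  have hNp : ∀ s, N s ^ p = 0 := fun s => by rw [hN', smul_pow, hl, smul_zero]
  have hAs : ∀ s, A s = l s • (1 + N s) := fun s => by
    rw [smul_add, hN', smul_smul, mul_inv_cancel₀ (hl0 s), one_smul, add_sub_cancel]
  have hfix : ∀ s, ∃ v, v ≠ 0 ∧ N s *ᵥ v = 0 := fun s => by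
    refine Matrix.exists_mulVec_eq_zero_iff.2 ?_
    have h := congrArg Matrix.det (hNp s)
    rw [det_pow, det_zero] at h
    exact pow_eq_zero_iff (by omega) |>.1 h
  choose v hv hNv using hfix
  have hpwA : pw A = (∏ s, l s) • pw fun s => 1 + N s := by
    rw [← pw_smul]
    exact congrArg pw (funext hAs)
  have hl1 : ∏ s, l s = 1 := by
    have h := congrArg (fun M => M *ᵥ pv v) hN
    have hfix : pw (fun s => 1 + N s) *ᵥ pv v = pv v := by
      rw [pw_mulVec_pv]
      congr 1
      funext s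
      rw [add_mulVec, one_mulVec, hNv, add_zero]
    have h1 : (pw A - 1) *ᵥ pv v = ((∏ s, l s) - 1) • pv v := by
      rw [sub_mulVec, hpwA, smul_mulVec, hfix, one_mulVec, sub_smul, one_smul]
    rw [← mulVec_mulVec, h1, mulVec_smul, h1, zero_mulVec, smul_smul, smul_eq_zero, mul_self_eq_zero,
      sub_eq_zero] at h
    exact h.resolve_right (pv_ne_zero hv)
  rw [hl1, one_smul] at hpwA
  refine ⟨N, fun i => ?_, hpwA⟩
  refine Matrix.ext_of_mulVec_single fun a => ?_
  set w : Fin m → F := Pi.single a 1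
  rw [← mulVec_mulVec, zero_mulVec]
  have hstep : ∀ w, (pw A - 1) *ᵥ pv (Function.update v i w) = pv (Function.update v i (N i *ᵥ w)) := by
    intro w
    rw [sub_mulVec, hpwA, pw_mulVec_pv, one_mulVec, sub_eq_iff_eq_add, ← pv_update_add]
    congr 1
    funext s
    rcases eq_or_ne s i with rfl | hs
    · simp [add_mulVec, add_comm]
    · simp [hs, add_mulVec, hNv]
  have h := congrArg (fun M => M *ᵥ pv (Function.update v i w)) hN
  simp only [← mulVec_mulVec, hstep, zero_mulVec] at h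
  by_contra hne
  refine pv_ne_zero (fun s => ?_) h
  rcases eq_or_ne s i with rfl | hs
  · simpa using hne
  · simpa [hs] using hv s

/-- A product vector over the first factor and the others. -/
def pvec (v : Fin m → F) (w : (Fin n → Fin m) → F) : (Fin (n + 1) → Fin m) → F :=
  fun x => v (x 0) * w (Fin.tail x)

lemma kr_mulVec_pvec (A : Matrix (Fin m) (Fin m) F) (B : Matrix (Fin n → Fin m) (Fin n → Fin m) F)
    (v : Fin m → F) (w : (Fin n → Fin m) → F) : kr A B *ᵥ pvec v w = pvec (A *ᵥ v) (B *ᵥ w) := by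
  funext x
  simp only [Matrix.mulVec, dotProduct, pvec, kr_apply]
  rw [← Equiv.sum_comp hd.symm, Fintype.sum_prod_type, Finset.sum_mul_sum]
  simp [hd, Fin.consEquiv, mul_mul_mul_comm]

/-- Contraction of the first factor. -/
def con0 (η : Fin m → F) : ((Fin (n + 1) → Fin m) → F) →ₗ[F] ((Fin n → Fin m) → F) where
  toFun z y := ∑ a, η a * z (Fin.cons a y)
  map_add' z z' := funext fun y => by simp [mul_add, Finset.sum_add_distrib]
  map_smul' c z := funext fun y => by simp [Finset.mul_sum, mul_left_comm]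

lemma con0_pvec (η v : Fin m → F) (w : (Fin n → Fin m) → F) : con0 η (pvec v w) = (η ⬝ᵥ v) • w := by
  funext y
  simp [con0, pvec, dotProduct, Finset.sum_mul, mul_assoc]

lemma eq_vecMulVec_of_range {N : Matrix (Fin m) (Fin m) F} {u : Fin m → F}
    (h : ∀ v, N *ᵥ v ∈ Submodule.span F {u}) : ∃ τ, N = vecMulVec u τ := by
  choose c hc using fun v => Submodule.mem_span_singleton.1 (h v)
  refine ⟨fun b => c (Pi.single b 1), Matrix.ext fun a b => ?_⟩
  have := congrFun (hc (Pi.single b 1)) a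
  rw [mulVec_single_one, Matrix.col_apply, Pi.smul_apply, smul_eq_mul] at this
  rw [← this, vecMulVec_apply, mul_comm]

/-- Rank bound for a step with a moved first factor. -/
lemma rank_root (hm : 3 ≤ m) {N : Matrix (Fin m) (Fin m) F} (hNN : N * N = 0) (hN : N ≠ 0)
    {B : Matrix (Fin n → Fin m) (Fin n → Fin m) F} (hB : IsUnit B)
    (hrk : (kr (1 + N) B - 1).rank ≤ m ^ n) :
    B = 1 ∧ ∃ u τ, u ≠ 0 ∧ τ ≠ 0 ∧ τ ⬝ᵥ u = 0 ∧ N = vecMulVec u τ := by
  classical
  set Y := kr (1 + N) B - 1 with hY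
  set K := LinearMap.range Y.mulVecLin with hK
  have hKr : finrank F K ≤ m ^ n := hrk
  have hU : finrank F ((Fin n → Fin m) → F) = m ^ n := by simp
  have hYv : ∀ v w, Y *ᵥ pvec v w = pvec (v + N *ᵥ v) (B *ᵥ w) - pvec v w := fun v w => by
    rw [hY, sub_mulVec, kr_mulVec_pvec, one_mulVec, add_mulVec, one_mulVec]
  obtain ⟨v, hv⟩ : ∃ v, N *ᵥ v ≠ 0 := by
    by_contra hcon
    push Not at hcon
    exact hN (Matrix.ext_of_mulVec_single fun a => by rw [hcon, zero_mulVec])
  have hle : LinearMap.range N.mulVecLin ≤ LinearMap.ker N.mulVecLin := by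
    rintro _ ⟨z, rfl⟩
    simp [mulVec_mulVec, hNN]
  have hker : 2 ≤ finrank F (LinearMap.ker N.mulVecLin) := by
    have h1 := LinearMap.finrank_range_add_finrank_ker N.mulVecLin
    rw [finrank_fin_fun] at h1
    have h2 := Submodule.finrank_mono hle
    omega
  obtain ⟨u, hu, hu'⟩ : ∃ u, N *ᵥ u = 0 ∧ u ∉ Submodule.span F {N *ᵥ v} := by
    by_contra hcon
    push Not at hcon
    have h1 : finrank F (LinearMap.ker N.mulVecLin) ≤
        finrank F (Submodule.span F ({N *ᵥ v} : Set (Fin m → F))) := Submodule.finrank_mono fun z hz => hcon z hz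
    have h2 : finrank F (Submodule.span F ({N *ᵥ v} : Set (Fin m → F))) ≤ 1 :=
      (finrank_span_le_card _).trans (by simp)
    omega
  have hB1 : B = 1 := by
    by_contra hne
    obtain ⟨w', hw'⟩ : ∃ w', B *ᵥ w' - w' ≠ 0 := by
      by_contra hcon
      push Not at hcon
      exact hne (Matrix.ext_of_mulVec_single fun a => by rw [one_mulVec]; exact sub_eq_zero.1 (hcon _))
    have hns : N *ᵥ v ∉ Submodule.span F ({v, u} : Set (Fin m → F)) := by
      intro hin
      obtain ⟨α, β, hab⟩ := Submodule.mem_span_pair.1 hin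
      have h0 := congrArg (N *ᵥ ·) hab
      simp only [mulVec_add, mulVec_smul, hu, smul_zero, add_zero, mulVec_mulVec, hNN, zero_mulVec] at h0
      rw [(smul_eq_zero.1 h0).resolve_right hv, zero_smul, zero_add] at hab
      have hβ : β ≠ 0 := fun e => hv (by rw [← hab, e, zero_smul])
      exact hu' (Submodule.mem_span_singleton.2 ⟨β⁻¹, by rw [← hab, inv_smul_smul₀ hβ]⟩)
    obtain ⟨η, hη1, hη0⟩ := exists_dual _ hns
    have hηv : η ⬝ᵥ v = 0 := hη0 v (Submodule.subset_span (by simp))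
    have hηu : η ⬝ᵥ u = 0 := hη0 u (Submodule.subset_span (by simp))
    set f := (con0 (n := n) η).comp K.subtype
    have hsurj : LinearMap.range f = ⊤ := by
      refine LinearMap.range_eq_top.2 fun w => ⟨⟨_, ⟨pvec v ((hB.unit⁻¹).val *ᵥ w), rfl⟩⟩, ?_⟩
      show con0 η (Y *ᵥ _) = w
      rw [hYv, map_sub, con0_pvec, con0_pvec, hηv, zero_smul, sub_zero, dotProduct_add, hηv, hη1,
        zero_add, one_smul, mulVec_mulVec, IsUnit.mul_val_inv, one_mulVec]
    have hz : (⟨Y *ᵥ pvec u w', ⟨_, rfl⟩⟩ : K) ∈ LinearMap.ker f := by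
      show con0 η (Y *ᵥ pvec u w') = 0
      rw [hYv, map_sub, con0_pvec, con0_pvec, hu, add_zero, hηu, zero_smul, zero_smul, sub_zero]
    have h1 := LinearMap.finrank_range_add_finrank_ker f
    rw [hsurj, finrank_top, hU] at h1
    have h2 : 0 < finrank F (LinearMap.ker f) := by
      refine Nat.pos_of_ne_zero fun e0 => ?_
      rw [Submodule.finrank_eq_zero] at e0
      have e : (⟨Y *ᵥ pvec u w', ⟨_, rfl⟩⟩ : K) ∈ (⊥ : Submodule F K) := e0 ▸ hz
      have e' : Y *ᵥ pvec u w' = 0 := congrArg Subtype.val ((Submodule.mem_bot F).1 e)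
      rw [hYv, hu, add_zero] at e'
      obtain ⟨a, ha⟩ := Function.ne_iff.1 (show u ≠ 0 from fun e0 => hu' (e0 ▸ Submodule.zero_mem _))
      obtain ⟨y, hy⟩ := Function.ne_iff.1 hw'
      have := congrFun e' (Fin.cons a y)
      simp only [Pi.sub_apply, pvec, Fin.cons_zero, Fin.tail_cons, Pi.zero_apply, ← mul_sub] at this
      exact (mul_ne_zero ha (by simpa using hy)) this
    omega
  refine ⟨hB1, ?_⟩
  -- the range of the moved factor is a line
  have hline : ∀ v', N *ᵥ v' ∈ Submodule.span F {N *ᵥ v} := by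
    by_contra hcon
    push Not at hcon
    obtain ⟨v', hv'⟩ := hcon
    obtain ⟨η', a1, a2⟩ := CfsgLib.ClassicalMax.Kron.exists_dot_eq hv'
    have hv'' : N *ᵥ v ∉ Submodule.span F {N *ᵥ v'} := fun h => by
      obtain ⟨c, hc⟩ := Submodule.mem_span_singleton.1 h
      rw [← hc, dotProduct_smul, a2, smul_eq_mul, mul_one] at a1
      exact hv (by rw [← hc, a1, zero_smul])
    obtain ⟨η, b1, b2⟩ := CfsgLib.ClassicalMax.Kron.exists_dot_eq hv''
    set f := ((con0 (n := n) η).prod (con0 η')).comp K.subtype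
    have hsurj : LinearMap.range f = ⊤ := by
      refine LinearMap.range_eq_top.2 fun w => ⟨⟨_, ⟨pvec v w.1 + pvec v' w.2, rfl⟩⟩, ?_⟩
      have e : ∀ z x, Y *ᵥ pvec z x = pvec (N *ᵥ z) x := fun z x => by
        rw [hYv, hB1, one_mulVec]
        funext s
        simp [pvec, add_mul]
      show (con0 η (Y *ᵥ _), con0 η' (Y *ᵥ _)) = w
      simp [mulVec_add, e, con0_pvec, a1, a2, b1, b2]
    have h1 := LinearMap.finrank_range_add_finrank_ker f
    rw [hsurj, finrank_top, Module.finrank_prod, hU] at h1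
    have hpos : 0 < m ^ n := pow_pos (by omega) _
    omega
  obtain ⟨τ, hτ⟩ := eq_vecMulVec_of_range hline
  refine ⟨N *ᵥ v, τ, hv, fun e => hN (by rw [hτ, e, vecMulVec_zero]), ?_, hτ⟩
  have h := hNN
  rw [hτ, vecMulVec_mul_vecMulVec, vecMulVec_smul, smul_eq_zero] at h
  exact h.resolve_right (fun e => hN (by rw [hτ, e]))

lemma rank_conj (g : GL (Fin t → Fin m) F) (A : Matrix (Fin t → Fin m) (Fin t → Fin m) F) :
    ((g : Matrix _ _ F) * A * ((g⁻¹ : GL (Fin t → Fin m) F) : Matrix _ _ F) - 1).rank = (A - 1).rank := by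
  have h : (g : Matrix _ _ F) * A * ((g⁻¹ : GL (Fin t → Fin m) F) : Matrix _ _ F) - 1 =
      (g : Matrix _ _ F) * (A - 1) * ((g⁻¹ : GL (Fin t → Fin m) F) : Matrix _ _ F) := by
    rw [mul_sub, sub_mul, mul_one, ← Units.val_mul, mul_inv_cancel, Units.val_one]
  rw [h, Matrix.rank_mul_eq_left_of_isUnit_det _ _ (Matrix.isUnit_iff_isUnit_det _ |>.1 (g⁻¹).isUnit),
    Matrix.rank_mul_eq_right_of_isUnit_det _ _ (Matrix.isUnit_iff_isUnit_det _ |>.1 g.isUnit)]

/-- The possible shapes of square zero steps of small rank in the wreath group. -/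
theorem root_form [Finite F] (hm : 3 ≤ m) {y : GL (Fin (n + 1) → Fin m) F}
    (hy : y ∈ tensorWreathStandard m (n + 1) F)
    (hN : ((y : Matrix _ _ F) - 1) * ((y : Matrix (Fin (n + 1) → Fin m) (Fin (n + 1) → Fin m) F) - 1) = 0)
    (hrk : ((y : Matrix (Fin (n + 1) → Fin m) (Fin (n + 1) → Fin m) F) - 1).rank ≤ m ^ n) (hne : y ≠ 1) :
    (∃ (j : Fin (n + 1)) (u τ : Fin m → F), u ≠ 0 ∧ τ ≠ 0 ∧ τ ⬝ᵥ u = 0 ∧
      (y : Matrix (Fin (n + 1) → Fin m) (Fin (n + 1) → Fin m) F) = 1 + slot j (vecMulVec u τ)) ∨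
    (m = 3 ∧ (2 : F) = 0 ∧ ∃ (C : Fin (n + 1) → GL (Fin m) F) (i j : Fin (n + 1)), i ≠ j ∧
      y = pwUnit C * permUnit (Equiv.swap i j) * (pwUnit C)⁻¹) := by
  classical
  haveI : NeZero m := ⟨by omega⟩
  obtain ⟨a, σ, rfl⟩ := exists_normal_form hy
  by_cases hσ : σ = 1
  · subst hσ
    rw [permUnit_one, mul_one] at hN hrk hne ⊢
    have hv : (pwUnit a : GL (Fin (n + 1) → Fin m) F).val = pw fun s => (a s : Matrix (Fin m) (Fin m) F) := rfl
    rw [hv] at hN hrk
    obtain ⟨N, hNN, hA⟩ := nilp_factors (fun s => (a s).isUnit) hN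
    have hex : ∃ i, N i ≠ 0 := by
      by_contra hcon
      push Not at hcon
      refine hne (Units.ext ?_)
      rw [hv, hA, Units.val_one, ← pw_one]
      exact congrArg pw (funext fun s => by rw [hcon, add_zero]; rfl)
    obtain ⟨i, hi⟩ := hex
    set P : GL (Fin (n + 1) → Fin m) F := permUnit (Equiv.swap i 0) with hP
    have hconj : (P : Matrix (Fin (n + 1) → Fin m) (Fin (n + 1) → Fin m) F) *
        pw (fun s => (1 : Matrix (Fin m) (Fin m) F) + N s) *
        ((P⁻¹ : GL (Fin (n + 1) → Fin m) F) : Matrix (Fin (n + 1) → Fin m) (Fin (n + 1) → Fin m) F) =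
        kr (1 + N i) (pw fun s => 1 + N (Equiv.swap i 0 s.succ)) := by
      show permMat (Equiv.swap i 0) * _ * permMat (Equiv.swap i 0)⁻¹ = _
      rw [permMat_conj_pw, pw_eq_kr]
      simp only [Equiv.swap_inv, Equiv.swap_apply_right]
      rfl
    rw [hA, ← rank_conj P, hconj] at hrk
    have hu : IsUnit (pw fun s : Fin n => (1 : Matrix (Fin m) (Fin m) F) + N (Equiv.swap i 0 s.succ)) :=
      IsUnit.of_mul_eq_one (pw fun s => 1 - N (Equiv.swap i 0 s.succ)) (by
        rw [pw_mul, ← pw_one]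
        refine congrArg pw (funext fun s => ?_)
        simp [mul_sub, add_mul, hNN])
    obtain ⟨hB, u, τ, h1, h2, h3, h4⟩ := rank_root hm (hNN i) hi hu hrk
    refine Or.inl ⟨i, u, τ, h1, h2, h3, ?_⟩
    rw [hv, hA, ← h4, ← slot_one (F := F) (m := m) i, ← slot_add, slot]
    refine congrArg pw (funext fun s => ?_)
    rcases eq_or_ne s i with rfl | hs
    · simp
    rw [Function.update_of_ne hs]
    obtain ⟨s', hs'⟩ : ∃ s', Equiv.swap i 0 (Fin.succ s') = s := by
      obtain ⟨s', hs'⟩ := Fin.exists_succ_eq.2 (show Equiv.swap i 0 s ≠ 0 from fun h => hs (by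
        simpa using congrArg (Equiv.swap i 0) h))
      exact ⟨s', by rw [hs', Equiv.swap_apply_self]⟩
    obtain ⟨c, -, hc⟩ := pw_eq_one_scalar hB s'
    rw [hs'] at hc
    have hNs : N s = (c - 1) • 1 := by rw [sub_smul, one_smul, ← hc, add_sub_cancel_left]
    have h0 := congrFun (congrFun (hNN s) 0) 0
    rw [hNs] at h0
    simp [Matrix.smul_apply] at h0
    simp [hNs, h0]
  right
  have h2 : (2 : F) = 0 := by
    by_contra h2
    exact hσ (perm_one_of_odd (by omega) h2 hN)
  have hsq : (pwUnit a * permUnit σ) * (pwUnit a * permUnit σ) = (1 : GL (Fin (n + 1) → Fin m) F) := by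
    refine Units.ext ?_
    rw [Units.val_mul, Units.val_one]
    set Y := (pwUnit a * permUnit σ : GL (Fin (n + 1) → Fin m) F).val
    have : Y * Y = Y + Y - 1 := by
      rw [← sub_eq_zero, ← hN]
      noncomm_ring
    rw [this, ← two_smul F Y, h2, zero_smul, zero_sub, ← neg_one_smul F (1 : Matrix _ _ F),
      show (-1 : F) = 1 by linear_combination -h2, one_smul]
  have hmul : (pwUnit a * permUnit σ) * (pwUnit a * permUnit σ) =
      pwUnit (a * fun s => a (σ⁻¹ s)) * (permUnit (σ * σ) : GL (Fin (n + 1) → Fin m) F) := by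
    rw [mul_assoc, ← mul_assoc (permUnit σ), permUnit_conj, mul_assoc, permUnit_mul, ← mul_assoc, pwUnit_mul]
  rw [hmul] at hsq
  have hσσ := permUnit_eq_one (by omega) hsq
  obtain ⟨i, hi⟩ : ∃ i, σ i ≠ i := by
    by_contra hcon
    push Not at hcon
    exact hσ (Equiv.ext hcon)
  set j := σ i with hj
  have hji : σ j = i := by rw [hj, ← Equiv.Perm.mul_apply, hσσ]; rfl
  have hσi : σ⁻¹ i = j := by rw [← hji]; simp
  have hscal : ∃ c : F, ((a i * a j : GL (Fin m) F) : Matrix (Fin m) (Fin m) F) = c • 1 := by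
    rw [hσσ, permUnit_one, mul_one] at hsq
    obtain ⟨c, -, hc⟩ := pw_eq_one_scalar (congrArg Units.val hsq) i
    exact ⟨c, by rw [← hc, Pi.mul_apply, hσi]⟩
  set C : Fin (n + 1) → GL (Fin m) F := Function.update 1 j (a j) with hC
  set a' : Fin (n + 1) → GL (Fin m) F := fun s => (C s)⁻¹ * a s * C (σ⁻¹ s) with ha'
  have hconj : (pwUnit C)⁻¹ * (pwUnit a * permUnit σ) * pwUnit C =
      (pwUnit a' * permUnit σ : GL (Fin (n + 1) → Fin m) F) := by
    rw [show (pwUnit C)⁻¹ = pwUnit (fun s => (C s)⁻¹) from Units.ext rfl, mul_assoc, mul_assoc,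
      permUnit_conj, ← mul_assoc, ← mul_assoc, pwUnit_mul, pwUnit_mul]
    rfl
  have hai : ∃ c : F, (a' i : Matrix (Fin m) (Fin m) F) = c • 1 := by
    obtain ⟨c, hc⟩ := hscal
    refine ⟨c, ?_⟩
    show (((C i)⁻¹ * a i * C (σ⁻¹ i) : GL (Fin m) F) : Matrix (Fin m) (Fin m) F) = c • 1
    rw [hσi, hC, Function.update_self, Function.update_of_ne (Ne.symm hi), Pi.one_apply, inv_one, one_mul]
    exact hc
  have haj : (a' j : Matrix (Fin m) (Fin m) F) = 1 := by
    have : σ⁻¹ j = i := by rw [hj]; simp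
    show (((C j)⁻¹ * a j * C (σ⁻¹ j) : GL (Fin m) F) : Matrix (Fin m) (Fin m) F) = 1
    rw [this, hC, Function.update_self, Function.update_of_ne (Ne.symm hi), Pi.one_apply, inv_mul_cancel,
      one_mul, Units.val_one]
  obtain ⟨hm3, hsw⟩ := swap_form hm (Ne.symm hi) rfl hji hai haj (by
    rw [← hconj, Units.val_mul, Units.val_mul]
    have := rank_conj (pwUnit C)⁻¹ (pwUnit a * permUnit σ : GL (Fin (n + 1) → Fin m) F).val
    rw [inv_inv] at this
    rw [← Units.val_mul, ← Units.val_mul] at this ⊢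
    rw [this]
    exact hrk)
  exact ⟨hm3, h2, C, i, j, Ne.symm hi, by rw [← hsw, ← hconj]; group⟩

end CfsgLib.ClassicalMax.TensorWreath
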