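/-
An element of the group moving a root of one factor into the wreath group belongs to the wreath group.
-/
import Cfsg.Agent.Lib.ClassicalMax.TensorWreath.RootCases

set_option autoImplicit false
set_option linter.unusedSectionVars false

namespace CfsgLib.ClassicalMax.TensorWreath

open Matrix Cfsg.Geo CfsgLib.Asch
open CfsgLib.SpinTensor (pwUnit_mul pwUnit_one permUnit_mul permUnit_one permUnit_inv permUnit_conj
  exists_normal_form)

variable {F : Type*} [Field F] {m t n : ℕ}

lemma pwUnit_inv (a : Fin t → GL (Fin m) F) : (pwUnit a)⁻¹ = pwUnit fun s => (a s)⁻¹ := Units.ext rfl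

lemma perm_unique [NeZero m] (hm : 2 ≤ m) {a b : Fin t → GL (Fin m) F} {σ τ : Equiv.Perm (Fin t)}
    (h : pwUnit a * permUnit σ = (pwUnit b * permUnit τ : GL (Fin t → Fin m) F)) : σ = τ := by
  refine mul_inv_eq_one.1 (permUnit_eq_one (a := fun s => (b s)⁻¹ * a s) hm ?_)
  rw [← permUnit_mul, ← permUnit_inv, show (fun s => (b s)⁻¹ * a s) = (fun s => (b s)⁻¹) * a from rfl,
    ← pwUnit_mul, ← pwUnit_inv, mul_assoc, ← mul_assoc (pwUnit a), h]
  group

lemma blk_slot_same (s : Fin t) (i j : Fin m) (A : Matrix (Fin m) (Fin m) F) :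
    blk s i j (slot s A) = A i j • 1 := by
  have h : ∀ k, e s k i * slot s A * e s j k = A i j • e s k k := fun k => by
    simp only [e, slot_mul, ← slot_smul]
    congr 1
    ext a b
    rw [single_mul_mul_single, Matrix.smul_apply, smul_eq_mul]
    by_cases h1 : k = a <;> by_cases h2 : k = b <;> simp [Matrix.single_apply, h1, h2]
  rw [blk, Finset.sum_congr rfl fun k _ => h k, ← Finset.smul_sum, sum_e]

lemma slot_injective [NeZero m] (s : Fin t) :
    Function.Injective (slot (F := F) (m := m) s) := fun A B h => Matrix.ext fun i j => by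
  have := congrArg (fun M => blk s i j M (fun _ => 0) (fun _ => 0)) h
  simpa [blk_slot_same] using this

/-- A matrix unit of one factor is not a matrix of another factor. -/
lemma eq_of_slot_eq_e [NeZero m] {s s' : Fin t} {a b : Fin m} (hab : a ≠ b) {A : Matrix (Fin m) (Fin m) F}
    (h : slot s' A = e (F := F) s a b) : s' = s := by
  by_contra hs
  have hcomm := slot_commute hs A (Matrix.single b a 1)
  rw [h] at hcomm
  have := hcomm.eq
  rw [← e, e_mul, e_mul] at this
  have h2 := congrArg (· * e (F := F) s a a) this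
  simp only [e_mul, e_mul_of_ne _ _ _ hab.symm] at h2
  exact e_ne_zero s a a h2

lemma rank_slot_le (hm : 1 ≤ m) (s : Fin (n + 1)) (u τ : Fin m → F) :
    (slot s (vecMulVec u τ)).rank ≤ m ^ n := by
  classical
  let o : Fin m := ⟨0, hm⟩
  let δ : Fin m → F := Pi.single o 1
  have hf : slot s (vecMulVec u τ) = slot s (vecMulVec u δ) * slot s (vecMulVec δ τ) := by
    simp [slot_mul, vecMulVec_mul_vecMulVec, δ]
  rw [hf]
  refine (Matrix.rank_mul_le_right _ _).trans ?_
  refine (Matrix.rank_le_card_of_support_subset _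
    (Finset.univ.image fun f : Fin n → Fin m => Fin.insertNth s o f) ?_).trans
    (Finset.card_image_le.trans_eq (by simp))
  rw [Function.support_subset_iff']
  intro z hz
  have hzs : z s ≠ o := fun h => hz (by
    simp only [Finset.coe_image, Finset.coe_univ, Set.image_univ, Set.mem_range]
    exact ⟨Fin.removeNth s z, by rw [← h, Fin.insertNth_self_removeNth]⟩)
  funext w
  show slot s (vecMulVec δ τ) z w = 0
  refine Finset.prod_eq_zero (Finset.mem_univ s) ?_
  simp [vecMulVec_apply, δ, Pi.single_eq_of_ne hzs]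

variable [Finite F] {M : Subgroup (GL (Fin (n + 1) → Fin m) F)} (H : Hyp M)
  (hB : ¬ specialLinear (Fin (n + 1) → Fin m) F ≤ M) (ih : 2 ≤ n → Small F m n)
include H hB ih

lemma centraliser {z : GL (Fin (n + 1) → Fin m) F} (hz : z ∈ M) {s : Fin (n + 1)} {o i : Fin m}
    (hoi : o ≠ i)
    (h : (z : Matrix _ _ F) * e s o i = e s o i * (z : Matrix (Fin (n + 1) → Fin m) (Fin (n + 1) → Fin m) F)) :
    z ∈ tensorWreathStandard m (n + 1) F := by
  classical
  refine key_root H hB ih hz hoi (s := s) (j := s) (u := Pi.single o 1) (τ := Pi.single i 1) ?_ ?_ ?_ ?_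
  · exact fun e => by simpa using congrFun e o
  · exact fun e => by simpa using congrFun e i
  · simp [hoi.symm]
  rw [h, e]
  congr 2
  ext a b
  by_cases h1 : o = a <;> by_cases h2 : i = b <;> simp_all [vecMulVec_apply, eq_comm]

lemma centraliser_mem {g y c : GL (Fin (n + 1) → Fin m) F} (hg : g ∈ M) {s : Fin (n + 1)} {o i : Fin m}
    (hoi : o ≠ i) (heq : (g : Matrix _ _ F) * (y : Matrix (Fin (n + 1) → Fin m) (Fin (n + 1) → Fin m) F) =
      (1 + e s o i) * (g : Matrix _ _ F)) (hc : c ∈ M) (hcy : c * y = y * c) :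
    g * c * g⁻¹ ∈ tensorWreathStandard m (n + 1) F ∧
      ((g * c * g⁻¹ : GL _ F) : Matrix _ _ F) * e s o i =
        e s o i * ((g * c * g⁻¹ : GL _ F) : Matrix (Fin (n + 1) → Fin m) (Fin (n + 1) → Fin m) F) := by
  have h1 : (1 : Matrix (Fin (n + 1) → Fin m) (Fin (n + 1) → Fin m) F) + e s o i = (g * y * g⁻¹ : GL _ F).val := by
    rw [Units.val_mul, Units.val_mul, heq, mul_assoc, ← Units.val_mul, mul_inv_cancel, Units.val_one, mul_one]
  have h2 : Commute (g * c * g⁻¹) (g * y * g⁻¹) := by
    show g * c * g⁻¹ * (g * y * g⁻¹) = g * y * g⁻¹ * (g * c * g⁻¹)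
    calc _ = g * (c * y) * g⁻¹ := by group
      _ = g * (y * c) * g⁻¹ := by rw [hcy]
      _ = _ := by group
  have h3 := congrArg Units.val h2.eq
  rw [Units.val_mul, Units.val_mul (g * y * g⁻¹), ← h1, mul_add, add_mul, mul_one, one_mul] at h3
  have h4 := add_left_cancel h3
  exact ⟨centraliser H hB ih (M.mul_mem (M.mul_mem hg hc) (M.inv_mem hg)) hoi h4, h4⟩

end CfsgLib.ClassicalMax.TensorWreath
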