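/-
Two factors of dimension three in characteristic two: the exchange of the factors is not fused with a root.
-/
import Cfsg.Agent.Lib.ClassicalMax.TensorWreath.Fusion

set_option autoImplicit false
set_option linter.unusedSectionVars false

namespace CfsgLib.ClassicalMax.TensorWreath

open Matrix Cfsg.Geo CfsgLib.Asch
open CfsgLib.SpinTensor (pwUnit_mul pwUnit_one permUnit_mul permUnit_one permUnit_inv permUnit_conj
  exists_normal_form)

variable {F : Type*} [Field F]

/-- The centraliser of the root. -/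
def CentE (A : GL (Fin 3) F) : Prop :=
  (A : Matrix (Fin 3) (Fin 3) F) * Matrix.single 0 2 1 = Matrix.single 0 2 1 * (A : Matrix _ _ F)

/-- The series of the centraliser of a root in three dimensions. -/
def Lvl : ℕ → GL (Fin 3) F → Prop
  | 0, A => CentE A
  | 1, A => CentE A ∧ (A : Matrix (Fin 3) (Fin 3) F) 0 0 = 1 ∧ (A : Matrix (Fin 3) (Fin 3) F) 1 1 = 1
  | 2, A => (CentE A ∧ (A : Matrix (Fin 3) (Fin 3) F) 0 0 = 1 ∧ (A : Matrix (Fin 3) (Fin 3) F) 1 1 = 1) ∧
      (A : Matrix (Fin 3) (Fin 3) F) 0 1 = 0 ∧ (A : Matrix (Fin 3) (Fin 3) F) 1 2 = 0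
  | _ + 3, A => A = 1

lemma lvl0_entries {A : GL (Fin 3) F} (h : Lvl 0 A) :
    (A : Matrix (Fin 3) (Fin 3) F) 1 0 = 0 ∧ (A : Matrix (Fin 3) (Fin 3) F) 2 0 = 0 ∧
      (A : Matrix (Fin 3) (Fin 3) F) 2 1 = 0 ∧
      (A : Matrix (Fin 3) (Fin 3) F) 2 2 = (A : Matrix (Fin 3) (Fin 3) F) 0 0 := by
  have h' := fun a b => congrFun (congrFun h a) b
  have e1 := h' 1 2
  have e2 := h' 2 2
  have e3 := h' 0 1
  have e4 := h' 0 2
  simp [Matrix.mul_apply, Fin.sum_univ_three, Matrix.single_apply] at e1 e2 e3 e4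
  exact ⟨e1, e2, e3.symm, e4.symm⟩

lemma lvl_diag {A : GL (Fin 3) F} (h : Lvl 0 A) :
    (A : Matrix (Fin 3) (Fin 3) F) 0 0 ≠ 0 ∧ (A : Matrix (Fin 3) (Fin 3) F) 1 1 ≠ 0 := by
  obtain ⟨a, b, c, d⟩ := lvl0_entries h
  have hd := GeneralLinearGroup.det_ne_zero A
  rw [Matrix.det_fin_three] at hd
  constructor <;> intro h0 <;> apply hd <;> simp [a, b, c, d, h0]

lemma lvl_zero_of_lvl {k : ℕ} {A : GL (Fin 3) F} (h : Lvl k A) : Lvl 0 A := by
  match k, h with
  | 0, h => exact h
  | 1, h => exact h.1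
  | 2, h => exact h.1.1
  | _ + 3, h =>
    show (A : Matrix (Fin 3) (Fin 3) F) * _ = _
    rw [show A = 1 from h, Units.val_one, one_mul, mul_one]

lemma lvl_comm {k : ℕ} {A B : GL (Fin 3) F} (hA : Lvl k A) (hB : Lvl k B) :
    Lvl (k + 1) (A * B * A⁻¹ * B⁻¹) := by
  set K := A * B * A⁻¹ * B⁻¹ with hK
  have h0 := lvl_zero_of_lvl hA
  have h0' := lvl_zero_of_lvl hB
  have hK0 : Lvl 0 K := by
    let S : Submonoid (Matrix (Fin 3) (Fin 3) F) := Submonoid.centralizer {Matrix.single 0 2 1}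
    have hmem : ∀ C : GL (Fin 3) F, Lvl 0 C ↔ Commute (C : Matrix (Fin 3) (Fin 3) F) (Matrix.single 0 2 1) :=
      fun C => Iff.rfl
    rw [hmem] at h0 h0' ⊢
    simp only [hK, Units.val_mul]
    exact ((h0.mul_left h0').mul_left h0.units_inv_left).mul_left h0'.units_inv_left
  have heq : (K : Matrix (Fin 3) (Fin 3) F) * ((B : Matrix _ _ F) * (A : Matrix _ _ F)) =
      (A : Matrix _ _ F) * (B : Matrix _ _ F) := by
    rw [← Units.val_mul, ← Units.val_mul, ← Units.val_mul, hK]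
    exact congrArg Units.val (by group)
  have h' := fun a b => congrFun (congrFun heq a) b
  obtain ⟨a1, a2, a3, a4⟩ := lvl0_entries h0
  obtain ⟨b1, b2, b3, b4⟩ := lvl0_entries h0'
  obtain ⟨k1, k2, k3, k4⟩ := lvl0_entries hK0
  obtain ⟨da, da'⟩ := lvl_diag h0
  obtain ⟨db, db'⟩ := lvl_diag h0'
  have e00 := h' 0 0
  have e11 := h' 1 1
  have e01 := h' 0 1
  have e12 := h' 1 2
  simp [Matrix.mul_apply, Fin.sum_univ_three, a1, a2, a3, a4, b1, b2, b3, b4, k1] at e00 e11 e01 e12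
  have d00 : (K : Matrix (Fin 3) (Fin 3) F) 0 0 = 1 :=
    mul_right_cancel₀ (mul_ne_zero db da) (by linear_combination e00)
  have d11 : (K : Matrix (Fin 3) (Fin 3) F) 1 1 = 1 :=
    mul_right_cancel₀ (mul_ne_zero db' da') (by linear_combination e11)
  match k, hA, hB with
  | 0, _, _ => exact ⟨hK0, d00, d11⟩
  | 1, hA, hB =>
    obtain ⟨-, x0, x1⟩ := hA
    obtain ⟨-, y0, y1⟩ := hB
    simp [d00, d11, x0, x1, y0, y1] at e01 e12
    exact ⟨⟨hK0, d00, d11⟩, by linear_combination e01, by linear_combination e12⟩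
  | 2, hA, hB =>
    obtain ⟨⟨-, x0, x1⟩, x01, x12⟩ := hA
    obtain ⟨⟨-, y0, y1⟩, y01, y12⟩ := hB
    have hc : A * B = B * A := Units.ext (Matrix.ext fun a b => by
      fin_cases a <;> fin_cases b <;>
        simp [Matrix.mul_apply, Fin.sum_univ_three, a1, a2, a3, a4, b1, b2, b3, b4, x0, x1, x01, x12, y0, y1,
          y01, y12, add_comm])
    show K = 1
    rw [hK, hc]; group
  | k + 3, hA, hB =>
    show K = 1
    rw [hK, show A = 1 from hA, show B = 1 from hB]; group

variable [Finite F] {M : Subgroup (GL (Fin 2 → Fin 3) F)} (H : Hyp M)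
  (hB : ¬ specialLinear (Fin 2 → Fin 3) F ≤ M)
include H hB

/-- The exchange of two factors is not moved to a root of one factor. -/
theorem no_swap_two (h2 : (2 : F) = 0) {g : GL (Fin 2 → Fin 3) F} (hg : g ∈ M) {s : Fin 2}
    (C : Fin 2 → GL (Fin 3) F) {i j : Fin 2} (hij : i ≠ j)
    (heq : (g : Matrix _ _ F) *
      ((pwUnit C * permUnit (Equiv.swap i j) * (pwUnit C)⁻¹ : GL (Fin 2 → Fin 3) F) :
        Matrix (Fin 2 → Fin 3) (Fin 2 → Fin 3) F) = (1 + e s 0 2) * (g : Matrix _ _ F)) : False := by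
  classical
  set y := (pwUnit C * permUnit (Equiv.swap i j) * (pwUnit C)⁻¹ : GL (Fin 2 → Fin 3) F)
  let D : GL (Fin 3) F → GL (Fin 2 → Fin 3) F := fun S => pwUnit fun l => C l * S * (C l)⁻¹
  have hDmul : ∀ S S', D (S * S') = D S * D S' := fun S S' => by
    simp only [D, pwUnit_mul]
    congr 1
    funext l
    simp [mul_assoc]
  have hDinv : ∀ S, D S⁻¹ = (D S)⁻¹ := fun S => by
    simp only [D, pwUnit_inv]
    congr 1
    funext l
    group
  have hDM : ∀ S : GL (Fin 3) F, Matrix.det (S : Matrix (Fin 3) (Fin 3) F) = 1 → D S ∈ M := by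
    intro S hS
    have : D S = pwUnit (Function.update 1 0 (C 0 * S * (C 0)⁻¹)) *
        pwUnit (Function.update 1 1 (C 1 * S * (C 1)⁻¹)) := by
      rw [pwUnit_mul]
      refine congrArg pwUnit (funext fun l => ?_)
      fin_cases l <;> simp
    rw [this]
    refine M.mul_mem (H.slot_sl _ _ ?_) (H.slot_sl _ _ ?_) <;>
      rw [Units.val_mul, Units.val_mul, Matrix.det_units_conj, hS]
  have hDy : ∀ S, D S * y = y * D S := by
    intro S
    have hD' : D S = pwUnit C * pwUnit (fun _ => S) * (pwUnit C)⁻¹ := by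
      rw [pwUnit_inv, pwUnit_mul, pwUnit_mul]
      rfl
    have hc : pwUnit (fun _ => S) * permUnit (Equiv.swap i j) =
        (permUnit (Equiv.swap i j) * pwUnit (fun _ => S) : GL (Fin 2 → Fin 3) F) := by
      rw [permUnit_conj]
    rw [hD']
    calc pwUnit C * pwUnit (fun _ => S) * (pwUnit C)⁻¹ * y
        = pwUnit C * (pwUnit (fun _ => S) * permUnit (Equiv.swap i j)) * (pwUnit C)⁻¹ := by
          simp only [y]; group
      _ = pwUnit C * (permUnit (Equiv.swap i j) * pwUnit (fun _ => S)) * (pwUnit C)⁻¹ := by rw [hc]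
      _ = _ := by simp only [y]; group
  -- the induced elements of the centraliser
  let Good : ℕ → GL (Fin 3) F → Prop := fun k S =>
    ∃ b, g * D S * g⁻¹ = pwUnit b ∧ Lvl k (b s)
  have base : ∀ S : GL (Fin 3) F, Matrix.det (S : Matrix (Fin 3) (Fin 3) F) = 1 → Good 0 S := by
    intro S hS
    obtain ⟨hH, hc⟩ := centraliser_mem H hB (fun h => absurd h (by decide)) hg (by decide : (0 : Fin 3) ≠ 2)
      heq (hDM S hS) (hDy S)
    obtain ⟨b, σ, hb⟩ := exists_normal_form hH
    rw [hb] at hc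
    have hmove : slot (σ s) ((b (σ s) : Matrix (Fin 3) (Fin 3) F) * Matrix.single 0 2 1 *
        (((b (σ s))⁻¹ : GL (Fin 3) F) : Matrix (Fin 3) (Fin 3) F)) = e (F := F) s 0 2 := by
      have h1 : (pwUnit b * permUnit σ : GL (Fin 2 → Fin 3) F).val * e s 0 2 =
          slot (σ s) ((b (σ s) : Matrix (Fin 3) (Fin 3) F) * Matrix.single 0 2 1 *
            (((b (σ s))⁻¹ : GL (Fin 3) F) : Matrix (Fin 3) (Fin 3) F)) *
          (pwUnit b * permUnit σ : GL (Fin 2 → Fin 3) F).val := by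
        rw [Units.val_mul, mul_assoc, show (permUnit σ : GL (Fin 2 → Fin 3) F).val = permMat σ from rfl, e,
          perm_slot, ← mul_assoc, ← mul_assoc]
        congr 1
        show pw (fun l => (b l : Matrix (Fin 3) (Fin 3) F)) * slot _ _ = slot _ _ * pw _
        rw [slot, slot, pw_mul, pw_mul]
        refine congrArg pw (funext fun l => ?_)
        rcases eq_or_ne l (σ s) with rfl | hl
        · simp [mul_assoc]
        · simp [hl]
      rw [h1] at hc
      exact mul_right_cancel₀' hc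
    have hσs := eq_of_slot_eq_e (by decide) hmove
    have hσ : σ = 1 := Equiv.ext fun l => by
      by_cases hl : l = s
      · rw [hl, hσs]; rfl
      · have hne : σ l ≠ s := fun h => hl (σ.injective (h.trans hσs.symm))
        show σ l = l
        omega
    refine ⟨b, by rw [hb, hσ, permUnit_one, mul_one], ?_⟩
    rw [hσs] at hmove
    have h1 := slot_injective s hmove
    show _ * _ = _ * _
    rw [← mul_one ((b s : Matrix (Fin 3) (Fin 3) F) * Matrix.single 0 2 1), ← (b s).inv_mul, ← mul_assoc]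
    exact congrArg (· * (b s : Matrix (Fin 3) (Fin 3) F)) h1
  have step : ∀ k S S', Good k S → Good k S' → Good (k + 1) (S * S' * S⁻¹ * S'⁻¹) := by
    rintro k S S' ⟨b, hb, hl⟩ ⟨b', hb', hl'⟩
    refine ⟨b * b' * b⁻¹ * b'⁻¹, ?_, lvl_comm hl hl'⟩
    rw [hDmul, hDmul, hDmul, hDinv, hDinv, ← pwUnit_mul, ← pwUnit_mul, ← pwUnit_mul]
    calc g * (D S * D S' * (D S)⁻¹ * (D S')⁻¹) * g⁻¹
        = g * D S * g⁻¹ * (g * D S' * g⁻¹) * (g * D S * g⁻¹)⁻¹ * (g * D S' * g⁻¹)⁻¹ := by group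
      _ = _ := by rw [hb, hb', pwUnit_inv, pwUnit_inv]; rfl
  let R : Fin 3 → Fin 3 → GL (Fin 3) F := fun a b => tvGL (Pi.single a 1) (Pi.single b 1)
  have hR : ∀ k (a b : Fin 3), a ≠ b → Good k (R a b) := by
    intro k
    induction k with
    | zero => exact fun a b _ => base _ (det_tvGL _ _)
    | succ k ihk =>
      intro a b hab
      obtain ⟨c, hca, hcb⟩ := exists_third le_rfl a b
      have : R a b = R a c * R c b * (R a c)⁻¹ * (R c b)⁻¹ := by
        have hd : ∀ x y : Fin 3, x ≠ y → (Pi.single y (1 : F)) ⬝ᵥ (Pi.single x 1 : Fin 3 → F) = 0 :=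
          fun x y h => by rw [single_dotProduct, one_mul, Pi.single_eq_of_ne h.symm]
        rw [eq_mul_inv_iff_mul_eq, eq_mul_inv_iff_mul_eq]
        refine Units.ext ?_
        simp only [R, Units.val_mul, coe_tvGL (hd _ _ hab), coe_tvGL (hd _ _ hca.symm), coe_tvGL (hd _ _ hcb)]
        ext p q
        fin_cases a <;> fin_cases b <;> fin_cases c <;> first | contradiction |
          (fin_cases p <;> fin_cases q <;>
            simp [Matrix.mul_apply, Fin.sum_univ_three, vecMulVec_apply, Pi.single_apply, Matrix.one_apply])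
      rw [this]
      exact step k _ _ (ihk a c hca.symm) (ihk c b hcb)
  obtain ⟨b, hb, hb3⟩ := hR 3 0 1 (by decide)
  -- the image of a root of the diagonal has small rank
  obtain ⟨s', hs'⟩ : ∃ s' : Fin 2, s' ≠ s := ⟨1 - s, by fin_cases s <;> decide⟩
  have hpw : (g * D (R 0 1) * g⁻¹ : GL (Fin 2 → Fin 3) F).val = slot s' (b s' : Matrix (Fin 3) (Fin 3) F) := by
    rw [hb, slot]
    refine congrArg pw (funext fun l => ?_)
    by_cases hl : l = s'
    · subst hl; simp
    · rw [Function.update_of_ne hl, show l = s by omega, show b s = 1 from hb3]; rfl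
  set A := (b s' : Matrix (Fin 3) (Fin 3) F) - 1 with hA
  have hAv : (g * D (R 0 1) * g⁻¹ : GL (Fin 2 → Fin 3) F).val - 1 = slot s' A := by
    rw [hpw, hA, slot_sub, slot_one]
  have hRR : R 0 1 * R 0 1 = 1 := by
    refine Units.ext ?_
    simp only [R, Units.val_mul, Units.val_one,
      coe_tvGL (show (Pi.single (1 : Fin 3) (1 : F)) ⬝ᵥ (Pi.single 0 1 : Fin 3 → F) = 0 by simp)]
    ext p q
    fin_cases p <;> fin_cases q <;>
      simp [Matrix.mul_apply, Fin.sum_univ_three, vecMulVec_apply]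
    linear_combination h2
  have hAA : A * A = 0 := by
    refine slot_injective s' ?_
    rw [← slot_mul, ← hAv, slot_zero]
    have hsq : (g * D (R 0 1) * g⁻¹) * (g * D (R 0 1) * g⁻¹) = 1 := by
      calc _ = g * (D (R 0 1) * D (R 0 1)) * g⁻¹ := by group
        _ = 1 := by
          rw [← hDmul, hRR, show D 1 = 1 from by simp [D]; exact pwUnit_one]; group
    set Y := (g * D (R 0 1) * g⁻¹ : GL (Fin 2 → Fin 3) F).val
    have hY : Y * Y = 1 := congrArg Units.val hsq
    calc (Y - 1) * (Y - 1) = Y * Y - (Y + Y) + 1 := by noncomm_ring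
      _ = (2 : F) • 1 - (2 : F) • Y := by rw [hY, two_smul, two_smul]; abel
      _ = 0 := by rw [h2, zero_smul, zero_smul, sub_zero]
  have hup : ((g * D (R 0 1) * g⁻¹ : GL (Fin 2 → Fin 3) F).val - 1).rank ≤ 3 := by
    rw [hAv]
    obtain ⟨v, hv⟩ : ∃ u : Fin 3 → F, ∀ w, A *ᵥ w ∈ Submodule.span F {u} := by
      have hle : LinearMap.range A.mulVecLin ≤ LinearMap.ker A.mulVecLin := by
        rintro _ ⟨z, rfl⟩
        simp [mulVec_mulVec, hAA]
      have h1 := LinearMap.finrank_range_add_finrank_ker A.mulVecLin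
      rw [Module.finrank_fin_fun] at h1
      have h2' := Submodule.finrank_mono hle
      have h3 : Module.finrank F (LinearMap.range A.mulVecLin) ≤ 1 := by omega
      obtain ⟨u, hu⟩ := (finrank_le_one_iff.1 h3)
      refine ⟨u.1, fun w => ?_⟩
      obtain ⟨c, hc⟩ := hu ⟨A *ᵥ w, ⟨w, rfl⟩⟩
      exact Submodule.mem_span_singleton.2 ⟨c, congrArg Subtype.val hc⟩
    obtain ⟨τ, hτ⟩ := eq_vecMulVec_of_range hv
    rw [hτ]
    exact (rank_slot_le (n := 1) (by norm_num) s' v τ).trans_eq (by norm_num)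
  rw [Units.val_mul, Units.val_mul, rank_conj, show D (R 0 1) =
      pwUnit C * pwUnit (fun _ => R 0 1) * (pwUnit C)⁻¹ by rw [pwUnit_inv, pwUnit_mul, pwUnit_mul]; rfl,
    Units.val_mul, Units.val_mul, rank_conj] at hup
  have hlow : (4 : ℕ) ≤ ((pwUnit (fun _ => R 0 1) : GL (Fin 2 → Fin 3) F).val - 1).rank := by
    let r : Fin 4 → Fin 2 → Fin 3 := ![![0, 0], ![0, 2], ![2, 0], ![0, 1]]
    let c : Fin 4 → Fin 2 → Fin 3 := ![![1, 0], ![1, 2], ![2, 1], ![1, 1]]
    have h := Matrix.rank_submatrix_le ((pwUnit (fun _ => R 0 1) : GL (Fin 2 → Fin 3) F).val - 1) r c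
    have hu : IsUnit (((pwUnit (fun _ => R 0 1) : GL (Fin 2 → Fin 3) F).val - 1).submatrix r c) := by
      refine (Matrix.isUnit_iff_isUnit_det _).2 ?_
      rw [Matrix.det_of_isUpperTriangular]
      · refine isUnit_iff_ne_zero.2 (Finset.prod_ne_zero_iff.2 fun a _ => ?_)
        fin_cases a <;>
          simp [r, c, R, pwUnit, pw, Fin.prod_univ_two, Matrix.one_apply, vecMulVec_apply, Pi.single_apply,
            coe_tvGL (show (Pi.single (1 : Fin 3) (1 : F)) ⬝ᵥ (Pi.single 0 1 : Fin 3 → F) = 0 by simp)]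
      · intro a b hab
        fin_cases a <;> fin_cases b <;> simp at hab ⊢ <;>
          simp [r, c, R, pwUnit, pw, Fin.prod_univ_two, Matrix.one_apply, vecMulVec_apply, Pi.single_apply,
            coe_tvGL (show (Pi.single (1 : Fin 3) (1 : F)) ⬝ᵥ (Pi.single 0 1 : Fin 3 → F) = 0 by simp)]
    rw [Matrix.rank_of_isUnit _ hu, Fintype.card_fin] at h
    exact h
  omega
where
  mul_right_cancel₀' {A B : Matrix (Fin 2 → Fin 3) (Fin 2 → Fin 3) F} {u : GL (Fin 2 → Fin 3) F}
      (h : A * u.val = B * u.val) : A = B := u.isUnit.mul_right_cancel h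

end CfsgLib.ClassicalMax.TensorWreath
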