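/-
The full fusion statement for roots of one factor.
-/
import Cfsg.Agent.Lib.ClassicalMax.TensorWreath.SwapTwo

set_option autoImplicit false
set_option linter.unusedSectionVars false

namespace CfsgLib.ClassicalMax.TensorWreath

open Matrix Cfsg.Geo CfsgLib.Asch
open CfsgLib.SpinTensor (pwUnit_mul pwUnit_one permUnit_mul permUnit_one permUnit_inv permUnit_conj
  exists_normal_form)

variable {F : Type*} [Field F] {m t n : ℕ}

lemma single_eq_vmv (a b : Fin m) :
    Matrix.single a b (1 : F) = vecMulVec (Pi.single a 1) (Pi.single b 1) := by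
  ext p q
  by_cases h1 : a = p <;> by_cases h2 : b = q <;> simp_all [vecMulVec_apply, eq_comm]

/-- The element permutes the factors by the given permutation. -/
def HasPerm (z : GL (Fin t → Fin m) F) (σ : Equiv.Perm (Fin t)) : Prop :=
  ∃ a, z = pwUnit a * permUnit σ

lemma HasPerm.mul {z w : GL (Fin t → Fin m) F} {σ τ : Equiv.Perm (Fin t)} (h : HasPerm z σ)
    (h' : HasPerm w τ) : HasPerm (z * w) (σ * τ) := by
  obtain ⟨a, rfl⟩ := h
  obtain ⟨b, rfl⟩ := h'
  exact ⟨a * fun l => b (σ⁻¹ l), by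
    rw [mul_assoc (pwUnit a), ← mul_assoc (permUnit σ), permUnit_conj, ← mul_assoc, ← mul_assoc,
      pwUnit_mul, mul_assoc, permUnit_mul]⟩

lemma HasPerm.inv {z : GL (Fin t → Fin m) F} {σ : Equiv.Perm (Fin t)} (h : HasPerm z σ) :
    HasPerm z⁻¹ σ⁻¹ := by
  obtain ⟨a, rfl⟩ := h
  refine ⟨fun l => (a (σ l))⁻¹, ?_⟩
  rw [_root_.mul_inv_rev, pwUnit_inv, permUnit_inv, permUnit_conj, inv_inv]

lemma hasPerm_pwUnit (a : Fin t → GL (Fin m) F) : HasPerm (pwUnit a) 1 :=
  ⟨a, by rw [permUnit_one, mul_one]⟩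

lemma hasPerm_swap (C : Fin t → GL (Fin m) F) (σ : Equiv.Perm (Fin t)) :
    HasPerm (pwUnit C * permUnit σ * (pwUnit C)⁻¹) σ := by
  have h : HasPerm (pwUnit C * permUnit σ) σ := ⟨C, rfl⟩
  simpa using HasPerm.mul h (hasPerm_pwUnit C).inv

lemma HasPerm.unique [NeZero m] (hm : 2 ≤ m) {z : GL (Fin t → Fin m) F} {σ τ : Equiv.Perm (Fin t)}
    (h : HasPerm z σ) (h' : HasPerm z τ) : σ = τ := by
  obtain ⟨a, ha⟩ := h
  obtain ⟨b, hb⟩ := h'
  exact perm_unique hm (ha.symm.trans hb)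

lemma exists_sl_conj (hm : 3 ≤ m) {o i : Fin m} (hoi : o ≠ i) {u τ : Fin m → F} (hu : u ≠ 0) (hτ : τ ≠ 0)
    (h0 : τ ⬝ᵥ u = 0) :
    ∃ A : GL (Fin m) F, Matrix.det (A : Matrix (Fin m) (Fin m) F) = 1 ∧
      (A : Matrix (Fin m) (Fin m) F) * vecMulVec u τ =
        Matrix.single o i 1 * (A : Matrix (Fin m) (Fin m) F) := by
  obtain ⟨A, hA⟩ := exists_conj_single hm hoi hu hτ h0
  obtain ⟨q, hqo, hqi⟩ := exists_third hm o i
  have hd0 : (A : Matrix (Fin m) (Fin m) F).det ≠ 0 := GeneralLinearGroup.det_ne_zero A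
  let d : Fin m → F := Function.update 1 q (A : Matrix (Fin m) (Fin m) F).det⁻¹
  have hd : IsUnit (Matrix.diagonal d) := by
    rw [Matrix.isUnit_diagonal, Pi.isUnit_iff]
    intro k
    rcases eq_or_ne k q with rfl | hk <;> simp [d, hd0, *]
  refine ⟨hd.unit * A, ?_, ?_⟩
  · show (Matrix.diagonal d * (A : Matrix _ _ F)).det = 1
    rw [det_mul, det_diagonal, Finset.prod_update_of_mem (Finset.mem_univ q)]
    simp [hd0]
  · show Matrix.diagonal d * (A : Matrix _ _ F) * _ = _ * (Matrix.diagonal d * (A : Matrix _ _ F))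
    rw [mul_assoc, hA, ← mul_assoc, ← mul_assoc]
    congr 1
    ext a b
    rw [Matrix.diagonal_mul, Matrix.mul_diagonal, Matrix.single_apply]
    split_ifs with h
    · rw [← h.1, ← h.2]
      simp [d, hqo.symm, hqi.symm]
    · simp

variable [Finite F]

/-- A root of one factor as an element of the wreath group. -/
lemma exists_root_pwUnit (s : Fin t) {X : Matrix (Fin m) (Fin m) F} (hX : X * X = 0) :
    ∃ A : GL (Fin m) F, Matrix.det (A : Matrix (Fin m) (Fin m) F) = 1 ∧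
      (pwUnit (Function.update 1 s A) : GL (Fin t → Fin m) F).val = 1 + slot s X := by
  refine ⟨⟨1 + X, 1 - X, by simp [add_mul, mul_sub, hX], by simp [sub_mul, mul_add, hX]⟩, ?_, ?_⟩
  · classical exact CfsgLib.ClassicalMax.Kron.det_one_add_sq_zero hX
  · rw [← slot_eq_pwUnit]
    show slot s (1 + X) = _
    rw [slot_add, slot_one]

variable {M : Subgroup (GL (Fin (n + 1) → Fin m) F)} (H : Hyp M)
  (hB : ¬ specialLinear (Fin (n + 1) → Fin m) F ≤ M) (ih : 2 ≤ n → Small F m n)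
include H hB ih

lemma no_swap {g : GL (Fin (n + 1) → Fin m) F} (hg : g ∈ M) (h2 : (2 : F) = 0) (hn : 2 ≤ n)
    {s : Fin (n + 1)} {o i : Fin m} (hoi : o ≠ i) (C : Fin (n + 1) → GL (Fin m) F) {a b : Fin (n + 1)}
    (hab : a ≠ b)
    (heq : (g : Matrix _ _ F) *
      ((pwUnit C * permUnit (Equiv.swap a b) * (pwUnit C)⁻¹ : GL (Fin (n + 1) → Fin m) F) :
        Matrix (Fin (n + 1) → Fin m) (Fin (n + 1) → Fin m) F) = (1 + e s o i) * (g : Matrix _ _ F)) :
    False := by
  classical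
  haveI := H.neZero
  have hm := H.three_le
  set y := (pwUnit C * permUnit (Equiv.swap a b) * (pwUnit C)⁻¹ : GL (Fin (n + 1) → Fin m) F) with hy
  have hyp : HasPerm y (Equiv.swap a b) := hasPerm_swap C _
  have hne : (1 : Equiv.Perm (Fin (n + 1))) ≠ Equiv.swap a b := fun h => hab (by
    have := DFunLike.congr_fun h a
    simpa using this)
  obtain ⟨k, hka, hkb⟩ : ∃ k, k ≠ a ∧ k ≠ b := exists_third (by omega) a b
  have hcomm : ∀ X : GL (Fin m) F, pwUnit (Function.update 1 k X) * y = y * pwUnit (Function.update 1 k X) := by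
    intro X
    set W := pwUnit (Function.update 1 k ((C k)⁻¹ * X * C k)) with hW
    have h1 : pwUnit (Function.update 1 k X) = pwUnit C * W * (pwUnit C)⁻¹ := by
      rw [hW, pwUnit_inv, pwUnit_mul, pwUnit_mul]
      refine congrArg pwUnit (funext fun l => ?_)
      rcases eq_or_ne l k with rfl | hl
      · simp [mul_assoc]
      · simp [hl]
    have hW' : permUnit (Equiv.swap a b) * W = (W * permUnit (Equiv.swap a b) : GL (Fin (n + 1) → Fin m) F) := by
      rw [hW, permUnit_conj]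
      refine congrArg (· * _) (congrArg pwUnit (funext fun l => ?_))
      rcases eq_or_ne l k with rfl | hl
      · simp [Equiv.swap_apply_of_ne_of_ne hka hkb]
      · rw [Function.update_of_ne hl, Function.update_of_ne, Pi.one_apply, Pi.one_apply]
        intro h
        refine hl ?_
        rw [← Equiv.apply_symm_apply (Equiv.swap a b) l]
        exact (congrArg _ h).trans (Equiv.swap_apply_of_ne_of_ne hka hkb)
    rw [h1, hy]
    calc _ = pwUnit C * (W * permUnit (Equiv.swap a b)) * (pwUnit C)⁻¹ := by group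
      _ = pwUnit C * (permUnit (Equiv.swap a b) * W) * (pwUnit C)⁻¹ := by rw [hW']
      _ = _ := by group
  let c0 : Fin m := ⟨0, by omega⟩
  let c1 : Fin m := ⟨1, by omega⟩
  let c2 : Fin m := ⟨2, by omega⟩
  have h01 : c0 ≠ c1 := by simp [c0, c1]
  have h12 : c1 ≠ c2 := by simp [c1, c2]
  have h02 : c0 ≠ c2 := by simp [c0, c2]
  have hsq : ∀ {p q : Fin m}, p ≠ q → Matrix.single p q (1 : F) * Matrix.single p q 1 = 0 :=
    fun h => single_mul_single_of_ne _ _ _ _ h.symm _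
  obtain ⟨A₁, d1, v1⟩ := exists_root_pwUnit (F := F) k (hsq h01)
  obtain ⟨A₂, d2, v2⟩ := exists_root_pwUnit (F := F) k (hsq h12)
  set x₁ := pwUnit (Function.update 1 k A₁) with hx₁
  set x₂ := pwUnit (Function.update 1 k A₂) with hx₂
  obtain ⟨z1H, -⟩ := centraliser_mem H hB ih hg hoi heq (H.slot_sl k A₁ d1) (hcomm A₁)
  obtain ⟨z2H, -⟩ := centraliser_mem H hB ih hg hoi heq (H.slot_sl k A₂ d2) (hcomm A₂)
  set x₃ := x₁ * x₂ * x₁⁻¹ * x₂⁻¹ with hx₃
  have v3 : (x₃ : Matrix (Fin (n + 1) → Fin m) (Fin (n + 1) → Fin m) F) = 1 + e k c0 c2 := by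
    have e1 : e (F := F) k c0 c1 * e k c0 c1 = 0 := e_mul_of_ne _ _ _ h01.symm
    have e2 : e (F := F) k c1 c2 * e k c1 c2 = 0 := e_mul_of_ne _ _ _ h12.symm
    have i1 : ((x₁⁻¹ : GL _ F) : Matrix (Fin (n + 1) → Fin m) (Fin (n + 1) → Fin m) F) = 1 - e k c0 c1 :=
      Units.inv_eq_of_mul_eq_one_right (by rw [hx₁, v1, ← e, (one_sub_mul e1).1])
    have i2 : ((x₂⁻¹ : GL _ F) : Matrix (Fin (n + 1) → Fin m) (Fin (n + 1) → Fin m) F) = 1 - e k c1 c2 :=
      Units.inv_eq_of_mul_eq_one_right (by rw [hx₂, v2, ← e, (one_sub_mul e2).1])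
    have e3 : e (F := F) k c1 c2 * e k c0 c1 = 0 := e_mul_of_ne _ _ _ h02.symm
    rw [hx₃, Units.val_mul, Units.val_mul, Units.val_mul, i1, i2, hx₁, hx₂, v1, v2, ← e, ← e,
      ← e_mul (F := F) k c0 c1 c2]
    have e4 : e (F := F) k c0 c1 * e k c1 c2 * e k c0 c1 = 0 := by rw [mul_assoc, e3, mul_zero]
    have e5 : e (F := F) k c0 c1 * e k c1 c2 * e k c1 c2 = 0 := by rw [mul_assoc, e2, mul_zero]
    simp only [add_mul, mul_add, sub_mul, mul_sub, one_mul, mul_one, e1, e2, e3, e4, e5, zero_mul,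
      mul_zero]
    abel
  have hz : g * x₃ * g⁻¹ = g * x₁ * g⁻¹ * (g * x₂ * g⁻¹) * (g * x₁ * g⁻¹)⁻¹ * (g * x₂ * g⁻¹)⁻¹ := by
    rw [hx₃]; group
  have hzH : g * x₃ * g⁻¹ ∈ tensorWreathStandard m (n + 1) F := by
    rw [hz]; exact mul_mem (mul_mem (mul_mem z1H z2H) (inv_mem z1H)) (inv_mem z2H)
  have hzv : (g * x₃ * g⁻¹ : GL _ F).val - 1 =
      (g : Matrix (Fin (n + 1) → Fin m) (Fin (n + 1) → Fin m) F) * e k c0 c2 * ((g⁻¹ : GL _ F) : Matrix _ _ F) := by
    rw [Units.val_mul, Units.val_mul, v3, mul_add, add_mul, mul_one, ← Units.val_mul, mul_inv_cancel,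
      Units.val_one, add_sub_cancel_left]
  have sq1 : ((g * x₃ * g⁻¹ : GL _ F).val - 1) * ((g * x₃ * g⁻¹ : GL (Fin (n + 1) → Fin m) F).val - 1) = 0 := by
    rw [hzv]
    simp only [mul_assoc, Units.inv_mul_cancel_left]
    rw [← mul_assoc (e k c0 c2), e_mul_of_ne _ _ _ h02.symm, zero_mul, mul_zero]
  have rk1 : ((g * x₃ * g⁻¹ : GL _ F).val - 1).rank ≤ m ^ n := by
    rw [Units.val_mul, Units.val_mul, rank_conj, v3, add_sub_cancel_left]
    refine le_of_eq_of_le ?_ (rank_slot_le (by omega) k (Pi.single c0 (1 : F)) (Pi.single c2 (1 : F)))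
    rw [e, single_eq_vmv]
  have ne1 : g * x₃ * g⁻¹ ≠ 1 := by
    intro h
    rw [h, Units.val_one, sub_self] at hzv
    refine e_ne_zero (F := F) k c0 c2 ?_
    have := congrArg (fun Z => ((g⁻¹ : GL _ F) : Matrix _ _ F) * Z * (g : Matrix _ _ F)) hzv.symm
    simpa [mul_assoc] using this
  rcases root_form hm hzH sq1 rk1 ne1 with ⟨j, u, τ, hu, hτ, h0, hj⟩ | ⟨-, -, C', i', j', hij', hsw⟩
  · -- the element is in the wreath group, so the exchange would fix every factor
    have hgH : g ∈ tensorWreathStandard m (n + 1) F := key_root H hB ih hg h02 hu hτ h0 (s := k) (j := j) (by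
      have h := hzv
      rw [hj, add_sub_cancel_left] at h
      rw [h, Units.inv_mul_cancel_right])
    obtain ⟨g₀, π, hg₀⟩ := exists_normal_form hgH
    obtain ⟨R, -, hR⟩ := exists_root_pwUnit (F := F) s (hsq hoi)
    have hy2 : y = g⁻¹ * pwUnit (Function.update 1 s R) * g := by
      rw [mul_assoc, eq_inv_mul_iff_mul_eq]
      refine Units.ext ?_
      rw [Units.val_mul g y, heq, Units.val_mul, hR]
      rfl
    have hgp : HasPerm g π := ⟨g₀, hg₀⟩
    have hy1 := (hgp.inv.mul (hasPerm_pwUnit (Function.update 1 s R))).mul hgp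
    rw [← hy2, mul_one, inv_mul_cancel] at hy1
    exact hne (hy1.unique (by omega) hyp)
  · obtain ⟨g₁, π₁, hg₁⟩ := exists_normal_form z1H
    obtain ⟨g₂, π₂, hg₂⟩ := exists_normal_form z2H
    have p1 : HasPerm (g * x₁ * g⁻¹) π₁ := ⟨g₁, hg₁⟩
    have p2 : HasPerm (g * x₂ * g⁻¹) π₂ := ⟨g₂, hg₂⟩
    have h := (((p1.mul p2).mul p1.inv).mul p2.inv).unique (by omega)
      (hz ▸ hsw ▸ hasPerm_swap C' (Equiv.swap i' j'))
    have hsign := congrArg Equiv.Perm.sign h
    rw [map_mul, map_mul, map_mul, map_inv, map_inv, Equiv.Perm.sign_swap hij', mul_inv_cancel_comm,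
      mul_inv_cancel] at hsign
    exact absurd hsign (by decide)

/-- An element carrying an element of the wreath group to a root of one factor is in the wreath group. -/
theorem key {g : GL (Fin (n + 1) → Fin m) F} (hg : g ∈ M) {s : Fin (n + 1)} {u τ : Fin m → F}
    (hu : u ≠ 0) (hτ : τ ≠ 0) (h0 : τ ⬝ᵥ u = 0) {y : GL (Fin (n + 1) → Fin m) F}
    (hy : y ∈ tensorWreathStandard m (n + 1) F)
    (heq : (g : Matrix _ _ F) * (y : Matrix (Fin (n + 1) → Fin m) (Fin (n + 1) → Fin m) F) =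
      (1 + slot s (vecMulVec u τ)) * (g : Matrix _ _ F)) :
    g ∈ tensorWreathStandard m (n + 1) F := by
  classical
  haveI := H.neZero
  have hm := H.three_le
  let o : Fin m := ⟨0, by omega⟩
  let i : Fin m := ⟨2, by omega⟩
  have hoi : o ≠ i := by simp [o, i]
  obtain ⟨A, hA1, hA⟩ := exists_sl_conj hm hoi hu hτ h0
  set h := pwUnit (Function.update 1 s A) with hh
  have hhv : (h : Matrix (Fin (n + 1) → Fin m) (Fin (n + 1) → Fin m) F) = slot s A.val := (slot_eq_pwUnit s A).symm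
  have hhH : h ∈ tensorWreathStandard m (n + 1) F := pwUnit_mem _
  set g' := h * g with hg'
  have hgM : g' ∈ M := M.mul_mem (H.slot_sl s A hA1) hg
  have heq' : (g' : Matrix _ _ F) * (y : Matrix (Fin (n + 1) → Fin m) (Fin (n + 1) → Fin m) F) =
      (1 + e s o i) * (g' : Matrix _ _ F) := by
    rw [hg', Units.val_mul, mul_assoc, heq, ← mul_assoc, ← mul_assoc]
    congr 1
    rw [hhv, mul_add, add_mul, mul_one, one_mul, slot_mul, hA, ← slot_mul, e]
  suffices g' ∈ tensorWreathStandard m (n + 1) F by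
    have := mul_mem (inv_mem hhH) this
    rwa [hg', inv_mul_cancel_left] at this
  have hyv : (y : Matrix (Fin (n + 1) → Fin m) (Fin (n + 1) → Fin m) F) - 1 =
      ((g'⁻¹ : GL _ F) : Matrix _ _ F) * e s o i * (g' : Matrix _ _ F) := by
    have h1 := congrArg (fun Z => ((g'⁻¹ : GL _ F) : Matrix _ _ F) * Z) heq'
    simp only [add_mul, mul_add, one_mul, ← mul_assoc, ← Units.val_mul, inv_mul_cancel, Units.val_one] at h1
    rw [h1, add_sub_cancel_left]
  have sq1 : ((y : Matrix (Fin (n + 1) → Fin m) (Fin (n + 1) → Fin m) F) - 1) * ((y : Matrix (Fin (n + 1) → Fin m) (Fin (n + 1) → Fin m) F) - 1) = 0 := by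
    rw [hyv]
    simp only [mul_assoc, Units.mul_inv_cancel_left]
    rw [← mul_assoc (e s o i), e_mul_of_ne _ _ _ hoi.symm, zero_mul, mul_zero]
  have rk1 : ((y : Matrix (Fin (n + 1) → Fin m) (Fin (n + 1) → Fin m) F) - 1).rank ≤ m ^ n := by
    have hr := rank_conj g'⁻¹ (1 + e s o i)
    rw [inv_inv, mul_add, add_mul, mul_one, ← Units.val_mul, inv_mul_cancel, Units.val_one, ← hyv,
      add_sub_cancel, add_sub_cancel_left] at hr
    rw [hr]
    refine le_of_eq_of_le ?_ (rank_slot_le (by omega) s (Pi.single o (1 : F)) (Pi.single i (1 : F)))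
    rw [e, single_eq_vmv]
  have ne1 : y ≠ 1 := by
    intro h
    rw [h, Units.val_one, sub_self] at hyv
    refine e_ne_zero (F := F) s o i ?_
    have := congrArg (fun Z => (g' : Matrix _ _ F) * Z * ((g'⁻¹ : GL _ F) : Matrix _ _ F)) hyv.symm
    simpa [mul_assoc] using this
  rcases root_form hm hy sq1 rk1 ne1 with ⟨j, u', τ', hu', hτ', h0', hj⟩ | ⟨hm3, h2, C, a, b, hab, hsw⟩
  · have h1 := key_root H hB ih (M.inv_mem hgM) hoi hu' hτ' h0' (s := s) (j := j) (by
      have h := hyv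
      rw [hj, add_sub_cancel_left] at h
      rw [h, Units.mul_inv_cancel_right])
    simpa using inv_mem h1
  · exfalso
    rw [hsw] at heq'
    rcases Nat.lt_or_ge n 2 with hn | hn
    · obtain rfl : n = 1 := by
        have : (a : ℕ) ≠ b := fun h => hab (Fin.ext h)
        have := a.isLt
        have := b.isLt
        omega
      subst hm3
      exact no_swap_two H hB h2 hgM C hab heq'
    · exact no_swap H hB ih hgM h2 hn hoi C hab heq'

end CfsgLib.ClassicalMax.TensorWreath
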