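/-
Averaging the projection onto the sums of factor matrices over the cosets of the wreath group.
-/
import Cfsg.Agent.Lib.ClassicalMax.TensorWreath.FusionMain

set_option autoImplicit false
set_option linter.unusedSectionVars false

namespace CfsgLib.ClassicalMax.TensorWreath

open Matrix Cfsg.Geo CfsgLib.Asch
open CfsgLib.SpinTensor (pwUnit_mul permUnit_inv exists_normal_form)

variable {F : Type*} [Field F] {m t n : ℕ}

local notation "Mt" => Matrix (Fin t → Fin m) (Fin t → Fin m) F

/-- The partial trace onto one factor. -/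
def ptr (i : Fin t) : Mt →ₗ[F] Matrix (Fin m) (Fin m) F where
  toFun ψ := Matrix.of fun a b => ∑ x, if x i = a then ψ x (Function.update x i b) else 0
  map_add' ψ φ := by
    ext a b
    simp only [Matrix.of_apply, Matrix.add_apply, ← Finset.sum_add_distrib]
    exact Finset.sum_congr rfl fun x _ => by split_ifs <;> simp
  map_smul' c ψ := by
    ext a b
    simp only [Matrix.of_apply, Matrix.smul_apply, RingHom.id_apply, Finset.smul_sum]
    exact Finset.sum_congr rfl fun x _ => by split_ifs <;> simp

/-- The projection onto the sums of factor matrices. -/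
def proj : Mt →ₗ[F] Mt where
  toFun ψ := ∑ i, slot i (ptr i ψ)
  map_add' ψ φ := by simp [slot_add, Finset.sum_add_distrib]
  map_smul' c ψ := by simp [slot_smul, Finset.smul_sum]

lemma ptr_pw (i : Fin t) (A : Fin t → Matrix (Fin m) (Fin m) F) :
    ptr i (pw A) = (∏ s ∈ Finset.univ.erase i, (A s).trace) • A i := by
  classical
  ext a b
  simp only [ptr, LinearMap.coe_mk, AddHom.coe_mk, Matrix.of_apply, Matrix.smul_apply, smul_eq_mul]
  let B : Fin t → Fin m → F :=
    Function.update (fun s z => A s z z) i (fun z => if z = a then A i a b else 0)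
  have hB : ∀ x : Fin t → Fin m,
      (if x i = a then pw A x (Function.update x i b) else 0) = ∏ s, B s (x s) := by
    intro x
    rw [← Finset.mul_prod_erase _ _ (Finset.mem_univ i)]
    split_ifs with h
    · rw [pw, Matrix.of_apply, ← Finset.mul_prod_erase _ _ (Finset.mem_univ i)]
      refine congrArg₂ (· * ·) (by simp [B, h]) (Finset.prod_congr rfl fun s hs => ?_)
      simp [B, Finset.ne_of_mem_erase hs]
    · simp [B, h]
  rw [Finset.sum_congr rfl fun x _ => hB x, ← Fintype.prod_sum (fun s z => B s z),
    ← Finset.mul_prod_erase _ _ (Finset.mem_univ i), mul_comm]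
  refine congrArg₂ (· * ·) (Finset.prod_congr rfl fun s hs => ?_) (by simp [B])
  simp [B, Finset.ne_of_mem_erase hs, Matrix.trace]

lemma proj_pw (A : Fin t → Matrix (Fin m) (Fin m) F) :
    proj (pw A) = ∑ i, (∏ s ∈ Finset.univ.erase i, (A s).trace) • slot i (A i) := by
  simp [proj, ptr_pw, slot_smul]

lemma ext_pw {V : Type*} [AddCommMonoid V] [Module F V] {f g : Mt →ₗ[F] V}
    (h : ∀ A, f (pw A) = g (pw A)) : f = g := by
  refine LinearMap.ext fun ψ => ?_
  rw [matrix_eq_sum_single ψ]
  simp only [map_sum]
  refine Finset.sum_congr rfl fun x _ => Finset.sum_congr rfl fun y _ => ?_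
  rw [show Matrix.single x y (ψ x y) = ψ x y • Matrix.single x y (1 : F) by simp, ← pw_single, map_smul,
    map_smul, h]

/-- Conjugation as a linear map. -/
def cjLin (g : GL (Fin t → Fin m) F) : Mt →ₗ[F] Mt where
  toFun ψ := (g : Mt) * ψ * ((g⁻¹ : GL (Fin t → Fin m) F) : Mt)
  map_add' ψ φ := by rw [mul_add, add_mul]
  map_smul' c ψ := by simp [Matrix.mul_smul, Matrix.smul_mul]

lemma cjLin_apply (g : GL (Fin t → Fin m) F) (ψ : Mt) :
    cjLin g ψ = (g : Mt) * ψ * ((g⁻¹ : GL (Fin t → Fin m) F) : Mt) := rfl

lemma cjLin_mul (g h : GL (Fin t → Fin m) F) (ψ : Mt) : cjLin (g * h) ψ = cjLin g (cjLin h ψ) := by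
  simp [cjLin, mul_assoc]

lemma cjLin_one (ψ : Mt) : cjLin (1 : GL (Fin t → Fin m) F) ψ = ψ := by simp [cjLin]

lemma proj_comm {h : GL (Fin t → Fin m) F} (hh : h ∈ tensorWreathStandard m t F) (ψ : Mt) :
    proj (cjLin h ψ) = cjLin h (proj ψ) := by
  obtain ⟨a, σ, rfl⟩ := exists_normal_form hh
  have key : ∀ u : GL (Fin t → Fin m) F, (∀ A, proj (cjLin u (pw A)) = cjLin u (proj (pw A))) →
      ∀ φ, proj (cjLin u φ) = cjLin u (proj φ) := fun u hu φ =>
    LinearMap.congr_fun (ext_pw (f := proj.comp (cjLin u)) (g := (cjLin u).comp proj) hu) φ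
  have hpure : ∀ φ, proj (cjLin (pwUnit a) φ) = cjLin (pwUnit a) (proj φ) := by
    refine key _ fun A => ?_
    have hc : ∀ B : Fin t → Matrix (Fin m) (Fin m) F, cjLin (pwUnit a) (pw B) =
        pw fun s => (a s : Matrix (Fin m) (Fin m) F) * B s * (((a s)⁻¹ : GL (Fin m) F) : Matrix _ _ F) := by
      intro B
      show pw (fun s => (a s : Matrix (Fin m) (Fin m) F)) * pw B * pw (fun s => ((a s)⁻¹ : GL (Fin m) F).val) = _
      rw [pw_mul, pw_mul]
      rfl
    rw [hc, proj_pw, proj_pw, map_sum]
    refine Finset.sum_congr rfl fun i _ => ?_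
    rw [map_smul, slot, slot, hc]
    refine congrArg₂ (· • ·) (Finset.prod_congr rfl fun s _ => ?_) (congrArg pw (funext fun s => ?_))
    · exact Matrix.trace_units_conj (a s) (A s)
    · rcases eq_or_ne s i with rfl | hs <;> simp [*]
  have hperm : ∀ φ : Mt, proj (cjLin (permUnit σ) φ) = cjLin (permUnit σ) (proj φ) := by
    refine key _ fun A => ?_
    rw [cjLin_apply, show ((permUnit σ : GL (Fin t → Fin m) F).val) = permMat σ from rfl,
      show (((permUnit σ)⁻¹ : GL (Fin t → Fin m) F).val) = permMat σ⁻¹ from rfl, permMat_conj_pw, proj_pw,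
      proj_pw, map_sum, ← Equiv.sum_comp σ]
    refine Finset.sum_congr rfl fun i _ => ?_
    rw [map_smul, cjLin_apply]
    refine congrArg₂ (· • ·) ?_ ?_
    · refine Finset.prod_bij' (fun s _ => σ⁻¹ s) (fun s _ => σ s) ?_ ?_ ?_ ?_ ?_ <;> intro s hs
      · exact Finset.mem_erase.2 ⟨fun e => Finset.ne_of_mem_erase hs (by rw [← e]; simp), Finset.mem_univ _⟩
      · exact Finset.mem_erase.2 ⟨fun e => Finset.ne_of_mem_erase hs (σ.injective e), Finset.mem_univ _⟩
      · simp
      · simp
      · rfl
    · show slot (σ i) (A (σ⁻¹ (σ i))) = permMat σ * slot i (A i) * permMat σ⁻¹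
      rw [perm_slot, mul_assoc, permMat_mul_inv, mul_one]
      simp
  rw [cjLin_mul, hpure, hperm, cjLin_mul]

/-- A free action with vanishing orbit sums has vanishing total. -/
lemma sum_eq_zero_of_free {A X V : Type*} [Group A] [Fintype A] [MulAction A X] [DecidableEq X]
    [AddCommGroup V] (f : X → V) (hf : ∀ x, ∑ a : A, f (a • x) = 0) :
    ∀ S : Finset X, (∀ (a : A), ∀ x ∈ S, a • x ∈ S) → (∀ x ∈ S, ∀ a : A, a • x = x → a = 1) →
      ∑ x ∈ S, f x = 0 := by
  intro S
  induction S using Finset.strongInduction with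
  | _ S ih =>
    intro hinv hfree
    rcases S.eq_empty_or_nonempty with rfl | ⟨x, hx⟩
    · simp
    set O := Finset.univ.image fun a : A => a • x with hO
    have hOS : O ⊆ S := fun y hy => by
      obtain ⟨a, -, rfl⟩ := Finset.mem_image.1 hy
      exact hinv a x hx
    have hsum : ∑ y ∈ O, f y = 0 := by
      rw [hO, Finset.sum_image]
      · exact hf x
      intro a _ b _ hab
      have h : (b⁻¹ * a) • x = x := by rw [mul_smul]; simp only at hab; rw [hab, inv_smul_smul]
      exact (inv_mul_eq_one.1 (hfree x hx _ h)).symm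
    rw [← Finset.sum_sdiff hOS, hsum, add_zero]
    refine ih _ (Finset.sdiff_ssubset hOS ⟨x, Finset.mem_image.2 ⟨1, Finset.mem_univ _, one_smul A x⟩⟩) ?_ ?_
    · intro a y hy
      rw [Finset.mem_sdiff] at hy ⊢
      refine ⟨hinv a y hy.1, fun h => hy.2 ?_⟩
      obtain ⟨b, -, hb⟩ := Finset.mem_image.1 h
      exact Finset.mem_image.2 ⟨a⁻¹ * b, Finset.mem_univ _, by rw [mul_smul, hb, inv_smul_smul]⟩
    · exact fun y hy => hfree y (Finset.mem_sdiff.1 hy).1

section sums

variable [Fintype F] {J : Type} [Fintype J] [DecidableEq J]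

lemma sum_prod_eq_zero_of_third {w : J → F → F} {j : J} (h : ∀ z, w j z = 1) :
    ∑ φ : J → F, ∏ i, w i (φ i) = 0 := by
  rw [← Fintype.prod_sum]
  refine Finset.prod_eq_zero (Finset.mem_univ j) ?_
  simp [h, Nat.cast_card_eq_zero, FiniteField.cast_card_eq_zero]

lemma sum_coord (hJ : 2 ≤ Fintype.card J) (b : J) : ∑ φ : J → F, φ b = 0 := by
  obtain ⟨j, hj⟩ := Fintype.exists_ne_of_one_lt_card (by omega) b
  have := sum_prod_eq_zero_of_third (F := F) (w := Function.update (fun _ _ => (1 : F)) b id) (j := j)
    (fun z => by simp [hj])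
  refine (Finset.sum_congr rfl fun φ _ => ?_).trans this
  rw [Fintype.prod_eq_single b fun i hi => by simp [hi]]
  simp

lemma sum_coord_mul (hJ : 2 ≤ Fintype.card J) (hex : ¬(Fintype.card F = 2 ∧ Fintype.card J = 2))
    (b c : J) : ∑ φ : J → F, φ b * φ c = 0 := by
  rcases eq_or_ne b c with rfl | hbc
  · obtain ⟨j, hj⟩ := Fintype.exists_ne_of_one_lt_card (by omega) b
    have := sum_prod_eq_zero_of_third (F := F) (w := Function.update (fun _ _ => (1 : F)) b fun z => z * z)
      (j := j) (fun z => by simp [hj])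
    refine (Finset.sum_congr rfl fun φ _ => ?_).trans this
    rw [Fintype.prod_eq_single b fun i hi => by simp [hi]]
    simp
  set w : J → F → F := Function.update (Function.update (fun _ _ => (1 : F)) b id) c id with hw
  have hterm : ∀ φ : J → F, φ b * φ c = ∏ i, w i (φ i) := fun φ => by
    rw [Fintype.prod_eq_mul b c hbc fun i hi => by simp [w, hi.1, hi.2]]
    simp [w, hbc]
  rw [Finset.sum_congr rfl fun φ _ => hterm φ]
  by_cases hJ3 : 3 ≤ Fintype.card J
  · obtain ⟨j, hj⟩ : ∃ j, j ∉ ({b, c} : Finset J) := by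
      by_contra hcon
      push Not at hcon
      have := (Finset.card_le_card (s := Finset.univ) fun r _ => hcon r).trans Finset.card_le_two
      rw [Finset.card_univ] at this
      omega
    simp only [Finset.mem_insert, Finset.mem_singleton, not_or] at hj
    exact sum_prod_eq_zero_of_third (j := j) fun z => by simp [w, hj.1, hj.2]
  · rw [← Fintype.prod_sum]
    refine Finset.prod_eq_zero (Finset.mem_univ c) ?_
    have hq : 1 < Fintype.card F - 1 := by
      have := Fintype.one_lt_card (α := F)
      omega
    simpa [w] using FiniteField.sum_pow_lt_card_sub_one F 1 hq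

end sums

lemma e_mul_single (s : Fin t) (a b : Fin m) (x y : Fin t → Fin m) :
    e (F := F) s a b * Matrix.single x y 1 =
      if x s = b then Matrix.single (Function.update x s a) y 1 else 0 := by
  rw [← pw_single x y, e, slot, pw_mul]
  split_ifs with h
  · rw [← pw_single]
    refine congrArg pw (funext fun i => ?_)
    rcases eq_or_ne i s with rfl | hi <;> simp [*]
  · refine CfsgLib.SpinTensor.pw_eq_zero s ?_
    simp [single_mul_single_of_ne _ _ _ _ (Ne.symm h)]

lemma single_mul_e (s : Fin t) (a b : Fin m) (x y : Fin t → Fin m) :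
    Matrix.single x y 1 * e (F := F) s a b =
      if y s = a then Matrix.single x (Function.update y s b) 1 else 0 := by
  rw [← pw_single x y, e, slot, pw_mul]
  split_ifs with h
  · rw [← pw_single]
    refine congrArg pw (funext fun i => ?_)
    rcases eq_or_ne i s with rfl | hi <;> simp [*]
  · refine CfsgLib.SpinTensor.pw_eq_zero s ?_
    simp [single_mul_single_of_ne _ _ _ _ h]

variable [Fintype F] {M : Subgroup (GL (Fin (n + 1) → Fin m) F)} (H : Hyp M)
  (hB : ¬ specialLinear (Fin (n + 1) → Fin m) F ≤ M) (ih : 2 ≤ n → Small F m n)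
include H hB ih

/-- The projection commutes with the group on matrices of trace zero. -/
theorem proj_equivariant (hex : ¬(Fintype.card F = 2 ∧ m = 3)) {g : GL (Fin (n + 1) → Fin m) F}
    (hg : g ∈ M) {ψ : Matrix (Fin (n + 1) → Fin m) (Fin (n + 1) → Fin m) F} (hψ : ψ.trace = 0) :
    cjLin g (proj ψ) = proj (cjLin g ψ) := by
  classical
  haveI := H.neZero
  have hm := H.three_le
  haveI : Fintype M := Fintype.ofFinite _
  set K := (tensorWreathStandard m (n + 1) F).subgroupOf M with hK
  haveI : Fintype (M ⧸ K) := Fintype.ofFinite _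
  let f : M ⧸ K → Matrix (Fin (n + 1) → Fin m) (Fin (n + 1) → Fin m) F →ₗ[F]
      Matrix (Fin (n + 1) → Fin m) (Fin (n + 1) → Fin m) F :=
    fun q => Quotient.liftOn' q (fun u : M => (cjLin u.1).comp (proj.comp (cjLin (u.1)⁻¹))) (by
      intro u v huv
      refine LinearMap.ext fun φ => ?_
      have hk : (u.1)⁻¹ * v.1 ∈ tensorWreathStandard m (n + 1) F := by
        have := QuotientGroup.leftRel_apply.1 huv
        rwa [hK, Subgroup.mem_subgroupOf] at this
      have key : ∀ (x : GL (Fin (n + 1) → Fin m) F) (k : GL (Fin (n + 1) → Fin m) F),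
          k ∈ tensorWreathStandard m (n + 1) F →
          cjLin (x * k) (proj (cjLin (x * k)⁻¹ φ)) = cjLin x (proj (cjLin x⁻¹ φ)) := fun x k hk => by
        rw [cjLin_mul, ← proj_comm hk, ← cjLin_mul k, _root_.mul_inv_rev, mul_inv_cancel_left]
      have h := key u.1 _ hk
      rw [mul_inv_cancel_left] at h
      exact h.symm)
  have hf : ∀ (u : M) φ, f (QuotientGroup.mk u) φ = cjLin u.1 (proj (cjLin (u.1)⁻¹ φ)) := fun u φ => rfl
  have hsmul : ∀ (a : M) (q : M ⧸ K) φ, f (a • q) φ = cjLin a.1 (f q (cjLin (a.1)⁻¹ φ)) := by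
    intro a q φ
    induction q using Quotient.inductionOn' with
    | h u =>
      show f (QuotientGroup.mk (a * u)) φ = _
      rw [hf]
      change cjLin (a.1 * u.1) (proj (cjLin (a.1 * u.1)⁻¹ φ)) = _
      rw [_root_.mul_inv_rev, cjLin_mul, cjLin_mul]
      rfl
  set T := ∑ q, f q with hT
  have hequiv : ∀ (a : M) φ, T (cjLin a.1 φ) = cjLin a.1 (T φ) := by
    intro a φ
    rw [hT, LinearMap.sum_apply, LinearMap.sum_apply, map_sum, ← Equiv.sum_comp (MulAction.toPerm a)]
    refine Finset.sum_congr rfl fun q _ => ?_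
    rw [MulAction.toPerm_apply, hsmul, ← cjLin_mul, inv_mul_cancel, cjLin_one]
  -- matrices fixed by a full group of roots
  have hfix : ∀ (s : Fin (n + 1)) (o : Fin m) φ,
      (∀ b, b ≠ o → e s o b * φ = 0 ∧ φ * e s o b = 0) → T φ = proj φ := by
    intro s o φ hcomm
    let J := {b : Fin m // b ≠ o}
    have hJ : Fintype.card J = m - 1 := by simp [J, Fintype.card_subtype_compl]
    let hat : (J → F) → Fin m → F := fun c b => if h : b ≠ o then c ⟨b, h⟩ else 0
    let N : (J → F) → Matrix (Fin (n + 1) → Fin m) (Fin (n + 1) → Fin m) F :=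
      fun c => slot s (vecMulVec (Pi.single o 1) (hat c))
    have hNsum : ∀ c, N c = ∑ j : J, c j • e s o j.1 := by
      intro c
      simp only [N, e, ← slot_smul, ← slot_sum]
      congr 1
      ext p q
      simp only [vecMulVec_apply, Matrix.sum_apply, Matrix.smul_apply, Matrix.single_apply, smul_eq_mul]
      by_cases hp : o = p
      · subst hp
        by_cases hq : q = o
        · subst hq
          rw [Finset.sum_eq_zero fun j _ => by simp [j.2]]
          simp [hat]
        · rw [Finset.sum_eq_single (⟨q, hq⟩ : J) (fun j _ hj => by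
            simp [show j.1 ≠ q from fun h => hj (Subtype.ext h)]) (by simp)]
          simp [hat, hq]
      · simp [hp, Pi.single_eq_of_ne (Ne.symm hp)]
    have hNN : ∀ c c', N c * N c' = 0 := fun c c' => by
      simp [N, slot_mul, vecMulVec_mul_vecMulVec, hat]
    have hNφ : ∀ c, N c * φ = 0 ∧ φ * N c = 0 := fun c => by
      constructor <;> rw [hNsum] <;>
        simp [Finset.sum_mul, Finset.mul_sum, fun j : J => (hcomm j.1 j.2).1, fun j : J => (hcomm j.1 j.2).2]
    have hNadd : ∀ c c', N (c + c') = N c + N c' := fun c c' => by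
      simp [hNsum, add_smul, Finset.sum_add_distrib]
    have hmem : ∀ c, ∃ u : M, (u.1 : Matrix (Fin (n + 1) → Fin m) (Fin (n + 1) → Fin m) F) = 1 + N c := by
      intro c
      obtain ⟨u, hu, huv⟩ := H.root s (A := vecMulVec (Pi.single o 1) (hat c))
        (by simp [vecMulVec_mul_vecMulVec, hat])
      exact ⟨⟨u, hu⟩, huv⟩
    choose r hr using hmem
    let ρ : Multiplicative (J → F) →* M := MonoidHom.mk' (fun c => r c.toAdd) fun c c' => by
      refine Subtype.ext (Units.ext ?_)
      show ((r _).1).val = ((r _).1).val * ((r _).1).val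
      rw [hr, hr, hr, toAdd_mul, hNadd, add_mul, one_mul, mul_add, mul_one, hNN]
      abel
    haveI : Fintype (Multiplicative (J → F)) := inferInstanceAs (Fintype (J → F))
    letI : MulAction (Multiplicative (J → F)) (M ⧸ K) := MulAction.compHom _ ρ
    have hinv : ∀ c, (((r c).1⁻¹ : GL _ F) : Matrix (Fin (n + 1) → Fin m) (Fin (n + 1) → Fin m) F) = 1 - N c :=
      fun c => Units.inv_eq_of_mul_eq_one_right (by rw [hr, (one_sub_mul (hNN c c)).1])
    have hfixed : ∀ c, cjLin (r c).1⁻¹ φ = φ := fun c => by
      rw [cjLin_apply, inv_inv, hr, hinv, sub_mul, one_mul, (hNφ c).1, sub_zero, mul_add, mul_one, (hNφ c).2,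
        add_zero]
    have horb : ∀ q : M ⧸ K, ∑ a : Multiplicative (J → F), f (a • q) φ = 0 := by
      intro q
      calc ∑ a : Multiplicative (J → F), f (a • q) φ
          = ∑ c : J → F, cjLin (r c).1 (f q φ) := Fintype.sum_equiv Multiplicative.toAdd _ _ fun a => by
            show f (ρ a • q) φ = _
            rw [hsmul]
            exact congrArg (fun Z => cjLin (r _).1 (f q Z)) (hfixed _)
        _ = 0 := by
          set Z := f q φ
          have hterm : ∀ c, cjLin (r c).1 Z = Z + ∑ j : J, c j • (e s o j.1 * Z - Z * e s o j.1) -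
              ∑ j : J, ∑ k : J, (c j * c k) • (e s o j.1 * Z * e s o k.1) := by
            intro c
            rw [cjLin_apply, hr, hinv, add_mul, one_mul, mul_sub, mul_one, add_mul, hNsum]
            simp only [Finset.sum_mul, Finset.mul_sum, Matrix.smul_mul, Matrix.mul_smul, smul_sub,
              Finset.sum_sub_distrib, smul_smul, Finset.smul_sum]
            rw [Finset.sum_comm (f := fun x y => (c x * c y) • _)]
            simp only [mul_comm (c _) (c _)]
            abel
          rw [Finset.sum_congr rfl fun c _ => hterm c, Finset.sum_sub_distrib, Finset.sum_add_distrib,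
            Finset.sum_comm (t := (Finset.univ : Finset J)), Finset.sum_const]
          rw [Finset.sum_comm (t := (Finset.univ : Finset J))]
          simp only [Finset.sum_comm (s := (Finset.univ : Finset (J → F))), ← Finset.sum_smul,
            sum_coord (F := F) (by omega : 2 ≤ Fintype.card J),
            sum_coord_mul (F := F) (by omega : 2 ≤ Fintype.card J) (fun h => hex ⟨h.1, by omega⟩),
            zero_smul, Finset.sum_const_zero, add_zero, sub_zero]
          rw [Finset.card_univ, ← Nat.cast_smul_eq_nsmul F, Fintype.card_fun, Nat.cast_pow,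
            FiniteField.cast_card_eq_zero, zero_pow (by omega), zero_smul]
    have hfree : ∀ q ∈ (Finset.univ.erase ((1 : M) : M ⧸ K)), ∀ a : Multiplicative (J → F), a • q = q → a = 1 := by
      intro q hq a
      induction q using Quotient.inductionOn' with
      | h u =>
        intro hau
        by_contra ha
        have hc : a.toAdd ≠ 0 := ha
        have hk : u.1⁻¹ * (r a.toAdd).1 * u.1 ∈ tensorWreathStandard m (n + 1) F := by
          have h : ((ρ a * u : M) : M ⧸ K) = (u : M ⧸ K) := hau
          rw [QuotientGroup.eq, hK, Subgroup.mem_subgroupOf] at h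
          have h2 := inv_mem h
          simpa [mul_assoc, ρ] using h2
        have huH := key H hB ih u.2 (s := s) (u := Pi.single o 1) (τ := hat a.toAdd)
          (fun h => by simpa using congrFun h o) (fun h => hc (funext fun j => by simpa [hat, j.2] using congrFun h j.1))
          (by simp [hat]) hk (by
            rw [Units.val_mul, Units.val_mul, ← mul_assoc, ← mul_assoc, ← Units.val_mul, mul_inv_cancel,
              Units.val_one, one_mul, hr])
        refine Finset.ne_of_mem_erase hq ?_
        show ((u : M) : M ⧸ K) = ((1 : M) : M ⧸ K)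
        rw [QuotientGroup.eq, hK, Subgroup.mem_subgroupOf, mul_one]
        exact inv_mem huH
    have h1 : ∀ a : Multiplicative (J → F), a • ((1 : M) : M ⧸ K) = ((1 : M) : M ⧸ K) := by
      intro a
      show ((ρ a * 1 : M) : M ⧸ K) = _
      rw [QuotientGroup.eq, hK, Subgroup.mem_subgroupOf, mul_one, mul_one]
      refine inv_mem ?_
      obtain ⟨A, -, hA⟩ := exists_root_pwUnit (F := F) s (X := vecMulVec (Pi.single o 1) (hat a.toAdd))
        (by simp [vecMulVec_mul_vecMulVec, hat])
      rw [show ((ρ a : M) : GL (Fin (n + 1) → Fin m) F) = pwUnit (Function.update 1 s A) from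
        Units.ext ((hr _).trans hA.symm)]
      exact pwUnit_mem _
    rw [hT, LinearMap.sum_apply, ← Finset.add_sum_erase _ _ (Finset.mem_univ ((1 : M) : M ⧸ K)),
      sum_eq_zero_of_free (A := Multiplicative (J → F)) (fun q => f q φ) horb _
        (fun a q hq => Finset.mem_erase.2 ⟨fun h => Finset.ne_of_mem_erase hq
          (by rw [← smul_left_cancel_iff a, h, h1]), Finset.mem_univ _⟩) hfree, add_zero, hf]
    simp [cjLin_one]
  let S := LinearMap.eqLocus T (proj (F := F) (m := m) (t := n + 1))
  have hoff : ∀ x y, x ≠ y → Matrix.single x y (1 : F) ∈ S := by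
    intro x y hxy
    obtain ⟨s, hs⟩ := Function.ne_iff.1 hxy
    refine hfix s (x s) _ fun b hb => ⟨?_, ?_⟩
    · rw [e_mul_single, if_neg hb.symm]
    · rw [single_mul_e, if_neg (Ne.symm hs)]
  have hdiff : ∀ (x : Fin (n + 1) → Fin m) s b, Matrix.single x x (1 : F) -
      Matrix.single (Function.update x s b) (Function.update x s b) 1 ∈ S := by
    intro x s b
    rcases eq_or_ne b (x s) with rfl | hb
    · simp
    set x' := Function.update x s b
    have hxx : x' ≠ x := fun h => hb (by simpa [x'] using congrFun h s)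
    obtain ⟨u, hu, huv⟩ := H.eroot s hb.symm 1
    rw [one_smul] at huv
    have he0 : e (F := F) s (x s) b * e s (x s) b = 0 := e_mul_of_ne _ _ _ hb
    have hui : ((u⁻¹ : GL _ F) : Matrix (Fin (n + 1) → Fin m) (Fin (n + 1) → Fin m) F) = 1 - e s (x s) b :=
      Units.inv_eq_of_mul_eq_one_right (by rw [huv, (one_sub_mul he0).1])
    obtain ⟨A, -, hA⟩ := exists_root_pwUnit (F := F) s (X := Matrix.single (x s) b (1 : F))
      (single_mul_single_of_ne _ _ _ _ hb _)
    have huH : u ∈ tensorWreathStandard m (n + 1) F := by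
      rw [show u = pwUnit (Function.update 1 s A) from Units.ext (by rw [huv, hA]; rfl)]
      exact pwUnit_mem _
    have hu2 : cjLin u (Matrix.single x' x (1 : F)) ∈ S := by
      show T _ = proj _
      rw [hequiv ⟨u, hu⟩, (hoff x' x hxx : T _ = proj _), proj_comm huH]
    have he : cjLin u (Matrix.single x' x (1 : F)) =
        Matrix.single x' x 1 + (Matrix.single x x 1 - Matrix.single x' x' 1) - Matrix.single x x' 1 := by
      rw [cjLin_apply, huv, hui, add_mul, one_mul, mul_sub, mul_one, e_mul_single, if_pos (by simp [x']),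
        show Function.update x' s (x s) = x by simp [x'], add_mul, single_mul_e, if_pos rfl, single_mul_e,
        if_pos rfl]
      abel
    have := S.add_mem (S.sub_mem hu2 (hoff x' x hxx)) (hoff x x' hxx.symm)
    rw [he] at this
    convert this using 1
    abel
  have htr0 : ∀ φ : Matrix (Fin (n + 1) → Fin m) (Fin (n + 1) → Fin m) F, φ.trace = 0 → φ ∈ S := by
    intro φ hφ
    let x₀ : Fin (n + 1) → Fin m := fun _ => 0
    have hd : ∀ x, Matrix.single x x (1 : F) - Matrix.single x₀ x₀ 1 ∈ S := by
      intro x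
      suffices ∀ D : Finset (Fin (n + 1)), Matrix.single (D.piecewise x x₀) (D.piecewise x x₀) (1 : F) -
          Matrix.single x₀ x₀ 1 ∈ S by simpa using this Finset.univ
      intro D
      induction D using Finset.induction_on with
      | empty => simp
      | @insert a D _ ihD =>
        rw [Finset.piecewise_insert]
        have := S.sub_mem ihD (hdiff (D.piecewise x x₀) a (x a))
        convert this using 1
        abel
    have hsum : φ = ∑ x, ∑ y, φ x y • (if x = y then Matrix.single x x (1 : F) - Matrix.single x₀ x₀ 1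
        else Matrix.single x y 1) := by
      conv_lhs => rw [matrix_eq_sum_single φ]
      have h0 : ∑ x, ∑ y, (if x = y then φ x y • Matrix.single x₀ x₀ (1 : F) else 0) = 0 := by
        simp only [Finset.sum_ite_eq, Finset.mem_univ, if_true, ← Finset.sum_smul]
        rw [show ∑ x, φ x x = φ.trace from rfl, hφ, zero_smul]
      rw [← sub_zero (∑ x, ∑ y, Matrix.single x y (φ x y)), ← h0, ← Finset.sum_sub_distrib]
      refine Finset.sum_congr rfl fun x _ => ?_
      rw [← Finset.sum_sub_distrib]
      refine Finset.sum_congr rfl fun y _ => ?_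
      split_ifs with h
      · subst h; simp [smul_sub, Matrix.smul_single]
      · rw [sub_zero, Matrix.smul_single, smul_eq_mul, mul_one]
    rw [hsum]
    refine S.sum_mem fun x _ => S.sum_mem fun y _ => S.smul_mem _ ?_
    split_ifs with h
    · exact hd x
    · exact hoff x y h
  have h2 : (cjLin g ψ).trace = 0 := by rw [cjLin_apply, Matrix.trace_units_conj, hψ]
  calc cjLin g (proj ψ) = cjLin g (T ψ) := by rw [(htr0 ψ hψ : T ψ = proj ψ)]
    _ = T (cjLin g ψ) := (hequiv ⟨g, hg⟩ ψ).symm
    _ = _ := htr0 _ h2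

end CfsgLib.ClassicalMax.TensorWreath
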