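/-
Two elements in the field and three dimensions: the group fixes the tensor power of the alternating
trilinear form, whose derivations are sums of factor matrices.
-/
import Cfsg.Agent.Lib.ClassicalMax.TensorWreath.Average

set_option autoImplicit false
set_option linter.unusedSectionVars false

namespace CfsgLib.ClassicalMax.TensorWreath

open Matrix Cfsg.Geo CfsgLib.Asch
open CfsgLib.SpinTensor (pv pw_mulVec_pv pv_single exists_normal_form)

variable {F : Type*} [Field F] {t n : ℕ}

lemma perm_three {V : Type*} (φ : Fin 3 → Fin 3 → Fin 3 → V)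
    (h : ∀ i j k, i ≠ j → i ≠ k → j ≠ k → φ i j k = φ j i k ∧ φ i j k = φ i k j) :
    ∀ i j k, i ≠ j → i ≠ k → j ≠ k → φ i j k = φ 0 1 2 := by
  have e1 := h 0 1 2 (by decide) (by decide) (by decide)
  have e2 := h 1 0 2 (by decide) (by decide) (by decide)
  have e3 := h 0 2 1 (by decide) (by decide) (by decide)
  intro i j k a b c
  fin_cases i <;> fin_cases j <;> fin_cases k <;> simp at a b c ⊢
  · rw [e1.2]
  · rw [e1.1]
  · rw [← e2.2, ← e1.1]
  · rw [← e3.1, ← e1.2]
  · rw [← (h 1 2 0 (by decide) (by decide) (by decide)).1, ← e2.2, ← e1.1]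

/-- The alternating trilinear form in characteristic two. -/
def eps (a b c : Fin 3) : F := if a ≠ b ∧ a ≠ c ∧ b ≠ c then 1 else 0

/-- The tensor power of the alternating trilinear form. -/
def eps3 (x y z : Fin t → Fin 3) : F := ∏ s, eps (x s) (y s) (z s)

/-- The trilinear form on the tensor power. -/
def tri (u v w : (Fin t → Fin 3) → F) : F := ∑ x, ∑ y, ∑ z, eps3 (F := F) x y z * (u x * (v y * w z))

/-- Additive in each argument. -/
structure Add3 (f : ((Fin t → Fin 3) → F) → ((Fin t → Fin 3) → F) → ((Fin t → Fin 3) → F) → F) : Prop where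
  fst : ∀ u u' v w, f (u + u') v w = f u v w + f u' v w
  snd : ∀ u v v' w, f u (v + v') w = f u v w + f u v' w
  trd : ∀ u v w w', f u v (w + w') = f u v w + f u v w'

lemma row_sq (a b c d : F) :
    vecMulVec (Pi.single 0 1) ![0, a, b] * vecMulVec (Pi.single 0 1) ![0, c, d] =
      (0 : Matrix (Fin 3) (Fin 3) F) := by
  rw [vecMulVec_mul_vecMulVec, show (![0, a, b] : Fin 3 → F) ⬝ᵥ Pi.single 0 1 = 0 by simp, zero_smul,
    vecMulVec_zero]

lemma tri_add3 : Add3 (F := F) (t := t) tri := by
  constructor <;> intros <;> simp [tri, mul_add, add_mul, Finset.sum_add_distrib]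

lemma tri_single (x y z : Fin t → Fin 3) :
    tri (Pi.single x 1) (Pi.single y 1) (Pi.single z 1) = eps3 (F := F) x y z := by
  simp [tri, Pi.single_apply]

lemma tri_zero_smul (c₁ c₂ c₃ : F) (u v w : (Fin t → Fin 3) → F) :
    tri (c₁ • u) (c₂ • v) (c₃ • w) = c₁ * c₂ * c₃ * tri u v w := by
  simp only [tri, Pi.smul_apply, smul_eq_mul, Finset.mul_sum]
  exact Finset.sum_congr rfl fun x _ => Finset.sum_congr rfl fun y _ => Finset.sum_congr rfl fun z _ => by ring

lemma tri_pv (U V W : Fin t → Fin 3 → F) :
    tri (pv U) (pv V) (pv W) = ∏ s, ∑ a, ∑ b, ∑ c, eps a b c * (U s a * (V s b * W s c)) := by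
  simp only [tri, pv, eps3, ← Finset.prod_mul_distrib, Fintype.prod_sum]

lemma expand (u : (Fin t → Fin 3) → F) : u = ∑ x, u x • Pi.single x (1 : F) := by
  funext z
  simp [Finset.sum_apply, Pi.single_apply]

lemma tri_ext {k : Matrix (Fin t → Fin 3) (Fin t → Fin 3) F}
    (h : ∀ x y z : Fin t → Fin 3, tri (k *ᵥ Pi.single x 1) (k *ᵥ Pi.single y 1) (k *ᵥ Pi.single z 1) =
      eps3 (F := F) x y z) (u v w : (Fin t → Fin 3) → F) :
    tri (k *ᵥ u) (k *ᵥ v) (k *ᵥ w) = tri u v w := by
  have s1 : ∀ (f : (Fin t → Fin 3) → (Fin t → Fin 3) → F) v w,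
      tri (∑ x, f x) v w = ∑ x, tri (f x) v w := fun f v w => by
    simp only [tri, Finset.sum_apply, Finset.sum_mul, Finset.mul_sum]
    exact (Finset.sum_congr rfl fun _ _ => (Finset.sum_congr rfl fun _ _ => Finset.sum_comm).trans
      Finset.sum_comm).trans Finset.sum_comm
  have s2 : ∀ (f : (Fin t → Fin 3) → (Fin t → Fin 3) → F) u w,
      tri u (∑ x, f x) w = ∑ x, tri u (f x) w := fun f u w => by
    simp only [tri, Finset.sum_apply, Finset.sum_mul, Finset.mul_sum]
    exact (Finset.sum_congr rfl fun _ _ => (Finset.sum_congr rfl fun _ _ => Finset.sum_comm).trans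
      Finset.sum_comm).trans Finset.sum_comm
  have s3 : ∀ (f : (Fin t → Fin 3) → (Fin t → Fin 3) → F) u v,
      tri u v (∑ x, f x) = ∑ x, tri u v (f x) := fun f u v => by
    simp only [tri, Finset.sum_apply, Finset.sum_mul, Finset.mul_sum]
    exact (Finset.sum_congr rfl fun _ _ => (Finset.sum_congr rfl fun _ _ => Finset.sum_comm).trans
      Finset.sum_comm).trans Finset.sum_comm
  conv_lhs => rw [expand u, expand v, expand w]
  simp only [mulVec_sum, mulVec_smul, s1, s2, s3, tri_zero_smul, h]
  simp only [tri]
  exact Finset.sum_congr rfl fun x _ => Finset.sum_congr rfl fun y _ => Finset.sum_congr rfl fun z _ => by ring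

lemma eps_det (h2 : (2 : F) = 0) (A : Matrix (Fin 3) (Fin 3) F) (i j k : Fin 3) :
    ∑ a, ∑ b, ∑ c, eps a b c * (A a i * (A b j * A c k)) = eps i j k * A.det := by
  have hn : ∀ x : F, -x = x := fun x => by linear_combination (-x) * h2
  have h4 : (4 : F) = 0 := by linear_combination (2 : F) * h2
  have h6 : (6 : F) = 0 := by linear_combination (3 : F) * h2
  fin_cases i <;> fin_cases j <;> fin_cases k <;>
    simp [eps, Fin.sum_univ_three, Matrix.det_fin_three, sub_eq_add_neg, hn] <;> ring_nf <;> simp [h2, h4, h6]

lemma slot_apply (s : Fin t) {m : ℕ} (A : Matrix (Fin m) (Fin m) F) (x y : Fin t → Fin m) :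
    slot s A x y = if (∀ i, i ≠ s → x i = y i) then A (x s) (y s) else 0 := by
  rw [slot, pw, Matrix.of_apply, ← Finset.mul_prod_erase _ _ (Finset.mem_univ s), Function.update_self]
  split_ifs with h
  · rw [Finset.prod_eq_one fun i hi => ?_, mul_one]
    simp [Finset.ne_of_mem_erase hi, h i (Finset.ne_of_mem_erase hi)]
  · push Not at h
    obtain ⟨i, hi, hne⟩ := h
    rw [Finset.prod_eq_zero (Finset.mem_erase.2 ⟨hi, Finset.mem_univ i⟩) (by simp [hi, hne]), mul_zero]

lemma e_mulVec_single (s : Fin t) {m : ℕ} (a b : Fin m) (x : Fin t → Fin m) :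
    e (F := F) s a b *ᵥ Pi.single x 1 = if x s = b then Pi.single (Function.update x s a) 1 else 0 := by
  have h := congrArg (fun M => M *ᵥ Pi.single x (1 : F)) (e_mul_single (F := F) s a b x x)
  simp only [← mulVec_mulVec] at h
  rw [show Matrix.single x x (1 : F) *ᵥ Pi.single x 1 = Pi.single x 1 by
    funext z
    simp [Matrix.single_apply, Pi.single_apply, eq_comm]] at h
  rw [h]
  split_ifs
  · funext z
    simp [Matrix.single_apply, Pi.single_apply, eq_comm]
  · rw [zero_mulVec]

lemma third_ne : ∀ a y : Fin 3, a ≠ y → -(a + y) ≠ a ∧ -(a + y) ≠ y := by decide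

lemma eps_eq (a y z : Fin 3) (h : y ≠ z) : eps (F := F) a y z = if a = -(y + z) then 1 else 0 := by
  have : ∀ a y z : Fin 3, y ≠ z → ((a ≠ y ∧ a ≠ z ∧ y ≠ z) ↔ a = -(y + z)) := by decide
  simp only [eps, this a y z h]

variable [Fintype F] {M : Subgroup (GL (Fin (n + 1) → Fin 3) F)} (H : Hyp M)
  (hB : ¬ specialLinear (Fin (n + 1) → Fin 3) F ≤ M) (ih : 2 ≤ n → Small F 3 n)
include H hB ih

lemma tri_invariant (hq : Fintype.card F = 2) {g : GL (Fin (n + 1) → Fin 3) F} (hg : g ∈ M)
    (u v w : (Fin (n + 1) → Fin 3) → F) :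
    tri (g.val *ᵥ u) (g.val *ᵥ v) (g.val *ᵥ w) = tri u v w := by
  classical
  have hF : ∀ c : F, c = 0 ∨ c = 1 := by
    intro c
    by_contra hc
    push Not at hc
    have h : ({0, 1, c} : Finset F).card = 3 := by
      rw [Finset.card_insert_of_notMem (by simp [hc.1.symm]), Finset.card_insert_of_notMem (by simp [hc.2.symm]),
        Finset.card_singleton]
    have := Finset.card_le_univ ({0, 1, c} : Finset F)
    omega
  have h2 : (2 : F) = 0 := by
    rcases hF 2 with h | h
    · exact h
    · exact absurd (show (1 : F) = 0 by linear_combination h) one_ne_zero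
  have huniv : (Finset.univ : Finset F) = {0, 1} := by
    ext c
    simp [hF c]
  -- the wreath group fixes the form
  have hH : ∀ k ∈ tensorWreathStandard 3 (n + 1) F, ∀ u v w : (Fin (n + 1) → Fin 3) → F,
      tri (k.val *ᵥ u) (k.val *ᵥ v) (k.val *ᵥ w) = tri u v w := by
    intro k hk
    obtain ⟨a, σ, rfl⟩ := exists_normal_form hk
    refine tri_ext fun x y z => ?_
    have hv : ∀ x : Fin (n + 1) → Fin 3, (pwUnit a * permUnit σ : GL (Fin (n + 1) → Fin 3) F).val *ᵥ Pi.single x 1 =
        pv fun s => fun b => (a s : Matrix (Fin 3) (Fin 3) F) b (x (σ⁻¹ s)) := fun x => by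
      rw [Units.val_mul, ← mulVec_mulVec, show (permUnit σ : GL (Fin (n + 1) → Fin 3) F).val = permMat σ from rfl,
        pv_single, permMat_pv, show (pwUnit a).val = pw (fun l => (a l : Matrix (Fin 3) (Fin 3) F)) from rfl,
        pw_mulVec_pv]
      congr 1
      funext s b
      rw [mulVec_single_one]
      rfl
    rw [hv, hv, hv, tri_pv]
    simp only [eps_det h2]
    have hd : ∀ s, (a s : Matrix (Fin 3) (Fin 3) F).det = 1 := fun s =>
      (hF _).resolve_left (GeneralLinearGroup.det_ne_zero (a s))
    simp only [hd, mul_one]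
    exact Equiv.prod_comp σ⁻¹ fun s => eps (F := F) (x s) (y s) (z s)
  haveI : Fintype M := Fintype.ofFinite _
  set K := (tensorWreathStandard 3 (n + 1) F).subgroupOf M with hK
  haveI : Fintype (M ⧸ K) := Fintype.ofFinite _
  let act : GL (Fin (n + 1) → Fin 3) F → ((Fin (n + 1) → Fin 3) → F) → ((Fin (n + 1) → Fin 3) → F) →
      ((Fin (n + 1) → Fin 3) → F) → F := fun g u v w =>
    tri ((g⁻¹ : GL _ F).val *ᵥ u) ((g⁻¹ : GL _ F).val *ᵥ v) ((g⁻¹ : GL _ F).val *ᵥ w)
  let f : M ⧸ K → ((Fin (n + 1) → Fin 3) → F) → ((Fin (n + 1) → Fin 3) → F) →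
      ((Fin (n + 1) → Fin 3) → F) → F := fun q => Quotient.liftOn' q (fun u : M => act u.1) (by
    intro a b hab
    have hk : (a.1)⁻¹ * b.1 ∈ tensorWreathStandard 3 (n + 1) F := by
      have := QuotientGroup.leftRel_apply.1 hab
      rwa [hK, Subgroup.mem_subgroupOf] at this
    funext u v w
    simp only [act]
    have h := hH _ hk ((b.1⁻¹ : GL _ F).val *ᵥ u) ((b.1⁻¹ : GL _ F).val *ᵥ v) ((b.1⁻¹ : GL _ F).val *ᵥ w)
    simp only [mulVec_mulVec, ← Units.val_mul, mul_inv_cancel_right] at h
    exact h)
  have hfadd : ∀ q, Add3 (f q) := by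
    intro q
    induction q using Quotient.inductionOn' with
    | h a =>
      exact ⟨fun u u' v w => by
          show act a.1 _ _ _ = act a.1 _ _ _ + act a.1 _ _ _
          simp only [act, mulVec_add, tri_add3.fst],
        fun u v v' w => by
          show act a.1 _ _ _ = act a.1 _ _ _ + act a.1 _ _ _
          simp only [act, mulVec_add, tri_add3.snd],
        fun u v w w' => by
          show act a.1 _ _ _ = act a.1 _ _ _ + act a.1 _ _ _
          simp only [act, mulVec_add, tri_add3.trd]⟩
  have hsmul : ∀ (a : M) (q : M ⧸ K) u v w, f (a • q) u v w =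
      f q ((a.1⁻¹ : GL _ F).val *ᵥ u) ((a.1⁻¹ : GL _ F).val *ᵥ v) ((a.1⁻¹ : GL _ F).val *ᵥ w) := by
    intro a q u v w
    induction q using Quotient.inductionOn' with
    | h b =>
      show act (a.1 * b.1) u v w = act b.1 _ _ _
      simp only [act, mulVec_mulVec, ← Units.val_mul, _root_.mul_inv_rev]
  let T := fun u v w => ∑ q, f q u v w
  have hTinv : ∀ (a : M) u v w, T (a.1.val *ᵥ u) (a.1.val *ᵥ v) (a.1.val *ᵥ w) =
      T u v w := by
    intro a u v w
    simp only [T]
    rw [← Equiv.sum_comp (MulAction.toPerm a)]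
    refine Finset.sum_congr rfl fun q _ => ?_
    simp only [MulAction.toPerm_apply, hsmul, mulVec_mulVec, ← Units.val_mul, inv_mul_cancel, Units.val_one,
      one_mulVec]
  let err := fun u v w => T u v w - tri u v w
  have herr : Add3 err := by
    refine ⟨fun u u' v w => ?_, fun u v v' w => ?_, fun u v w w' => ?_⟩ <;>
      simp only [err, T, (hfadd _).fst, (hfadd _).snd, (hfadd _).trd, tri_add3.fst, tri_add3.snd, tri_add3.trd,
        Finset.sum_add_distrib] <;> ring
  -- invariance of the error under the roots of the factors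
  have hroot : ∀ (s : Fin (n + 1)) (a b : Fin 3), a ≠ b → ∀ u v w,
      err (u + e s a b *ᵥ u) (v + e s a b *ᵥ v) (w + e s a b *ᵥ w) = err u v w := by
    intro s a b hab u v w
    obtain ⟨A, hA1, hA⟩ := exists_root_pwUnit (F := F) s (X := Matrix.single a b (1 : F))
      (single_mul_single_of_ne _ _ _ _ hab.symm _)
    set k := pwUnit (Function.update 1 s A) with hk
    have hv : ∀ u, u + e s a b *ᵥ u = k.val *ᵥ u := fun u => by rw [hk, hA, add_mulVec, one_mulVec, e]
    simp only [err, hv]
    rw [hTinv ⟨k, H.slot_sl s A hA1⟩, hH k (pwUnit_mem _)]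
  have hzero : err 0 0 0 = 0 := by
    have h := herr.fst 0 0 0 0
    rw [add_zero] at h
    exact left_eq_add.1 h
  let P : (Fin (n + 1) → Fin 3) → ((Fin (n + 1) → Fin 3) → F) := fun x => Pi.single x 1
  have hP : ∀ (s : Fin (n + 1)) a b x, e (F := F) s a b *ᵥ P x = if x s = b then P (Function.update x s a) else 0 :=
    fun s a b x => e_mulVec_single s a b x
  -- repeated indices in one factor
  have hrep : ∀ x y z : Fin (n + 1) → Fin 3, ∀ s, (x s = y s ∨ x s = z s ∨ y s = z s) →
      err (P x) (P y) (P z) = 0 := by
    intro x y z s hs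
    rcases hs with h | h | h
    · obtain ⟨b, hba, hbk⟩ := exists_third le_rfl (x s) (z s)
      have := hroot s (x s) b hba.symm (P (Function.update x s b)) (P y) (P z)
      rw [hP, hP, hP, Function.update_self, if_pos rfl, if_neg (h ▸ hba.symm), if_neg hbk.symm, add_zero, add_zero,
        Function.update_idem, Function.update_eq_self, herr.fst] at this
      simpa using this
    · obtain ⟨b, hba, hbk⟩ := exists_third le_rfl (x s) (y s)
      have := hroot s (x s) b hba.symm (P (Function.update x s b)) (P y) (P z)
      rw [hP, hP, hP, Function.update_self, if_pos rfl, if_neg hbk.symm, if_neg (h ▸ hba.symm), add_zero, add_zero,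
        Function.update_idem, Function.update_eq_self, herr.fst] at this
      simpa using this
    · obtain ⟨b, hba, hbk⟩ := exists_third le_rfl (y s) (x s)
      have := hroot s (y s) b hba.symm (P x) (P (Function.update y s b)) (P z)
      rw [hP, hP, hP, Function.update_self, if_pos rfl, if_neg hbk.symm, if_neg (h ▸ hba.symm), add_zero, add_zero,
        Function.update_idem, Function.update_eq_self, herr.snd] at this
      simpa using this
  -- distinct indices may be permuted in each factor
  have hsw : ∀ x y z : Fin (n + 1) → Fin 3, ∀ s, x s ≠ y s → x s ≠ z s → y s ≠ z s →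
      err (P x) (P y) (P z) = err (P (Function.update x s (y s))) (P (Function.update y s (x s))) (P z) ∧
      err (P x) (P y) (P z) = err (P x) (P (Function.update y s (z s))) (P (Function.update z s (y s))) := by
    intro x y z s h1 h2' h3
    constructor
    · have := hroot s (x s) (y s) h1 (P (Function.update x s (y s))) (P y) (P z)
      rw [hP, hP, hP, Function.update_self, if_pos rfl, if_pos rfl, if_neg h3.symm, add_zero,
        Function.update_idem, Function.update_eq_self, herr.fst, herr.snd, herr.snd,
        hrep (Function.update x s (y s)) y z s (Or.inl (by simp)),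
        hrep x (Function.update y s (x s)) z s (Or.inl (by simp))] at this
      linear_combination this - err (P (Function.update x s (y s))) (P (Function.update y s (x s))) (P z) * h2
    · have := hroot s (y s) (z s) h3 (P x) (P (Function.update y s (z s))) (P z)
      rw [hP, hP, hP, Function.update_self, if_pos rfl, if_pos rfl, if_neg h2', add_zero,
        Function.update_idem, Function.update_eq_self, herr.snd, herr.trd, herr.trd,
        hrep x (Function.update y s (z s)) z s (Or.inr (Or.inr (by simp))),
        hrep x y (Function.update z s (y s)) s (Or.inr (Or.inr (by simp)))] at this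
      linear_combination this - err (P x) (P (Function.update y s (z s))) (P (Function.update z s (y s))) * h2
  let x₀ : Fin (n + 1) → Fin 3 := fun _ => 0
  let y₀ : Fin (n + 1) → Fin 3 := fun _ => 1
  let z₀ : Fin (n + 1) → Fin 3 := fun _ => 2
  have hbase : err (P x₀) (P y₀) (P z₀) = 0 := by
    -- the roots of the first row of the first factor move every other coset
    let N : F × F → Matrix (Fin (n + 1) → Fin 3) (Fin (n + 1) → Fin 3) F := fun c =>
      slot 0 (vecMulVec (Pi.single 0 1) ![0, c.1, c.2])
    have hNN : ∀ c c', N c * N c' = 0 := fun c c' => by simp only [N, slot_mul, row_sq, slot_zero]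
    have hNadd : ∀ c c', N (c + c') = N c + N c' := fun c c' => by
      simp only [N, ← slot_add, ← vecMulVec_add]
      congr 2
      funext b
      fin_cases b <;> simp
    have hNe : ∀ c, N c = c.1 • e 0 0 1 + c.2 • e 0 0 2 := fun c => by
      simp only [N, e, ← slot_smul, ← slot_add]
      congr 1
      ext p q
      fin_cases p <;> fin_cases q <;> simp [vecMulVec_apply, Matrix.single_apply]
    have hmem : ∀ c, ∃ u : M, (u.1 : Matrix (Fin (n + 1) → Fin 3) (Fin (n + 1) → Fin 3) F) = 1 + N c := by
      intro c
      obtain ⟨u, hu, huv⟩ := H.root 0 (A := vecMulVec (Pi.single 0 (1 : F)) ![0, c.1, c.2])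
        (row_sq _ _ _ _)
      exact ⟨⟨u, hu⟩, huv⟩
    choose r hr using hmem
    let ρ : Multiplicative (F × F) →* M := MonoidHom.mk' (fun c => r c.toAdd) fun c c' => by
      refine Subtype.ext (Units.ext ?_)
      show ((r _).1).val = ((r _).1).val * ((r _).1).val
      rw [hr, hr, hr, toAdd_mul, hNadd, add_mul, one_mul, mul_add, mul_one, hNN]
      abel
    haveI : Fintype (Multiplicative (F × F)) := inferInstanceAs (Fintype (F × F))
    letI : MulAction (Multiplicative (F × F)) (M ⧸ K) := MulAction.compHom _ ρ
    have hinv : ∀ c, (((r c).1⁻¹ : GL _ F) : Matrix (Fin (n + 1) → Fin 3) (Fin (n + 1) → Fin 3) F) = 1 + N c :=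
      fun c => Units.inv_eq_of_mul_eq_one_right (by
        rw [hr, add_mul, one_mul, mul_add, mul_one, hNN, add_zero, add_assoc, ← two_smul F (N c), h2, zero_smul,
          add_zero])
    let Q : Fin 3 → Fin 3 → Fin 3 → (M ⧸ K) → F := fun i j k q =>
      f q (P (Function.update x₀ 0 i)) (P (Function.update y₀ 0 j)) (P (Function.update z₀ 0 k))
    let L : (M ⧸ K) → F := fun q => Q 0 1 2 q + Q 1 1 2 q + Q 1 2 1 q + Q 2 1 1 q
    have hrow : ∀ (c : F × F) (x : Fin (n + 1) → Fin 3) (i : Fin 3),
        (1 + N c) *ᵥ P (Function.update x 0 i) = P (Function.update x 0 i) +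
          ((if i = 1 then c.1 • P (Function.update x 0 0) else 0) +
            if i = 2 then c.2 • P (Function.update x 0 0) else 0) := by
      intro c x i
      rw [add_mulVec, one_mulVec, hNe, add_mulVec, smul_mulVec, smul_mulVec, hP, hP, Function.update_self,
        Function.update_idem, smul_ite, smul_ite, smul_zero, smul_zero]
    have horb : ∀ q : M ⧸ K, ∑ a : Multiplicative (F × F), L (a • q) = 0 := by
      intro q
      rw [Fintype.sum_equiv Multiplicative.toAdd (fun a => L (a • q))
        (fun c => L ((r c) • q)) (fun a => rfl), Fintype.sum_prod_type]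
      simp only [huniv, Finset.sum_pair (zero_ne_one (α := F)), L, Q, hsmul, hinv, hrow]
      simp [(hfadd q).fst, (hfadd q).snd, (hfadd q).trd]
      have h4 : (4 : F) = 0 := by linear_combination (2 : F) * h2
      have h6 : (6 : F) = 0 := by linear_combination (3 : F) * h2
      ring_nf
      simp [h2, h4, h6]
    have hfree : ∀ q ∈ (Finset.univ.erase ((1 : M) : M ⧸ K)), ∀ a : Multiplicative (F × F), a • q = q → a = 1 := by
      intro q hq a
      induction q using Quotient.inductionOn' with
      | h u =>
        intro hau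
        by_contra ha
        have hc : a.toAdd ≠ 0 := ha
        have hk : u.1⁻¹ * (r a.toAdd).1 * u.1 ∈ tensorWreathStandard 3 (n + 1) F := by
          have h : ((ρ a * u : M) : M ⧸ K) = (u : M ⧸ K) := hau
          rw [QuotientGroup.eq, hK, Subgroup.mem_subgroupOf] at h
          have h2 := inv_mem h
          simpa [mul_assoc, ρ] using h2
        have huH := key H hB ih u.2 (s := 0) (u := Pi.single 0 1) (τ := ![0, a.toAdd.1, a.toAdd.2])
          (fun h => by simpa using congrFun h 0)
          (fun h => hc (Prod.ext (by simpa using congrFun h 1) (by simpa using congrFun h 2)))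
          (by simp) hk (by
            rw [Units.val_mul, Units.val_mul, ← mul_assoc, ← mul_assoc, ← Units.val_mul, mul_inv_cancel,
              Units.val_one, one_mul, hr])
        refine Finset.ne_of_mem_erase hq ?_
        show ((u : M) : M ⧸ K) = ((1 : M) : M ⧸ K)
        rw [QuotientGroup.eq, hK, Subgroup.mem_subgroupOf, mul_one]
        exact inv_mem huH
    have h1 : ∀ a : Multiplicative (F × F), a • ((1 : M) : M ⧸ K) = ((1 : M) : M ⧸ K) := by
      intro a
      show ((ρ a * 1 : M) : M ⧸ K) = _
      rw [QuotientGroup.eq, hK, Subgroup.mem_subgroupOf, mul_one, mul_one]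
      refine inv_mem ?_
      obtain ⟨A, -, hA⟩ := exists_root_pwUnit (F := F) (0 : Fin (n + 1))
        (X := vecMulVec (Pi.single 0 1) ![0, a.toAdd.1, a.toAdd.2]) (row_sq _ _ _ _)
      rw [show ((ρ a : M) : GL (Fin (n + 1) → Fin 3) F) = pwUnit (Function.update 1 0 A) from
        Units.ext ((hr _).trans hA.symm)]
      exact pwUnit_mem _
    have hsum := sum_eq_zero_of_free (A := Multiplicative (F × F)) L horb _
        (fun a q hq => Finset.mem_erase.2 ⟨fun h => Finset.ne_of_mem_erase hq
          (by rw [← smul_left_cancel_iff a, h, h1]), Finset.mem_univ _⟩) hfree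
    let E : Fin 3 → Fin 3 → Fin 3 → F := fun i j k =>
      err (P (Function.update x₀ 0 i)) (P (Function.update y₀ 0 j)) (P (Function.update z₀ 0 k))
    have herrQ : ∀ i j k, E i j k = ∑ q ∈ Finset.univ.erase ((1 : M) : M ⧸ K), Q i j k q := by
      intro i j k
      simp only [E, err, T, Q]
      rw [← Finset.add_sum_erase _ _ (Finset.mem_univ ((1 : M) : M ⧸ K))]
      have hf1 : ∀ u v w, f ((1 : M) : M ⧸ K) u v w = tri u v w := fun u v w => by
        show act (1 : GL _ F) u v w = _
        simp [act]
      rw [hf1]
      ring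
    have htot : E 0 1 2 + E 1 1 2 + E 1 2 1 + E 2 1 1 = 0 := by
      simp only [herrQ, ← Finset.sum_add_distrib]
      exact hsum
    rw [show E 1 1 2 = 0 from hrep _ _ _ 0 (Or.inl (by simp)),
      show E 1 2 1 = 0 from hrep _ _ _ 0 (Or.inr (Or.inl (by simp))),
      show E 2 1 1 = 0 from hrep _ _ _ 0 (Or.inr (Or.inr (by simp))), add_zero, add_zero, add_zero] at htot
    simpa [E, x₀, y₀, z₀] using htot
  have hall : ∀ x y z, err (P x) (P y) (P z) = 0 := by
    intro x y z
    by_cases hd : ∃ s, x s = y s ∨ x s = z s ∨ y s = z s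
    · obtain ⟨s, hs⟩ := hd
      exact hrep x y z s hs
    push Not at hd
    suffices ∀ D : Finset (Fin (n + 1)),
        err (P (D.piecewise x x₀)) (P (D.piecewise y y₀)) (P (D.piecewise z z₀)) = 0 by
      simpa using this Finset.univ
    intro D
    induction D using Finset.induction_on with
    | empty => simpa using hbase
    | @insert s D hsD ihD =>
      rw [Finset.piecewise_insert, Finset.piecewise_insert, Finset.piecewise_insert]
      set X := D.piecewise x x₀
      set Y := D.piecewise y y₀
      set Z := D.piecewise z z₀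
      have hX : X s = 0 := by simp [X, x₀, Finset.piecewise, hsD]
      have hY : Y s = 1 := by simp [Y, y₀, Finset.piecewise, hsD]
      have hZ : Z s = 2 := by simp [Z, z₀, Finset.piecewise, hsD]
      let φ : Fin 3 → Fin 3 → Fin 3 → F := fun i j k =>
        err (P (Function.update X s i)) (P (Function.update Y s j)) (P (Function.update Z s k))
      have hφ : φ 0 1 2 = 0 := by
        simp only [φ, ← hX, ← hY, ← hZ, Function.update_eq_self]
        exact ihD
      have hs1 : ∀ i j k, i ≠ j → i ≠ k → j ≠ k → φ i j k = φ j i k ∧ φ i j k = φ i k j := fun i j k a b c => by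
        simpa [φ] using hsw (Function.update X s i) (Function.update Y s j) (Function.update Z s k) s
          (by simpa using a) (by simpa using b) (by simpa using c)
      show φ (x s) (y s) (z s) = 0
      obtain ⟨a, b, c⟩ := hd s
      rw [perm_three φ hs1 _ _ _ a b c]
      exact hφ
  -- the total equals the form
  have herr0 : ∀ u v w, err u v w = 0 := by
    have hs : ∀ (u : (Fin (n + 1) → Fin 3) → F) x, u x • P x = 0 ∨ u x • P x = P x := fun u x => by
      rcases hF (u x) with h | h <;> simp [h]
    have hz1 : ∀ v w, err 0 v w = 0 := fun v w => by simpa using herr.fst 0 0 v w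
    have hz2 : ∀ u w, err u 0 w = 0 := fun u w => by simpa using herr.snd u 0 0 w
    have hz3 : ∀ u v, err u v 0 = 0 := fun u v => by simpa using herr.trd u v 0 0
    have k3 : ∀ x y w, err (P x) (P y) w = 0 := fun x y w => by
      rw [expand w]
      refine Finset.sum_induction _ (fun w => err (P x) (P y) w = 0) (fun a b ha hb => by
        rw [herr.trd, ha, hb, add_zero]) (hz3 _ _) (fun z _ => ?_)
      rcases hs w z with h | h <;> show err _ _ (w z • P z) = 0 <;> rw [h]
      · exact hz3 _ _
      · exact hall x y z
    have k2 : ∀ x v w, err (P x) v w = 0 := fun x v w => by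
      rw [expand v]
      refine Finset.sum_induction _ (fun v => err (P x) v w = 0) (fun a b ha hb => by
        rw [herr.snd, ha, hb, add_zero]) (hz2 _ _) (fun z _ => ?_)
      rcases hs v z with h | h <;> show err _ (v z • P z) _ = 0 <;> rw [h]
      · exact hz2 _ _
      · exact k3 x z w
    intro u v w
    rw [expand u]
    refine Finset.sum_induction _ (fun u => err u v w = 0) (fun a b ha hb => by
      rw [herr.fst, ha, hb, add_zero]) (hz1 _ _) (fun z _ => ?_)
    rcases hs u z with h | h <;> show err (u z • P z) _ _ = 0 <;> rw [h]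
    · exact hz1 _ _
    · exact k2 z v w
  have hTf : ∀ u v w, T u v w = tri u v w := fun u v w => sub_eq_zero.1 (herr0 u v w)
  rw [← hTf, ← hTf, hTinv ⟨g, hg⟩]

theorem two_three (hq : Fintype.card F = 2) {g : GL (Fin (n + 1) → Fin 3) F} (hg : g ∈ M) :
    ∃ X : Fin (n + 1) → Matrix (Fin 3) (Fin 3) F,
      (g : Matrix _ _ F) * e 0 0 2 * ((g⁻¹ : GL _ F) : Matrix _ _ F) = ∑ i, slot i (X i) := by
  classical
  set D : Matrix (Fin (n + 1) → Fin 3) (Fin (n + 1) → Fin 3) F :=
    (g : Matrix _ _ F) * e 0 0 2 * ((g⁻¹ : GL _ F) : Matrix _ _ F) with hD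
  have h2 : (2 : F) = 0 := by
    have h := FiniteField.cast_card_eq_zero F
    rw [hq, Nat.cast_ofNat] at h
    exact h
  have hder : ∀ u v w, tri (D *ᵥ u) v w + tri u (D *ᵥ v) w + tri u v (D *ᵥ w) = 0 := by
    set N := e (F := F) (0 : Fin (n + 1)) (0 : Fin 3) 2
    have hN0 : ∀ (u : (Fin (n + 1) → Fin 3) → F) x, x 0 ≠ 0 → (N *ᵥ u) x = 0 := fun u x hx => by
      refine Finset.sum_eq_zero fun y _ => ?_
      simp only [N, e, slot_apply, Matrix.single_apply]
      simp [Ne.symm hx]
    have hquad : ∀ u v w, tri (N *ᵥ u) (N *ᵥ v) w = 0 ∧ tri (N *ᵥ u) v (N *ᵥ w) = 0 ∧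
        tri u (N *ᵥ v) (N *ᵥ w) = 0 := by
      intro u v w
      refine ⟨?_, ?_, ?_⟩ <;>
      · refine Finset.sum_eq_zero fun x _ => Finset.sum_eq_zero fun y _ => Finset.sum_eq_zero fun z _ => ?_
        by_cases h1 : x 0 = 0 <;> by_cases h2 : y 0 = 0 <;> by_cases h3 : z 0 = 0 <;>
          first
          | (simp [hN0 _ x h1]; done)
          | (simp [hN0 _ y h2]; done)
          | (simp [hN0 _ z h3]; done)
          | (rw [eps3, Finset.prod_eq_zero (Finset.mem_univ 0) (by simp [eps, *]), zero_mul])
    have hN : ∀ u v w, tri (N *ᵥ u) v w + tri u (N *ᵥ v) w + tri u v (N *ᵥ w) = 0 := by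
      intro u v w
      obtain ⟨A, hA1, hA⟩ := exists_root_pwUnit (F := F) (0 : Fin (n + 1)) (X := Matrix.single (0 : Fin 3) 2 (1 : F))
        (single_mul_single_of_ne _ _ _ _ (by decide) _)
      have := tri_invariant H hB ih hq (H.slot_sl 0 A hA1) u v w
      rw [hA, show slot (0 : Fin (n + 1)) (Matrix.single (0 : Fin 3) 2 (1 : F)) = N from rfl] at this
      simp only [add_mulVec, one_mulVec, tri_add3.fst, tri_add3.snd, tri_add3.trd] at this
      obtain ⟨q1, q2, q3⟩ := hquad u v w
      obtain ⟨q4, -, -⟩ := hquad u v (N *ᵥ w)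
      rw [q1, q2, q3, q4] at this
      linear_combination this
    intro u v w
    have := hN ((g⁻¹ : GL _ F).val *ᵥ u) ((g⁻¹ : GL _ F).val *ᵥ v) ((g⁻¹ : GL _ F).val *ᵥ w)
    rw [← tri_invariant H hB ih hq hg, ← tri_invariant H hB ih hq hg ((g⁻¹ : GL _ F).val *ᵥ u),
      ← tri_invariant H hB ih hq hg ((g⁻¹ : GL _ F).val *ᵥ u) ((g⁻¹ : GL _ F).val *ᵥ v)] at this
    simp only [gl_mulVec_inv_mulVec, mulVec_mulVec] at this
    simpa only [hD, mulVec_mulVec, ← Units.val_mul, mul_assoc, mul_inv_cancel, Units.val_one, one_mulVec]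
      using this
  let th : (Fin (n + 1) → Fin 3) → (Fin (n + 1) → Fin 3) → Fin (n + 1) → Fin 3 := fun y z s => -(y s + z s)
  let Ent : (Fin (n + 1) → Fin 3) → (Fin (n + 1) → Fin 3) → (Fin (n + 1) → Fin 3) → F := fun x y z =>
    if ∀ s, y s ≠ z s then D (th y z) x else 0
  have hent : ∀ x y z, Ent x y z + Ent y x z + Ent z x y = 0 := by
    intro x y z
    have h := hder (Pi.single x 1) (Pi.single y 1) (Pi.single z 1)
    have key : ∀ x y z, tri (D *ᵥ Pi.single x 1) (Pi.single y 1) (Pi.single z 1) = Ent x y z := by
      intro x y z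
      simp only [tri, Matrix.mulVec_single_one, Matrix.col_apply, Pi.single_apply]
      simp
      simp only [Ent]
      split_ifs with hyz
      · rw [Finset.sum_eq_single (th y z)]
        · rw [eps3, Finset.prod_eq_one (fun s _ => by rw [eps_eq _ _ _ (hyz s), if_pos rfl]), one_mul]
        · intro a _ ha
          obtain ⟨s, hs⟩ := Function.ne_iff.1 ha
          rw [eps3, Finset.prod_eq_zero (Finset.mem_univ s) (by rw [eps_eq _ _ _ (hyz s), if_neg hs]), zero_mul]
        · simp
      · push Not at hyz
        obtain ⟨s, hs⟩ := hyz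
        exact Finset.sum_eq_zero fun a _ => by
          rw [eps3, Finset.prod_eq_zero (Finset.mem_univ s) (by simp [eps, hs]), zero_mul]
    have sym : ∀ u v w : (Fin (n + 1) → Fin 3) → F, tri u v w = tri v u w ∧ tri u v w = tri w u v := by
      intro u v w
      have e1 : ∀ a b c : Fin 3, (a ≠ b ∧ a ≠ c ∧ b ≠ c) ↔ (b ≠ a ∧ b ≠ c ∧ a ≠ c) := by decide
      have e2 : ∀ a b c : Fin 3, (a ≠ b ∧ a ≠ c ∧ b ≠ c) ↔ (c ≠ a ∧ c ≠ b ∧ a ≠ b) := by decide
      constructor
      · simp only [tri]
        rw [Finset.sum_comm]
        refine Finset.sum_congr rfl fun y _ => Finset.sum_congr rfl fun x _ => Finset.sum_congr rfl fun z _ => ?_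
        rw [show eps3 (F := F) x y z = eps3 y x z from Finset.prod_congr rfl fun s _ => by
          simp only [eps, e1 (x s) (y s) (z s)]]
        ring
      · simp only [tri]
        rw [Finset.sum_congr rfl fun _ _ => Finset.sum_comm, Finset.sum_comm]
        refine Finset.sum_congr rfl fun z _ => Finset.sum_congr rfl fun x _ => Finset.sum_congr rfl fun y _ => ?_
        rw [show eps3 (F := F) x y z = eps3 z x y from Finset.prod_congr rfl fun s _ => by
          simp only [eps, e2 (x s) (y s) (z s)]]
        ring
    rw [key, (sym (Pi.single x 1) (D *ᵥ Pi.single y 1) (Pi.single z 1)).1, key,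
      (sym (Pi.single x 1) (Pi.single y 1) (D *ᵥ Pi.single z 1)).2, key] at h
    exact h
  have nn : ∀ {a b : F}, a + b = 0 → a = b := fun {a b} h => by linear_combination h - b * h2
  have hA : ∀ a b i j, i ≠ j → a i ≠ b i → a j ≠ b j → D a b = 0 := by
    intro a b i j hij hi hj
    let y : Fin (n + 1) → Fin 3 := fun s => if s = i then b i else if s = j then -(a j + b j) else a s + 1
    let z : Fin (n + 1) → Fin 3 := fun s => if s = i then -(a i + b i) else if s = j then b j else a s + 2
    have h := hent b y z
    have hyz : ∀ s, y s ≠ z s := fun s => by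
      simp only [y, z]
      split_ifs with h1 h2'
      · exact ((third_ne _ _ hi).2).symm
      · exact (third_ne _ _ hj).2
      · exact (by decide : ∀ c : Fin 3, c + 1 ≠ c + 2) _
    have hth : th y z = a := funext fun s => by
      simp only [th, y, z]
      split_ifs with h1 h2'
      · subst h1; exact (by decide : ∀ p q : Fin 3, -(q + -(p + q)) = p) _ _
      · subst h2'; exact (by decide : ∀ p q : Fin 3, -(-(p + q) + q) = p) _ _
      · exact (by decide : ∀ p : Fin 3, -(p + 1 + (p + 2)) = p) _
    simp only [Ent, if_pos hyz, hth] at h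
    rwa [if_neg (fun hh => hh j (by simp [z, hij.symm])), if_neg (fun hh => hh i (by simp [y])),
      add_zero, add_zero] at h
  -- pairs differing in one factor
  have hB' : ∀ a y i p q, p ≠ q → (∀ s, s ≠ i → a s ≠ y s) →
      D (Function.update a i p) (Function.update a i q) = D (Function.update y i p) (Function.update y i q) := by
    intro a y i p q hpq hay
    let Y := Function.update y i q
    let Z : Fin (n + 1) → Fin 3 := fun s => if s = i then -(p + q) else -(a s + y s)
    have h := hent (Function.update a i q) Y Z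
    have c1 : ∀ s, Y s ≠ Z s := fun s => by
      simp only [Y, Z]
      rcases eq_or_ne s i with rfl | hs
      · simpa using ((third_ne _ _ hpq).2).symm
      · simpa [hs] using ((third_ne _ _ (hay s hs)).2).symm
    have c2 : ∀ s, Function.update a i q s ≠ Z s := fun s => by
      simp only [Z]
      rcases eq_or_ne s i with rfl | hs
      · simpa using ((third_ne _ _ hpq).2).symm
      · simpa [hs] using ((third_ne _ _ (hay s hs)).1).symm
    have c3 : ¬ ∀ s, Function.update a i q s ≠ Y s := fun hh => hh i (by simp [Y])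
    have t1 : th Y Z = Function.update a i p := funext fun s => by
      simp only [th, Y, Z]
      rcases eq_or_ne s i with rfl | hs
      · simpa using (by decide : ∀ p q : Fin 3, -(q + -(p + q)) = p) p q
      · simpa [hs] using (by decide : ∀ p q : Fin 3, -(q + -(p + q)) = p) (a s) (y s)
    have t2 : th (Function.update a i q) Z = Function.update y i p := funext fun s => by
      simp only [th, Z]
      rcases eq_or_ne s i with rfl | hs
      · simpa using (by decide : ∀ p q : Fin 3, -(q + -(p + q)) = p) p q
      · simpa [hs] using (by decide : ∀ p q : Fin 3, -(p + -(p + q)) = q) (a s) (y s)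
    simp only [Ent, if_pos c1, if_pos c2, if_neg c3, t1, t2, add_zero] at h
    exact nn h
  have hC : ∀ a y i p q, (∀ s, s ≠ i → a s ≠ y s) →
      D (Function.update a i p) (Function.update a i p) + D (Function.update y i q) (Function.update y i q) =
      D (Function.update a i q) (Function.update a i q) + D (Function.update y i p) (Function.update y i p) := by
    intro a y i p q hay
    rcases eq_or_ne p q with rfl | hpq
    · rfl
    have line : ∀ p q, p ≠ q → D (Function.update a i p) (Function.update a i p) +
        D (Function.update y i q) (Function.update y i q) +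
        D (th (Function.update a i p) (Function.update y i q)) (th (Function.update a i p) (Function.update y i q)) = 0 := by
      intro p q hpq
      set A := Function.update a i p
      set Y := Function.update y i q
      have c : ∀ s, A s ≠ Y s := fun s => by
        rcases eq_or_ne s i with rfl | hs
        · simpa [A, Y] using hpq
        · simpa [A, Y, hs] using hay s hs
      have c1 : ∀ s, Y s ≠ th A Y s := fun s => ((third_ne _ _ (c s)).2).symm
      have c2 : ∀ s, A s ≠ th A Y s := fun s => ((third_ne _ _ (c s)).1).symm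
      have t1 : th Y (th A Y) = A := funext fun s =>
        (by decide : ∀ p q : Fin 3, -(q + -(p + q)) = p) (A s) (Y s)
      have t2 : th A (th A Y) = Y := funext fun s =>
        (by decide : ∀ p q : Fin 3, -(p + -(p + q)) = q) (A s) (Y s)
      have h := hent A Y (th A Y)
      simp only [Ent, if_pos c1, if_pos c2, if_pos c, t1, t2] at h
      exact h
    have l1 := line p q hpq
    have l2 := line q p hpq.symm
    rw [show th (Function.update a i q) (Function.update y i p) = th (Function.update a i p) (Function.update y i q)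
      from funext fun s => by
        simp only [th]
        rcases eq_or_ne s i with rfl | hs <;> simp [*, add_comm]] at l2
    linear_combination l1 - l2
  -- two steps reach every position
  have two : ∀ a c : Fin (n + 1) → Fin 3, ∀ i, ∃ y : Fin (n + 1) → Fin 3,
      (∀ s, s ≠ i → a s ≠ y s) ∧ (∀ s, s ≠ i → c s ≠ y s) := by
    intro a c i
    choose y hy hy' using fun s => exists_third le_rfl (a s) (c s)
    exact ⟨y, fun s _ => (hy s).symm, fun s _ => (hy' s).symm⟩
  let o : Fin (n + 1) → Fin 3 := fun _ => 0
  let X : Fin (n + 1) → Matrix (Fin 3) (Fin 3) F := fun i => Matrix.of fun p q =>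
    if p = q then D (Function.update o i p) (Function.update o i p) - D o o + (if i = 0 then D o o else 0)
    else D (Function.update o i p) (Function.update o i q)
  refine ⟨X, Matrix.ext fun a b => ?_⟩
  rw [Matrix.sum_apply]
  simp only [slot_apply]
  by_cases hab : a = b
  · subst hab
    simp only [implies_true, if_true, X, Matrix.of_apply]
    rw [Finset.sum_add_distrib, Finset.sum_ite_eq' Finset.univ 0, if_pos (Finset.mem_univ _)]
    suffices ∀ S : Finset (Fin (n + 1)), D (S.piecewise a o) (S.piecewise a o) =
        ∑ i ∈ S, (D (Function.update o i (a i)) (Function.update o i (a i)) - D o o) + D o o by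
      simpa using this Finset.univ
    intro S
    induction S using Finset.induction_on with
    | empty => simp
    | @insert i S hiS ihS =>
      rw [Finset.piecewise_insert, Finset.sum_insert hiS]
      set A := S.piecewise a o
      have hAi : A i = 0 := by simp [A, o, Finset.piecewise, hiS]
      obtain ⟨y, y1, y2⟩ := two A o i
      have c1 := hC A y i (a i) 0 y1
      have c2 := hC o y i (a i) 0 y2
      rw [← hAi, Function.update_eq_self, hAi] at c1
      rw [show Function.update o i 0 = o from Function.update_eq_self i o] at c2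
      linear_combination c1 - c2 + ihS
  · obtain ⟨i, hi⟩ := Function.ne_iff.1 hab
    by_cases hone : ∀ s, s ≠ i → a s = b s
    · rw [Finset.sum_eq_single i]
      · rw [if_pos hone]
        simp only [X, Matrix.of_apply, if_neg hi]
        obtain ⟨y, y1, y2⟩ := two a o i
        have hb : b = Function.update a i (b i) := funext fun s => by
          rcases eq_or_ne s i with rfl | hs
          · simp
          · simp [hs, hone s hs]
        rw [← hB' a y i (a i) (b i) hi y1 |>.trans (hB' o y i (a i) (b i) hi y2).symm, Function.update_eq_self,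
          ← hb]
      · intro j _ hj
        rw [if_neg fun h => hi (h i hj.symm)]
      · simp
    · push Not at hone
      obtain ⟨j, hji, hj⟩ := hone
      rw [hA a b i j hji.symm hi hj, Finset.sum_eq_zero fun k _ => ?_]
      rw [if_neg fun h => ?_]
      rcases eq_or_ne k i with rfl | hki
      · exact hj (h j hji)
      · exact hi (h i hki.symm)

end CfsgLib.ClassicalMax.TensorWreath
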