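/-
The stabiliser of a tensor power decomposition is maximal in the special linear group.
-/
import Cfsg.Agent.Lib.ClassicalMax.TensorWreath.TwoThree

set_option autoImplicit false
set_option linter.unusedSectionVars false

namespace CfsgLib.ClassicalMax.TensorWreath

open Matrix Cfsg.Geo CfsgLib.Asch
open CfsgLib.SpinTensor (pwUnit_mul)

variable {F : Type*} [Field F] {m n : ℕ}

/-- A sum of factor matrices vanishes only for scalar summands. -/
lemma scalar_of_sum_slot_eq_zero [NeZero m] {Y : Fin (n + 1) → Matrix (Fin m) (Fin m) F}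
    (h : ∑ i, slot i (Y i) = 0) : ∃ c : F, Y 0 = c • 1 := by
  classical
  have ent : ∀ a b : Fin m, Y 0 a b + ∑ i : Fin n, (if a = b then Y i.succ 0 0 else 0) = 0 := by
    intro a b
    have h' := congrFun (congrFun h (Fin.cons a fun _ => 0)) (Fin.cons b fun _ => 0)
    rw [Matrix.sum_apply, Fin.sum_univ_succ, Matrix.zero_apply] at h'
    have e1 : slot (0 : Fin (n + 1)) (Y 0) (Fin.cons a fun _ => 0) (Fin.cons b fun _ => 0) = Y 0 a b := by
      rw [slot_zero_eq_kr, kr_apply, Fin.tail_cons, Fin.tail_cons, Matrix.one_apply_eq, mul_one]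
      rfl
    have e2 : ∀ i : Fin n, slot i.succ (Y i.succ) (Fin.cons a fun _ => 0) (Fin.cons b fun _ => 0) =
        if a = b then Y i.succ 0 0 else 0 := fun i => by
      rw [slot_succ_eq_kr, kr_apply, Fin.tail_cons, Fin.tail_cons, slot_apply, if_pos (fun _ _ => rfl)]
      simp [Matrix.one_apply]
    rw [e1, Finset.sum_congr rfl fun i _ => e2 i] at h'
    exact h'
  refine ⟨Y 0 0 0, Matrix.ext fun a b => ?_⟩
  have h1 := ent a b
  have h0 := ent 0 0
  rw [Matrix.smul_apply, Matrix.one_apply, smul_eq_mul]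
  split_ifs with hab
  · subst hab
    simp only [if_true] at h1 h0
    linear_combination h1 - h0
  · simp only [if_neg hab, Finset.sum_const_zero, add_zero] at h1
    rw [h1, mul_zero]

variable [Fintype F] {M : Subgroup (GL (Fin (n + 1) → Fin m) F)} (H : Hyp M)
  (hB : ¬ specialLinear (Fin (n + 1) → Fin m) F ≤ M) (ih : 2 ≤ n → Small F m n)
include H hB ih

/-- The image of a root of the first factor is a sum of factor matrices. -/
lemma exists_sum {g : GL (Fin (n + 1) → Fin m) F} (hg : g ∈ M) :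
    ∃ (o i : Fin m), o ≠ i ∧ ∃ X : Fin (n + 1) → Matrix (Fin m) (Fin m) F,
      (g : Matrix _ _ F) * e 0 o i * ((g⁻¹ : GL _ F) : Matrix _ _ F) = ∑ l, slot l (X l) := by
  classical
  haveI := H.neZero
  have hm := H.three_le
  by_cases hex : Fintype.card F = 2 ∧ m = 3
  · obtain ⟨hq, rfl⟩ := hex
    obtain ⟨X, hX⟩ := two_three H hB ih hq hg
    exact ⟨0, 2, Fin.ne_of_val_ne (by norm_num), X, hX⟩
  let o : Fin m := ⟨0, by omega⟩
  let i : Fin m := ⟨1, by omega⟩
  have hoi : o ≠ i := by simp [o, i]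
  set ψ : Matrix (Fin (n + 1) → Fin m) (Fin (n + 1) → Fin m) F :=
    pw fun s => if s = 0 then Matrix.single o i 1 else Matrix.single 0 0 1
  have hp : proj ψ = e (F := F) 0 o i := by
    rw [proj_pw, Finset.sum_eq_single (0 : Fin (n + 1))]
    · rw [Finset.prod_eq_one fun s hs => by simp [Finset.ne_of_mem_erase hs], one_smul, if_pos rfl, e]
    · intro l _ hl
      rw [Finset.prod_eq_zero (Finset.mem_erase.2 ⟨hl.symm, Finset.mem_univ (0 : Fin (n + 1))⟩)
        (by simp [hoi]), zero_smul]
    · simp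
  have htr : ψ.trace = 0 := by
    show (pw _).trace = 0
    rw [show (fun s : Fin (n + 1) => if s = 0 then Matrix.single o i (1 : F) else Matrix.single 0 0 1) =
      fun s => Matrix.single (if s = 0 then o else 0) (if s = 0 then i else 0) 1 from
      funext fun s => by split_ifs <;> rfl, pw_single]
    exact Matrix.trace_single_eq_of_ne _ _ _ fun h => hoi (by simpa using congrFun h 0)
  refine ⟨o, i, hoi, fun l => ptr l (cjLin g ψ), ?_⟩
  rw [← hp, ← cjLin_apply, proj_equivariant H hB ih hex hg htr]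
  rfl

/-- Every member of the group lies in the wreath group. -/
theorem mem_wreath {g : GL (Fin (n + 1) → Fin m) F} (hg : g ∈ M) :
    g ∈ tensorWreathStandard m (n + 1) F := by
  classical
  haveI := H.neZero
  have hm := H.three_le
  obtain ⟨o, i, hoi, X, hX⟩ := exists_sum H hB ih hg
  obtain ⟨p, hp⟩ := CharP.exists F
  haveI := hp
  haveI : Fact p.Prime := ⟨CharP.char_is_prime F p⟩
  set N : Matrix (Fin (n + 1) → Fin m) (Fin (n + 1) → Fin m) F :=
    (g : Matrix _ _ F) * e 0 o i * ((g⁻¹ : GL _ F) : Matrix _ _ F) with hN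
  have hNN : N * N = 0 := by
    rw [hN]
    simp only [mul_assoc, Units.inv_mul_cancel_left]
    rw [← mul_assoc (e 0 o i), e_mul_of_ne _ _ _ hoi.symm, zero_mul, mul_zero]
  -- every summand has one eigenvalue
  have hpow : ∀ S : Finset (Fin (n + 1)), (∑ l ∈ S, slot l (X l)) ^ p = ∑ l ∈ S, slot l (X l ^ p) := by
    intro S
    induction S using Finset.induction_on with
    | empty => simp [(Fact.out : p.Prime).ne_zero]
    | @insert a S ha ihS =>
      rw [Finset.sum_insert ha, Finset.sum_insert ha, add_pow_char_of_commute (p := p)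
        (h := Commute.sum_right _ _ _ fun l hl => slot_commute (fun (e : a = l) => ha (e ▸ hl)) _ _),
        ihS, slot_pow]
  have hz : ∑ l, slot l (X l ^ p) = 0 := by
    rw [← hpow, ← hX, pow_eq_zero_of_le (Fact.out : p.Prime).two_le (by rw [sq, hNN])]
  obtain ⟨c, hc⟩ := scalar_of_sum_slot_eq_zero hz
  obtain ⟨l, hl⟩ := exists_shift p 1 (Z := X 0) (c := c) (by rw [pow_one]; exact hc)
  rw [pow_one] at hl
  set Z := X 0 - l • (1 : Matrix (Fin m) (Fin m) F) with hZ
  -- a root of the first factor commuting with the first summand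
  obtain ⟨u, τ, hu, hτ, h0, hZu, hτZ⟩ : ∃ u τ : Fin m → F, u ≠ 0 ∧ τ ≠ 0 ∧ τ ⬝ᵥ u = 0 ∧ Z *ᵥ u = 0 ∧ τ ᵥ* Z = 0 := by
    by_cases hZ0 : Z = 0
    · exact ⟨Pi.single o 1, Pi.single i 1, fun h => by simpa using congrFun h o,
        fun h => by simpa using congrFun h i, by simp [hoi.symm], by rw [hZ0, zero_mulVec], by rw [hZ0, vecMul_zero]⟩
    have hex : ∃ k, Z ^ (k + 2) = 0 := ⟨p - 2, by
      rw [Nat.sub_add_cancel (Fact.out : p.Prime).two_le, hl]⟩
    set k := Nat.find hex
    have hk : Z ^ (k + 2) = 0 := Nat.find_spec hex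
    have hk1 : Z ^ (k + 1) ≠ 0 := by
      rcases Nat.eq_zero_or_pos k with h | h
      · rw [h, zero_add, pow_one]; exact hZ0
      · have := Nat.find_min hex (m := k - 1) (by omega)
        rwa [show k - 1 + 2 = k + 1 by omega] at this
    obtain ⟨w, hw⟩ : ∃ w, Z ^ (k + 1) *ᵥ w ≠ 0 := by
      by_contra hcon
      push Not at hcon
      exact hk1 (Matrix.ext_of_mulVec_single fun a => by rw [hcon, zero_mulVec])
    obtain ⟨τ, hτ, hτZ⟩ : ∃ τ, τ ≠ 0 ∧ τ ᵥ* Z = 0 := by
      refine Matrix.exists_vecMul_eq_zero_iff.2 ?_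
      have h := congrArg Matrix.det hk
      rw [det_pow, det_zero] at h
      exact pow_eq_zero_iff (by omega) |>.1 h
    refine ⟨_, τ, hw, hτ, ?_, ?_, hτZ⟩
    · rw [dotProduct_mulVec, pow_succ', ← vecMul_vecMul, hτZ, zero_vecMul, zero_dotProduct]
    · rw [mulVec_mulVec, ← pow_succ', hk, zero_mulVec]
  have hXE : Commute (X 0) (vecMulVec u τ) := by
    have : X 0 = Z + l • 1 := by rw [hZ, sub_add_cancel]
    rw [this]
    refine Commute.add_left ?_ ((Commute.one_left _).smul_left l)
    show Z * vecMulVec u τ = vecMulVec u τ * Z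
    rw [mul_vecMulVec, hZu, vecMulVec_mul, hτZ, zero_vecMulVec, vecMulVec_zero]
  -- the image of the root lies in the wreath group
  obtain ⟨R, hR1, hR⟩ := exists_root_pwUnit (F := F) (0 : Fin (n + 1)) (X := Matrix.single o i (1 : F))
    (single_mul_single_of_ne _ _ _ _ hoi.symm _)
  set a : GL (Fin (n + 1) → Fin m) F := pwUnit (Function.update 1 0 R) with ha
  set z := g * a * g⁻¹ with hz'
  have hzM : z ∈ M := M.mul_mem (M.mul_mem hg (H.slot_sl 0 R hR1)) (M.inv_mem hg)
  have hzv : (z : Matrix (Fin (n + 1) → Fin m) (Fin (n + 1) → Fin m) F) = 1 + N := by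
    rw [hz', Units.val_mul, Units.val_mul, hR, mul_add, add_mul, mul_one, ← Units.val_mul, mul_inv_cancel,
      Units.val_one, hN, e]
  have hcomm : Commute (z : Matrix (Fin (n + 1) → Fin m) (Fin (n + 1) → Fin m) F) (slot 0 (vecMulVec u τ)) := by
    rw [hzv, hX]
    refine (Commute.one_left _).add_left (Commute.sum_left _ _ _ fun l' _ => ?_)
    rcases eq_or_ne l' 0 with rfl | hl'
    · show slot 0 (X 0) * slot 0 _ = slot 0 _ * slot 0 (X 0)
      rw [slot_mul, slot_mul, hXE.eq]
    · exact slot_commute hl' _ _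
  obtain ⟨A, hA1, hA⟩ := exists_sl_conj hm hoi hu hτ h0
  set h : GL (Fin (n + 1) → Fin m) F := pwUnit (Function.update 1 0 A) with hh
  have hhv : (h : Matrix (Fin (n + 1) → Fin m) (Fin (n + 1) → Fin m) F) = slot 0 A.val := (slot_eq_pwUnit 0 A).symm
  have hzH : z ∈ tensorWreathStandard m (n + 1) F := by
    have h1 : h * z * h⁻¹ ∈ tensorWreathStandard m (n + 1) F := by
      refine centraliser H hB ih (M.mul_mem (M.mul_mem (H.slot_sl 0 A hA1) hzM)
        (M.inv_mem (H.slot_sl 0 A hA1))) (s := 0) hoi ?_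
      have hE : e 0 o i = (h : Matrix (Fin (n + 1) → Fin m) (Fin (n + 1) → Fin m) F) * slot 0 (vecMulVec u τ) *
          ((h⁻¹ : GL _ F) : Matrix _ _ F) := by
        rw [hhv, slot_mul, hA, ← slot_mul, ← hhv, Units.mul_inv_cancel_right, e]
      rw [hE, Units.val_mul, Units.val_mul]
      simp only [mul_assoc, Units.inv_mul_cancel_left]
      rw [← mul_assoc z.val, hcomm.eq, mul_assoc]
    have hhH : h ∈ tensorWreathStandard m (n + 1) F := pwUnit_mem _
    have := mul_mem (mul_mem (inv_mem hhH) h1) hhH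
    simpa [mul_assoc] using this
  have key' := key H hB ih (M.inv_mem hg) (s := 0) (u := Pi.single o 1) (τ := Pi.single i 1)
    (fun h => by simpa using congrFun h o) (fun h => by simpa using congrFun h i) (by simp [hoi.symm]) hzH (by
      rw [hz', Units.val_mul, Units.val_mul, ← mul_assoc, ← mul_assoc, ← Units.val_mul, inv_mul_cancel,
        Units.val_one, one_mul, hR, ← single_eq_vmv])
  simpa using inv_mem key'

omit H hB ih

/-- The maximality statement for every number of factors. -/
theorem small_all : ∀ t, 1 ≤ t → Small F m t := by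
  intro t
  induction t with
  | zero => intro h; omega
  | succ k ih =>
    intro _ M' H' hB' g hg
    exact mem_wreath H' hB' (fun h2 => ih (by omega)) hg

/-- The stabilisers of tensor power decompositions are maximal. -/
theorem wreath_maximal {ι : Type} [Fintype ι] [DecidableEq ι] (hm : 3 ≤ m) {t : ℕ} (ht : 2 ≤ t)
    (ε : ι ≃ (Fin t → Fin m)) (P : GL ι F) :
    IsMaximalIn (specialLinear ι F) (tensorWreathSubgroup m t ε P ⊓ specialLinear ι F) := by
  classical
  set Φ : GL (Fin t → Fin m) F ≃* GL ι F := (glReindex ε.symm).trans (MulAut.conj P) with hΦ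
  have hmem : ∀ k, Φ k ∈ tensorWreathSubgroup m t ε P ↔ k ∈ tensorWreathStandard m t F := by
    intro k
    constructor
    · rintro ⟨_, ⟨k', hk', rfl⟩, hy⟩
      have : k' = k := ((glReindex ε.symm).trans (MulAut.conj P)).injective hy
      exact this ▸ hk'
    · exact fun hk => ⟨_, ⟨k, hk, rfl⟩, rfl⟩
  have hdet : ∀ g : GL (Fin t → Fin m) F, Φ g ∈ specialLinear ι F ↔
      Matrix.det (g : Matrix (Fin t → Fin m) (Fin t → Fin m) F) = 1 := by
    intro g
    rw [specialLinear, MonoidHom.mem_ker, Units.ext_iff, GeneralLinearGroup.val_det_apply, Units.val_one]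
    have : Matrix.det (Φ g : Matrix ι ι F) = Matrix.det (g : Matrix (Fin t → Fin m) (Fin t → Fin m) F) := by
      rw [hΦ, MulEquiv.trans_apply, MulAut.conj_apply, Units.val_mul, Units.val_mul, Matrix.det_units_conj]
      show Matrix.det (Matrix.reindex ε.symm ε.symm _) = _
      rw [Matrix.det_reindex_self]
    rw [this]
  refine isMaximalIn_of inf_le_right ?_ ?_
  · obtain ⟨g, hg, hg'⟩ := SetLike.not_le_iff_exists.1 (sl_not_le_wreath hm ht ε P)
    exact ⟨g, hg, fun h => hg' h.1⟩
  intro M hHM hMK g hgM hgH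
  set M' := M.comap Φ.toMonoidHom
  have H' : Hyp M' := ⟨hm, fun k hk hd => hHM ⟨(hmem k).2 hk, (hdet k).2 hd⟩⟩
  by_cases hsl : specialLinear (Fin t → Fin m) F ≤ M'
  · intro y hy
    have hs : Φ.symm y ∈ specialLinear (Fin t → Fin m) F := by
      rw [specialLinear, MonoidHom.mem_ker]
      refine Units.ext ?_
      rw [GeneralLinearGroup.val_det_apply, Units.val_one]
      exact (hdet _).1 (by rw [Φ.apply_symm_apply]; exact hy)
    have := hsl hs
    rwa [Subgroup.mem_comap, MulEquiv.coe_toMonoidHom, Φ.apply_symm_apply] at this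
  · exfalso
    have hg' : Φ.symm g ∈ M' := by
      show Φ (Φ.symm g) ∈ M
      rw [Φ.apply_symm_apply]; exact hgM
    have h1 := small_all (F := F) (m := m) t (by omega) M' H' hsl hg'
    exact hgH ⟨by simpa using (hmem _).2 h1, hMK hgM⟩

end CfsgLib.ClassicalMax.TensorWreath
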